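import Mathlib
import Groth.Prelude.Def_Coh
import Groth.Agent.Lib.Helper1.QcAbel
import Groth.Agent.Lib.Helper1.PushQc

/-!
# Quasi-coherence descends along the direct image of a closed immersion into an affine scheme
(helper5)
-/

set_option autoImplicit false
universe u
open CategoryTheory CategoryTheory.Limits AlgebraicGeometry TopologicalSpace Opposite

namespace Groth.Agent.Lib.Helper5.ClosedPushQC

open Groth.Agent.Helper1.QcCech Groth.Agent.Helper1.TildeQC PrimeSpectrum
  Groth.Agent.Helper1 Groth.Agent.Helper1.PushQc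

variable {X : Scheme.{u}}

/-- the chart criterion at one affine open: kill and extension properties at `V` give that the
restriction to `Spec Γ(X, V)` is a tilde -/
theorem isIso_fromTildeΓ_of_kill_ext_at (G : X.Modules) (V : X.Opens) (hV : IsAffineOpen V)
    (hk : ∀ (f : Γ(X, V)) (O : X.Opens) (hO : O = X.basicOpen f)
      (t : Γ(G, V)), res G (hO.le.trans (X.basicOpen_le f)) t = 0 → ∃ n : ℕ, f ^ n • t = 0)
    (he : ∀ (f : Γ(X, V)) (O : X.Opens) (hO : O = X.basicOpen f)
      (y : Γ(G, O)), ∃ (n : ℕ) (t : Γ(G, V)), res G (hO.le.trans (X.basicOpen_le f)) t =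
        (resR (hO.le.trans (X.basicOpen_le f)) f) ^ n • y) :
    IsIso (G.restrict hV.fromSpec).fromTildeΓ := by
  apply isIso_fromTildeΓ_of
  · intro g y
    have e1 : hV.fromSpec ''ᵁ (basicOpen g) = X.basicOpen g := hV.fromSpec_image_basicOpen g
    have e0 : hV.fromSpec ''ᵁ ⊤ = V := QcLoc.image_top hV
    let y' : Γ(G, hV.fromSpec ''ᵁ (basicOpen g)) := y
    obtain ⟨n, t, ht⟩ := he g _ e1 y'
    refine ⟨n, (res G e0.le t : Γ(G, hV.fromSpec ''ᵁ ⊤)), ?_⟩
    rw [act_def, QcLoc.smul_eq hV G (basicOpen g) (g ^ n) y]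
    have hle : hV.fromSpec ''ᵁ (basicOpen g) ≤ hV.fromSpec ''ᵁ ⊤ :=
      (hV.fromSpec.opensFunctor.map (basicOpen g).leTop).le
    change resR (QcLoc.image_le hV (basicOpen g)) (g ^ n) • y' = res G hle (res G e0.le t)
    rw [res_res, map_pow]
    exact ht.symm
  · intro g t ht
    have e1 : hV.fromSpec ''ᵁ (basicOpen g) = X.basicOpen g := hV.fromSpec_image_basicOpen g
    have e0 : hV.fromSpec ''ᵁ ⊤ = V := QcLoc.image_top hV
    let t' : Γ(G, hV.fromSpec ''ᵁ ⊤) := t
    have hle : hV.fromSpec ''ᵁ (basicOpen g) ≤ hV.fromSpec ''ᵁ ⊤ :=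
      (hV.fromSpec.opensFunctor.map (basicOpen g).leTop).le
    have ht' : res G hle t' = 0 := ht
    obtain ⟨n, hn⟩ := hk g _ e1 (res G e0.ge t') (by
      rw [res_res]
      exact ht')
    refine ⟨n, ?_⟩
    rw [act_def, QcLoc.smul_eq hV G ⊤ (g ^ n) t]
    change resR (QcLoc.image_le hV ⊤) (g ^ n) • t' = 0
    have h2 := congrArg (res G e0.le) hn
    rw [res_smul, res_res, res_self, map_zero] at h2
    exact h2

variable {Z P : Scheme.{u}}

/-- **a module on `Z` whose direct image along a closed immersion `c : Z ⟶ P` into an affine scheme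
is quasi-coherent is quasi-coherent** -/
theorem isQuasicoherent_of_pushforward (c : Z ⟶ P) [IsClosedImmersion c] [IsAffine P]
    (M : Z.Modules) [hG : ((Scheme.Modules.pushforward c).obj M).IsQuasicoherent] :
    M.IsQuasicoherent := by
  obtain ⟨hZa, hsurj⟩ := IsClosedImmersion.isAffine_surjective_of_isAffine c
  haveI := hZa
  let G : P.Modules := (Scheme.Modules.pushforward c).obj M
  have hP : IsAffineOpen (⊤ : P.Opens) := isAffineOpen_top P
  have hZ : IsAffineOpen (⊤ : Z.Opens) := isAffineOpen_top Z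
  have hkG := QcAbel.killP_of_isQuasicoherent G
  have heG := QcAbel.extP_of_isQuasicoherent G
  refine QCohLib.isQuasicoherent_of_affine_charts M (I := PUnit.{u + 1}) (fun _ => Γ(Z, ⊤))
    (fun _ => hZ.fromSpec) ?_ (fun _ => ?_)
  · rw [hZ.opensRange_fromSpec]
    exact ciSup_const
  · apply isIso_fromTildeΓ_of_kill_ext_at M ⊤ hZ
    · intro g O hO t ht
      obtain ⟨g', rfl⟩ := hsurj g
      have e : c ⁻¹ᵁ (P.basicOpen g') = O := by
        rw [hO, Scheme.preimage_basicOpen]
        congr 1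
      obtain ⟨n, hn⟩ := hkG ⊤ hP g' (P.basicOpen g') rfl (show Γ(G, ⊤) from t) (by
        subst e
        exact ht)
      refine ⟨n, ?_⟩
      have h1 := push_smul c M ⊤ (g' ^ n) (show Γ(G, ⊤) from t)
      rw [hn] at h1
      rw [map_pow] at h1
      exact h1.symm
    · intro g O hO y
      obtain ⟨g', rfl⟩ := hsurj g
      have e : c ⁻¹ᵁ (P.basicOpen g') = O := by
        rw [hO, Scheme.preimage_basicOpen]
        congr 1
      subst e
      obtain ⟨n, t, ht⟩ := heG ⊤ hP g' (P.basicOpen g') rfl (show Γ(G, P.basicOpen g') from y)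
      refine ⟨n, (show Γ(M, ⊤) from t), ?_⟩
      have h1 := push_smul c M (P.basicOpen g')
        ((resR (le_top : P.basicOpen g' ≤ ⊤) g') ^ n) (show Γ(G, P.basicOpen g') from y)
      rw [← ht] at h1
      refine h1.trans ?_
      rw [map_pow]
      have h3 : (c.app (P.basicOpen g')).hom (resR (le_top : P.basicOpen g' ≤ ⊤) g') =
          resR (hO.le.trans (Z.basicOpen_le _)) (c.appTop.hom g') :=
        congrArg (fun φ => φ.hom g') (c.naturality (homOfLE (le_top : P.basicOpen g' ≤ ⊤)).op)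
      rw [h3]

end Groth.Agent.Lib.Helper5.ClosedPushQC
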