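import Mathlib
import Groth.Prelude.Def_DCoh3
import Groth.Prelude.Def_DerSch2
import Groth.Agent.Lib.Helper5.RelPC.ClosedPushQC
import Groth.Agent.Lib.Helper5.Misc.ClosedPushMod
import Groth.Agent.Lib.Helper5.Stalk.RpushSupp
import Groth.Agent.Lib.Helper5.Perf.PerfCoh
import Groth.Agent.Lib.Helper1.QcAbel
import Groth.Agent.Lib.Helper1.QCohLib

/-!
# Relatively pseudo-coherent objects have quasi-coherent cohomology (helper5)
-/

set_option autoImplicit false
universe u
open CategoryTheory CategoryTheory.Limits AlgebraicGeometry Opposite TopologicalSpace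

attribute [local instance] HasDerivedCategory.standard

namespace Groth.Agent.Lib.Helper5.RelPCQC

open Groth.Agent.Helper1 Groth.Agent.Lib.Helper5.RpushSupp Groth.Agent.Lib.Helper5.PerfCoh

variable {X Y : Scheme.{u}}

/-- quasi-coherence is local for covers by affine opens -/
theorem isQuasicoherent_of_local (F : X.Modules)
    (h : ∀ x : X, ∃ U : X.Opens, IsAffineOpen U ∧ x ∈ U ∧ (F.restrict U.ι).IsQuasicoherent) :
    F.IsQuasicoherent := by
  choose U hU hxU hF using h
  refine QCohLib.isQuasicoherent_of_affine_charts F (I := X) (fun x => Γ(X, U x))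
    (fun x => (hU x).fromSpec) ?_ ?_
  · refine top_le_iff.mp fun y _ => Opens.mem_iSup.mpr ⟨y, ?_⟩
    rw [(hU y).opensRange_fromSpec]
    exact hxU y
  · intro x
    haveI := hF x
    haveI : IsAffine ((U x : X.Opens) : Scheme.{u}) := hU x
    haveI : (F.restrict (hU x).fromSpec).IsQuasicoherent := by
      have e : F.restrict (hU x).fromSpec ≅ (F.restrict (U x).ι).restrict (hU x).isoSpec.inv :=
        (Scheme.Modules.restrictFunctorComp (hU x).isoSpec.inv (U x).ι).app F
      haveI : ((F.restrict (U x).ι).restrict (hU x).isoSpec.inv).IsQuasicoherent :=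
        inferInstanceAs ((Scheme.Modules.restrictFunctor (hU x).isoSpec.inv).obj
          (F.restrict (U x).ι)).IsQuasicoherent
      exact QcAbel.isQuasicoherent_of_iso e.symm
    exact Scheme.Modules.isIso_fromTildeΓ_of_isQuasicoherent _

/-- the chart morphism of an affine open along a surjection is a closed immersion -/
theorem isClosedImmersion_chartImm (U : X.Opens) (hU : IsAffineOpen U) {R : Type u} [CommRing R]
    {n : ℕ} (φ : MvPolynomial (Fin n) R →+* Γ(X, U)) (hφ : Function.Surjective φ) :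
    IsClosedImmersion (DerSch.chartImm U φ) := by
  haveI : IsIso U.toSpecΓ := by
    rw [← hU.isoSpec_hom]
    infer_instance
  haveI : IsClosedImmersion (Spec.map (CommRingCat.ofHom φ)) :=
    IsClosedImmersion.spec_of_surjective _ hφ
  unfold DerSch.chartImm
  infer_instance

section Push

variable {Z P : Scheme.{u}} (c : Z ⟶ P) [IsClosedImmersion c]

/-- cohomology commutes with the (exact) direct image along a closed immersion -/
theorem nonempty_HD_pushCx_iso (G : CochainComplex Z.Modules ℤ) (i : ℤ) :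
    Nonempty (DCoh.HD (DCoh.toD P ((DerSch.pushCx c).obj G)) i ≅
      (Scheme.Modules.pushforward c).obj (DCoh.HD (DCoh.toD Z G) i)) := by
  haveI : PreservesColimitsOfSize.{u, u} (Scheme.Modules.pushforward c) :=
    Groth.Agent.Lib.Helper5.ClosedPushMod.preservesColimits_pushforward c
  haveI : PreservesFiniteColimits (Scheme.Modules.pushforward c) :=
    PreservesColimitsOfSize.preservesFiniteColimits _
  haveI : PreservesLimitsOfSize.{u, u} (Scheme.Modules.pushforward c) :=
    (Scheme.Modules.pullbackPushforwardAdjunction c).rightAdjoint_preservesLimits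
  haveI : PreservesFiniteLimits (Scheme.Modules.pushforward c) :=
    PreservesLimitsOfSize.preservesFiniteLimits _
  haveI : (Scheme.Modules.pushforward c).Additive := Functor.additive_of_preserves_binary_products _
  exact ⟨(DerivedCategory.homologyFunctorFactors P.Modules i).app _ ≪≫
    (G.sc i).mapHomologyIso (Scheme.Modules.pushforward c) ≪≫
    (Scheme.Modules.pushforward c).mapIso
      ((DerivedCategory.homologyFunctorFactors Z.Modules i).app G).symm⟩

end Push

/-- **the cohomology sheaves of an object `m`-pseudo-coherent relative to `f` are quasi-coherent in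
degrees `> m`** -/
theorem isQCoh_HD_of_isPseudoCoherentRel (f : X ⟶ Y) (m : ℤ) (E : DCoh.D X)
    (hE : DerSch.IsPseudoCoherentRel f m E) (i : ℤ) (hi : m < i) : Coh.IsQCoh (DCoh.HD E i) := by
  obtain ⟨-, 𝒱, h𝒱, hV⟩ := hE
  let G : CochainComplex X.Modules ℤ := DerivedCategory.Q.objPreimage E
  let e : DCoh.toD X G ≅ E := DerivedCategory.Q.objObjPreimageIso E
  apply isQuasicoherent_of_local
  intro x
  have hx : f x ∈ (⨆ V ∈ 𝒱, (V : Y.Opens)) := by rw [h𝒱]; trivial
  simp only [Opens.mem_iSup] at hx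
  obtain ⟨V, hV𝒱, hxV⟩ := hx
  obtain ⟨𝒰, h𝒰, hU⟩ := hV V hV𝒱
  have hx' : x ∈ (⨆ U ∈ 𝒰, (U : X.Opens)) := by rw [h𝒰]; exact hxV
  simp only [Opens.mem_iSup] at hx'
  obtain ⟨U, hU𝒰, hxU⟩ := hx'
  have hle : (U : X.Opens) ≤ f ⁻¹ᵁ (V : Y.Opens) := by
    rw [← h𝒰]
    exact le_iSup₂ (f := fun (W : X.affineOpens) (_ : W ∈ 𝒰) => (W : X.Opens)) U hU𝒰
  obtain ⟨n, φ, hchart, hpc⟩ := hU U hU𝒰 hle
  refine ⟨U, U.2, hxU, ?_⟩
  -- the chart
  let c := DerSch.chartImm (U : X.Opens) φ
  haveI : IsClosedImmersion c := isClosedImmersion_chartImm (U : X.Opens) U.2 φ hchart.1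
  let GU : CochainComplex ((U : X.Opens) : Scheme.{u}).Modules ℤ := (DCoh.restrictCx U).obj G
  have h1 := hpc G ⟨e⟩
  have h2 : Coh.IsQCoh (DCoh.HD (DCoh.toD _ ((DerSch.pushCx c).obj GU)) i) :=
    (qcoh_of_isPseudoCoherentD m _ h1).1 i hi
  obtain ⟨e3⟩ := nonempty_HD_pushCx_iso c GU i
  haveI : ((Scheme.Modules.pushforward c).obj (DCoh.HD (DCoh.toD _ GU) i)).IsQuasicoherent := by
    haveI := h2
    exact QcAbel.isQuasicoherent_of_iso e3
  haveI h4 : (DCoh.HD (DCoh.toD _ GU) i).IsQuasicoherent :=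
    Groth.Agent.Lib.Helper5.ClosedPushQC.isQuasicoherent_of_pushforward c _
  let e5 : DCoh.HD (DCoh.toD _ GU) i ≅ (DCoh.HD E i).restrict (U : X.Opens).ι :=
    (hdRestrictDIso E U i ≪≫ (DerivedCategory.homologyFunctor _ i).mapIso
      ((DCoh.restrictD (U : X.Opens).ι).mapIso e.symm ≪≫
        (Scheme.Modules.restrictFunctor (U : X.Opens).ι).mapDerivedCategoryFactors.app G)).symm
  exact QcAbel.isQuasicoherent_of_iso e5

end Groth.Agent.Lib.Helper5.RelPCQC
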