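import Mathlib
import Groth.Prelude.Def_DCoh3
import Groth.Prelude.Def_DerSch2
import Groth.Agent.Lib.Helper5.FinPC.FinPush
import Groth.Agent.Lib.Helper5.TildePC.ResTilde
import Groth.Agent.Lib.Helper5.RelPC.RelPCQC
import Groth.Agent.Lib.Helper5.DRing.RelPC8
import Groth.Agent.Lib.Helper5.Perf.PCCohNoeth
import Groth.Agent.Lib.Helper5.QC.TildeExact

/-!
# Relative pseudo-coherence of quasi-coherent objects: affine communication (helper5)
-/
set_option autoImplicit false
set_option linter.style.haveILetI false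
universe u
open CategoryTheory CategoryTheory.Limits AlgebraicGeometry Opposite TopologicalSpace

attribute [local instance] HasDerivedCategory.standard

namespace Groth.Agent.Lib.Helper5.AffComm

open Groth.Agent.Lib.Helper5.PerfTri Groth.Agent.Lib.Helper5.PCApprox
  Groth.Agent.Lib.Helper5.PCBiprod Groth.Agent.Lib.Helper5.PCTri
  Groth.Agent.Lib.Helper5.IsoSq Groth.Agent.Lib.Helper5.QC Groth.Agent.Lib.Helper5.TildePC
  Groth.Agent.Lib.Helper5.FinPush Groth.Agent.Helper1

variable {X : Scheme.{u}}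

/-- `E` restricted to the spectrum of an affine open -/
noncomputable abbrev resSpec (E : DCoh.D X) {U : X.Opens} (hU : IsAffineOpen U) :
    DCoh.D (Spec Γ(X, U)) :=
  (DCoh.restrictD hU.fromSpec).obj E

section pushIso
variable {Y Y' : Scheme.{u}} (β : Y ≅ Y')

/-- restriction along an isomorphism is an equivalence -/
noncomputable def restrictEquiv : Y'.Modules ≌ Y.Modules :=
  CategoryTheory.Equivalence.mk (Scheme.Modules.restrictFunctor β.hom) (Scheme.Modules.restrictFunctor β.inv)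
    (resInvHom β.symm).symm (resInvHom β)

/-- direct image along an isomorphism is restriction along the inverse -/
noncomputable def pushIsoRestr :
    Scheme.Modules.pushforward β.hom ≅ Scheme.Modules.restrictFunctor β.inv :=
  Adjunction.rightAdjointUniq (Scheme.Modules.restrictAdjunction β.hom)
    (restrictEquiv β).toAdjunction

end pushIso

/-- the hypothesis form of the statement: termwise direct image along `U ≅ Spec Γ(U)` -/
theorem nonempty_pushCx_isoSpec_iso (G : CochainComplex X.Modules ℤ) {U : X.Opens}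
    (hU : IsAffineOpen U) :
    Nonempty (DCoh.toD (Spec Γ(X, U))
        ((DerSch.pushCx hU.isoSpec.hom).obj ((DCoh.restrictCx U).obj G)) ≅
      resSpec (DCoh.toD X G) hU) := by
  let GU := (DCoh.restrictCx U).obj G
  let β := hU.isoSpec
  refine ⟨DerivedCategory.Q.mapIso ((NatIso.mapHomologicalComplex (pushIsoRestr β)
      (ComplexShape.up ℤ)).app GU) ≪≫
    ((Scheme.Modules.restrictFunctor β.inv).mapDerivedCategoryFactors.app GU).symm ≪≫
    (DCoh.restrictD β.inv).mapIso
      ((Scheme.Modules.restrictFunctor U.ι).mapDerivedCategoryFactors.app G).symm ≪≫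
    (restrictDCompObjIso β.inv U.ι (DCoh.toD X G)).symm ≪≫ ?_⟩
  exact restrictDCongrObjIso rfl _

/-- a quasi-coherent object restricted to an affine open comes from a complex of modules -/
theorem exists_tilde (E : DCoh.D X) (hE : DCoh.IsQCohD E) {U : X.Opens} (hU : IsAffineOpen U)
    [PreservesFiniteLimits (tilde.functor Γ(X, U))] :
    ∃ M : Dual.D Γ(X, U), Nonempty ((DCoh.tildeD Γ(X, U)).obj M ≅ resSpec E hU) := by
  have hq : DCoh.IsQCohD (resSpec E hU) := fun i => by
    haveI : (DCoh.HD E i).IsQuasicoherent := hE i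
    haveI : ((DCoh.HD E i).restrict hU.fromSpec).IsQuasicoherent :=
      inferInstanceAs ((Scheme.Modules.restrictFunctor hU.fromSpec).obj
        (DCoh.HD E i)).IsQuasicoherent
    exact QcAbel.isQuasicoherent_of_iso
      (Groth.Agent.Lib.Helper5.PCCoh.hdRestrictJIso hU.fromSpec E i).symm
  exact ((tildeD_main Γ(X, U)).2.2 _).1 hq

/-- `tildeD` reflects isomorphy -/
theorem nonempty_iso_of_tildeD (R : CommRingCat.{u}) [PreservesFiniteLimits (tilde.functor R)]
    {M M' : DerivedCategory (ModuleCat.{u} R)}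
    (e : (DCoh.tildeD R).obj M ≅ (DCoh.tildeD R).obj M') : Nonempty (M ≅ M') := by
  obtain ⟨h1, h2, -⟩ := tildeD_main R
  haveI := h1
  haveI := h2
  exact ⟨(DCoh.tildeD R).preimageIso e⟩

section dict
variable (E : DCoh.D X) {U : X.Opens} (hU : IsAffineOpen U) (g : Γ(X, U))

/-- the restriction map to a basic open -/
noncomputable abbrev resBasic : Γ(X, U) ⟶ Γ(X, X.basicOpen g) :=
  X.presheaf.map (homOfLE (X.basicOpen_le g)).op

include hU in
theorem isOpenImmersion_spec_resBasic : IsOpenImmersion (Spec.map (resBasic g)) := by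
  have h := hU.map_fromSpec (hU.basicOpen g) (homOfLE (X.basicOpen_le g)).op
  haveI : IsOpenImmersion (Spec.map (resBasic g) ≫ hU.fromSpec) := by
    rw [show Spec.map (resBasic g) ≫ hU.fromSpec = (hU.basicOpen g).fromSpec from h]
    infer_instance
  exact IsOpenImmersion.of_comp (Spec.map (resBasic g)) hU.fromSpec


/-- **dictionary**: the module complex of `E` on a basic open is the localisation of the one
on the ambient affine open -/
theorem nonempty_dict [PreservesFiniteLimits (tilde.functor Γ(X, U))]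
    [PreservesFiniteLimits (tilde.functor Γ(X, X.basicOpen g))]
    (K : CochainComplex (ModuleCat.{u} Γ(X, U)) ℤ)
    (e : (DCoh.tildeD Γ(X, U)).obj (DerivedCategory.Q.obj K) ≅ resSpec E hU) :
    Nonempty ((DCoh.tildeD Γ(X, X.basicOpen g)).obj
        (DerivedCategory.Q.obj ((extCx (resBasic g)).obj K)) ≅
      resSpec E (hU.basicOpen g)) := by
  haveI := isOpenImmersion_spec_resBasic hU g
  have h := hU.map_fromSpec (hU.basicOpen g) (homOfLE (X.basicOpen_le g)).op
  exact ⟨(resTildeDIso (resBasic g) K).symm ≪≫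
    (DCoh.restrictD (Spec.map (resBasic g))).mapIso e ≪≫
    (restrictDCompObjIso (Spec.map (resBasic g)) hU.fromSpec E).symm ≪≫
    restrictDCongrObjIso h E⟩

end dict

section push
variable {Z P : Scheme.{u}} (c : Z ⟶ P) [IsClosedImmersion c]

/-- termwise direct image along a closed immersion descends to the derived category -/
theorem nonempty_pushCx_iso {G₁ G₂ : CochainComplex Z.Modules ℤ}
    (e : DCoh.toD Z G₁ ≅ DCoh.toD Z G₂) :
    Nonempty (DCoh.toD P ((DerSch.pushCx c).obj G₁) ≅ DCoh.toD P ((DerSch.pushCx c).obj G₂)) := by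
  haveI : PreservesColimitsOfSize.{u, u} (Scheme.Modules.pushforward c) :=
    Groth.Agent.Lib.Helper5.ClosedPushMod.preservesColimits_pushforward c
  haveI : PreservesFiniteColimits (Scheme.Modules.pushforward c) :=
    PreservesColimitsOfSize.preservesFiniteColimits _
  haveI : PreservesLimitsOfSize.{u, u} (Scheme.Modules.pushforward c) :=
    (Scheme.Modules.pullbackPushforwardAdjunction c).rightAdjoint_preservesLimits
  haveI : PreservesFiniteLimits (Scheme.Modules.pushforward c) :=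
    PreservesLimitsOfSize.preservesFiniteLimits _
  haveI : (Scheme.Modules.pushforward c).Additive := Functor.additive_of_preserves_binary_products _
  exact ⟨((Scheme.Modules.pushforward c).mapDerivedCategoryFactors.app G₁).symm ≪≫
    (Scheme.Modules.pushforward c).mapDerivedCategory.mapIso e ≪≫
    (Scheme.Modules.pushforward c).mapDerivedCategoryFactors.app G₂⟩

end push

/-- **chart bridge**: the pseudo-coherence test on a chart, for an object whose restriction to the
affine open is the tilde of `M`, is the algebraic one -/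
theorem chartPC_iff (E : DCoh.D X) (G : CochainComplex X.Modules ℤ) (eG : DCoh.toD X G ≅ E)
    {U : X.Opens} (hU : IsAffineOpen U) {R : Type u} [CommRing R] {n : ℕ}
    (φ : MvPolynomial (Fin n) R →+* Γ(X, U)) (hφ : Function.Surjective φ)
    [PreservesFiniteLimits (tilde.functor Γ(X, U))] (M : Dual.D Γ(X, U))
    (eM : (DCoh.tildeD Γ(X, U)).obj M ≅ resSpec E hU) (m : ℤ) :
    DCoh.IsPseudoCoherentD m (DCoh.toD (Spec (CommRingCat.of (MvPolynomial (Fin n) R)))
        ((DerSch.pushCx (DerSch.chartImm U φ)).obj ((DCoh.restrictCx U).obj G))) ↔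
      DRing.IsPseudoCoherent (MvPolynomial (Fin n) R) m ((DRing.restrictD φ).obj M) := by
  haveI : PreservesFiniteLimits (tilde.functor (CommRingCat.of (MvPolynomial (Fin n) R))) :=
    Groth.Agent.Lib.Helper5.QC.preservesFiniteLimits_tilde
      (R := CommRingCat.of (MvPolynomial (Fin n) R))
  let φ' : CommRingCat.of (MvPolynomial (Fin n) R) ⟶ Γ(X, U) := CommRingCat.ofHom φ
  let c : Spec Γ(X, U) ⟶ Spec (CommRingCat.of (MvPolynomial (Fin n) R)) := Spec.map φ'
  haveI : IsClosedImmersion c := IsClosedImmersion.spec_of_surjective _ hφ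
  let GU := (DCoh.restrictCx U).obj G
  let G' := (DerSch.pushCx hU.isoSpec.hom).obj GU
  let K : CochainComplex (ModuleCat.{u} Γ(X, U)) ℤ := DerivedCategory.Q.objPreimage M
  let eK : DerivedCategory.Q.obj K ≅ M := DerivedCategory.Q.objObjPreimageIso M
  obtain ⟨e1⟩ := nonempty_pushCx_isoSpec_iso G hU
  -- `G'` is the tilde of `K` in the derived category
  have e2 : DCoh.toD _ G' ≅ DCoh.toD _ ((tCx Γ(X, U)).obj K) :=
    e1 ≪≫ (DCoh.restrictD hU.fromSpec).mapIso eG ≪≫ eM.symm ≪≫
      (DCoh.tildeD Γ(X, U)).mapIso eK.symm ≪≫ tildeQIso Γ(X, U) K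
  obtain ⟨e3⟩ := nonempty_pushCx_iso c e2
  -- the chart morphism is a composite
  have e4 : (DerSch.pushCx (DerSch.chartImm U φ)).obj GU ≅ (DerSch.pushCx c).obj G' :=
    ((NatIso.mapHomologicalComplex (Scheme.Modules.pushforwardComp U.toSpecΓ c)
      (ComplexShape.up ℤ)).app GU).symm
  -- direct image of a tilde
  have e5 : (DerSch.pushCx c).obj ((tCx Γ(X, U)).obj K) ≅
      (tCx (CommRingCat.of (MvPolynomial (Fin n) R))).obj
        (((ModuleCat.restrictScalars.{u} φ).mapHomologicalComplex (ComplexShape.up ℤ)).obj K) :=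
    (tildePushCxIso φ').app K
  have e6 : DCoh.toD (Spec (CommRingCat.of (MvPolynomial (Fin n) R)))
        ((DerSch.pushCx (DerSch.chartImm U φ)).obj GU) ≅
      (DCoh.tildeD (CommRingCat.of (MvPolynomial (Fin n) R))).obj ((DRing.restrictD φ).obj M) :=
    DerivedCategory.Q.mapIso e4 ≪≫ e3 ≪≫ DerivedCategory.Q.mapIso e5 ≪≫
      (tildeQIso (CommRingCat.of (MvPolynomial (Fin n) R)) _).symm ≪≫
      (DCoh.tildeD (CommRingCat.of (MvPolynomial (Fin n) R))).mapIso
        (((ModuleCat.restrictScalars.{u} φ).mapDerivedCategoryFactors.app K).symm ≪≫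
          (DRing.restrictD φ).mapIso eK)
  rw [isPC_iff_of_iso e6]
  exact isPseudoCoherentD_tildeD_iff _ _ m

/-- relative pseudo-coherence is invariant under isomorphism -/
theorem relpc_of_iso {R A : Type u} [CommRing R] [CommRing A] [Algebra R A] {m : ℤ}
    {K K' : Dual.D A} (e : K ≅ K') (h : DerCA.IsRelPseudoCoherent R A m K) :
    DerCA.IsRelPseudoCoherent R A m K' := by
  obtain ⟨n, α, hα, hpc⟩ := h
  exact ⟨n, α, hα, Groth.Agent.S2087.pc_of_iso ((DRing.restrictD _).mapIso e) hpc⟩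

section relPCAt
variable {S : Scheme.{u}} (f : X ⟶ S) (E : DCoh.D X) (m : ℤ)

/-- the algebraic test of relative pseudo-coherence on a pair of affine opens -/
def RelPCAt {U : X.Opens} (hU : IsAffineOpen U) (V : S.Opens) (h : U ≤ f ⁻¹ᵁ V) : Prop :=
  ∀ M : Dual.D Γ(X, U), Nonempty ((DCoh.tildeD Γ(X, U)).obj M ≅ resSpec E hU) →
    letI := (f.appLE V U h).hom.toAlgebra
    DerCA.IsRelPseudoCoherent Γ(S, V) Γ(X, U) m M

variable {f E m}

/-- localisation on the source -/
theorem relPCAt_basicOpen (hE : DCoh.IsQCohD E) {U : X.Opens} (hU : IsAffineOpen U) (V : S.Opens)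
    (h : U ≤ f ⁻¹ᵁ V) (hft : (f.appLE V U h).hom.FiniteType) (g : Γ(X, U))
    (H : RelPCAt f E m hU V h) :
    RelPCAt f E m (hU.basicOpen g) V ((X.basicOpen_le g).trans h) := by
  intro MW ⟨eW⟩
  obtain ⟨MU, ⟨eU⟩⟩ := exists_tilde E hE hU
  let K : CochainComplex (ModuleCat.{u} Γ(X, U)) ℤ := DerivedCategory.Q.objPreimage MU
  let eK : DerivedCategory.Q.obj K ≅ MU := DerivedCategory.Q.objObjPreimageIso MU
  letI : Algebra Γ(S, V) Γ(X, U) := (f.appLE V U h).hom.toAlgebra
  letI : Algebra Γ(S, V) Γ(X, X.basicOpen g) :=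
    (f.appLE V (X.basicOpen g) ((X.basicOpen_le g).trans h)).hom.toAlgebra
  haveI : IsScalarTower Γ(S, V) Γ(X, U) Γ(X, X.basicOpen g) :=
    IsScalarTower.of_algebraMap_eq' (congrArg CommRingCat.Hom.hom
      (f.appLE_map h (homOfLE (X.basicOpen_le g)).op)).symm
  haveI : IsLocalization.Away g Γ(X, X.basicOpen g) := hU.isLocalization_basicOpen g
  haveI : Algebra.FiniteType Γ(S, V) Γ(X, U) := hft
  have h1 : DerCA.IsRelPseudoCoherent Γ(S, V) Γ(X, U) m MU := H MU ⟨eU⟩
  have h2 := relpc_of_iso eK.symm h1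
  have h3 := Groth.Agent.Helper5.PCHom.relpc_awayG g Γ(X, X.basicOpen g) K m h2
  obtain ⟨d⟩ := nonempty_dict E hU g K ((DCoh.tildeD Γ(X, U)).mapIso eK ≪≫ eU)
  obtain ⟨i⟩ := nonempty_iso_of_tildeD _ (d ≪≫ eW.symm)
  exact relpc_of_iso i h3

/-- gluing on the source -/
theorem relPCAt_of_cover {U : X.Opens} (hU : IsAffineOpen U) (V : S.Opens)
    (h : U ≤ f ⁻¹ᵁ V) (hft : (f.appLE V U h).hom.FiniteType) {r : ℕ} (g : Fin r → Γ(X, U))
    (hg : Ideal.span (Set.range g) = ⊤)
    (H : ∀ i, RelPCAt f E m (hU.basicOpen (g i)) V ((X.basicOpen_le (g i)).trans h)) :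
    RelPCAt f E m hU V h := by
  intro MU ⟨eU⟩
  let K : CochainComplex (ModuleCat.{u} Γ(X, U)) ℤ := DerivedCategory.Q.objPreimage MU
  let eK : DerivedCategory.Q.obj K ≅ MU := DerivedCategory.Q.objObjPreimageIso MU
  letI : Algebra Γ(S, V) Γ(X, U) := (f.appLE V U h).hom.toAlgebra
  letI : ∀ i, Algebra Γ(S, V) Γ(X, X.basicOpen (g i)) := fun i =>
    (f.appLE V (X.basicOpen (g i)) ((X.basicOpen_le (g i)).trans h)).hom.toAlgebra
  haveI : ∀ i, IsScalarTower Γ(S, V) Γ(X, U) Γ(X, X.basicOpen (g i)) := fun i =>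
    IsScalarTower.of_algebraMap_eq' (congrArg CommRingCat.Hom.hom
      (f.appLE_map h (homOfLE (X.basicOpen_le (g i))).op)).symm
  haveI : ∀ i, IsLocalization.Away (g i) Γ(X, X.basicOpen (g i)) := fun i =>
    hU.isLocalization_basicOpen (g i)
  haveI : Algebra.FiniteType Γ(S, V) Γ(X, U) := hft
  refine relpc_of_iso eK ?_
  refine Groth.Agent.Helper5.PCHom.relpc_of_coverG g hg (fun i => Γ(X, X.basicOpen (g i))) K m
    (fun i => ?_)
  obtain ⟨d⟩ := nonempty_dict E hU (g i) K ((DCoh.tildeD Γ(X, U)).mapIso eK ≪≫ eU)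
  exact H i _ ⟨d⟩

/-- independence of the base: a basic open of the base -/
theorem relPCAt_base_iff {W : X.Opens} (hW : IsAffineOpen W) {V : S.Opens} (hV : IsAffineOpen V)
    (r : Γ(S, V)) (h₂ : W ≤ f ⁻¹ᵁ (S.basicOpen r))
    (hft : (f.appLE (S.basicOpen r) W h₂).hom.FiniteType) :
    RelPCAt f E m hW (S.basicOpen r) h₂ ↔
      RelPCAt f E m hW V (h₂.trans (f.preimage_mono (S.basicOpen_le r))) := by
  letI : Algebra Γ(S, V) Γ(X, W) :=
    (f.appLE V W (h₂.trans (f.preimage_mono (S.basicOpen_le r)))).hom.toAlgebra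
  letI : Algebra Γ(S, S.basicOpen r) Γ(X, W) := (f.appLE (S.basicOpen r) W h₂).hom.toAlgebra
  haveI : IsScalarTower Γ(S, V) Γ(S, S.basicOpen r) Γ(X, W) :=
    IsScalarTower.of_algebraMap_eq' (congrArg CommRingCat.Hom.hom
      (f.map_appLE h₂ (homOfLE (S.basicOpen_le r)).op)).symm
  haveI : IsLocalization.Away r Γ(S, S.basicOpen r) := hV.isLocalization_basicOpen r
  haveI : Algebra.FiniteType Γ(S, S.basicOpen r) Γ(X, W) := hft
  constructor
  · intro H M hM
    exact (Groth.Agent.Helper5.PCHom.relpc_base_iffG r Γ(S, S.basicOpen r) M m).1 (H M hM)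
  · intro H M hM
    exact (Groth.Agent.Helper5.PCHom.relpc_base_iffG r Γ(S, S.basicOpen r) M m).2 (H M hM)

end relPCAt

section main
variable {S : Scheme.{u}} (f : X ⟶ S) (E : DCoh.D X) (m : ℤ)

variable {f E m} in
theorem relPCAt_congr {U U' : X.Opens} (hUU' : U = U') (hU : IsAffineOpen U)
    (hU' : IsAffineOpen U') {V V' : S.Opens} (hVV' : V = V') (h : U ≤ f ⁻¹ᵁ V)
    (h' : U' ≤ f ⁻¹ᵁ V') : RelPCAt f E m hU V h ↔ RelPCAt f E m hU' V' h' := by
  subst hUU'
  subst hVV'
  rfl

variable {f E m} in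
/-- the chart test gives the algebraic test -/
theorem relPCAt_of_chartPC {U : X.Opens} (hU : IsAffineOpen U) (V : S.Opens) (h : U ≤ f ⁻¹ᵁ V)
    {n : ℕ} (φ : MvPolynomial (Fin n) Γ(S, V) →+* Γ(X, U)) (hφ : DerSch.IsChart f U V h φ)
    (hpc : DerSch.ChartPC m E U V φ) : RelPCAt f E m hU V h := by
  intro M ⟨eM⟩
  let G : CochainComplex X.Modules ℤ := DerivedCategory.Q.objPreimage E
  let eG : DCoh.toD X G ≅ E := DerivedCategory.Q.objObjPreimageIso E
  have h1 := (chartPC_iff E G eG hU φ hφ.1 M eM m).1 (hpc G ⟨eG⟩)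
  letI : Algebra Γ(S, V) Γ(X, U) := (f.appLE V U h).hom.toAlgebra
  let α : MvPolynomial (Fin n) Γ(S, V) →ₐ[Γ(S, V)] Γ(X, U) :=
    { toRingHom := φ
      commutes' := fun r => RingHom.congr_fun hφ.2 r }
  exact ⟨n, α, hφ.1, h1⟩

variable {f E m} in
/-- the algebraic test gives the chart test, for every chart -/
theorem chartPC_of_relPCAt (hE : DCoh.IsQCohD E) {U : X.Opens} (hU : IsAffineOpen U) (V : S.Opens)
    (h : U ≤ f ⁻¹ᵁ V) (H : RelPCAt f E m hU V h) {n : ℕ}
    (α : letI := (f.appLE V U h).hom.toAlgebra; MvPolynomial (Fin n) Γ(S, V) →ₐ[Γ(S, V)] Γ(X, U))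
    (hα : Function.Surjective α) :
    DerSch.ChartPC m E U V (α : MvPolynomial (Fin n) Γ(S, V) →+* Γ(X, U)) := by
  letI : Algebra Γ(S, V) Γ(X, U) := (f.appLE V U h).hom.toAlgebra
  intro G ⟨eG⟩
  obtain ⟨M, ⟨eM⟩⟩ := exists_tilde E hE hU
  refine (chartPC_iff E G eG hU (α : MvPolynomial (Fin n) Γ(S, V) →+* Γ(X, U)) hα M eM m).2 ?_
  exact (Groth.Agent.Helper5.PCHom.relpc_iff_via α hα m M).1 (H M ⟨eM⟩)

end main

end Groth.Agent.Lib.Helper5.AffComm
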