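import Mathlib
import Groth.Agent.Lib.Helper5.RelPC.AffComm

/-!
# Relative pseudo-coherence of quasi-coherent objects is the algebraic notion on all affine pairs
(helper5)
-/
set_option autoImplicit false
set_option linter.style.haveILetI false
universe u
open CategoryTheory CategoryTheory.Limits AlgebraicGeometry Opposite TopologicalSpace

attribute [local instance] HasDerivedCategory.standard

namespace Groth.Agent.Lib.Helper5.AffComm

variable {X S : Scheme.{u}} (f : X ⟶ S) [LocallyOfFiniteType f] (E : DCoh.D X) (m : ℤ)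

omit [LocallyOfFiniteType f] in
/-- (⟸) the algebraic test on all affine pairs gives relative pseudo-coherence -/
theorem isPseudoCoherentRel_of_relPCAt [LocallyOfFiniteType f] (hE : DCoh.IsQCohD E)
    (H : ∀ (U : X.affineOpens) (V : S.affineOpens) (h : (U : X.Opens) ≤ f ⁻¹ᵁ (V : S.Opens)),
      RelPCAt f E m U.2 V h) :
    DerSch.IsPseudoCoherentRel f m E := by
  refine ⟨inferInstance, Set.univ, ?_, fun V _ =>
    ⟨{U : X.affineOpens | (U : X.Opens) ≤ f ⁻¹ᵁ (V : S.Opens)}, ?_, fun U _ h => ?_⟩⟩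
  · rw [← iSup_affineOpens_eq_top S]
    simp
  · apply le_antisymm
    · exact iSup₂_le (fun U hU => hU)
    · intro x hx
      obtain ⟨_, ⟨W, hW : IsAffineOpen W, rfl⟩, hxW, hWV⟩ :=
        X.isBasis_affineOpens.exists_subset_of_mem_open hx (f ⁻¹ᵁ (V : S.Opens)).2
      exact Opens.mem_iSup.2 ⟨⟨W, hW⟩, Opens.mem_iSup.2 ⟨hWV, hxW⟩⟩
  · have hft : (f.appLE (V : S.Opens) (U : X.Opens) h).hom.FiniteType :=
      HasRingHomProperty.appLE @LocallyOfFiniteType f inferInstance V U h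
    letI : Algebra Γ(S, (V : S.Opens)) Γ(X, (U : X.Opens)) :=
      (f.appLE (V : S.Opens) (U : X.Opens) h).hom.toAlgebra
    haveI : Algebra.FiniteType Γ(S, (V : S.Opens)) Γ(X, (U : X.Opens)) := hft
    obtain ⟨n, α, hα⟩ := Groth.Agent.Helper5.PCHom.exists_presentation
      (R := Γ(S, (V : S.Opens))) (A := Γ(X, (U : X.Opens)))
    have hc : DerSch.IsChart f (U : X.Opens) (V : S.Opens) h
        (α : MvPolynomial (Fin n) Γ(S, (V : S.Opens)) →+* Γ(X, (U : X.Opens))) :=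
      ⟨hα, RingHom.ext (fun r => α.commutes r)⟩
    have hp := chartPC_of_relPCAt hE U.2 (V : S.Opens) h (H U V h) α hα
    exact ⟨n, _, hc, hp⟩

omit [LocallyOfFiniteType f] in
/-- the local step of (⟹) -/
theorem exists_basicOpen_relPCAt [LocallyOfFiniteType f] (hE : DCoh.IsQCohD E)
    (hrel : DerSch.IsPseudoCoherentRel f m E) (U : X.affineOpens) (V : S.affineOpens)
    (h : (U : X.Opens) ≤ f ⁻¹ᵁ (V : S.Opens)) (x : X) (hxU : x ∈ (U : X.Opens)) :
    ∃ g : Γ(X, (U : X.Opens)), x ∈ X.basicOpen g ∧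
      RelPCAt f E m (U.2.basicOpen g) (V : S.Opens) ((X.basicOpen_le g).trans h) := by
  obtain ⟨-, 𝒱, h𝒱, hV⟩ := hrel
  have hfx : f x ∈ (⨆ V' ∈ 𝒱, (V' : S.Opens)) := by rw [h𝒱]; trivial
  simp only [Opens.mem_iSup] at hfx
  obtain ⟨V', hV'𝒱, hxV'⟩ := hfx
  obtain ⟨r, r', hrr', hxr⟩ := exists_basicOpen_le_affine_inter V.2 V'.2 (f x) ⟨h hxU, hxV'⟩
  obtain ⟨𝒰, h𝒰, hU'⟩ := hV V' hV'𝒱
  have hx' : x ∈ (⨆ U' ∈ 𝒰, (U' : X.Opens)) := by rw [h𝒰]; exact hxV'
  simp only [Opens.mem_iSup] at hx'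
  obtain ⟨U', hU'𝒰, hxU'⟩ := hx'
  have hle' : (U' : X.Opens) ≤ f ⁻¹ᵁ (V' : S.Opens) := by
    rw [← h𝒰]
    exact le_iSup₂ (f := fun (W : X.affineOpens) (_ : W ∈ 𝒰) => (W : X.Opens)) U' hU'𝒰
  obtain ⟨n, φ, hchart, hpc⟩ := hU' U' hU'𝒰 hle'
  have a0 : RelPCAt f E m U'.2 (V' : S.Opens) hle' :=
    relPCAt_of_chartPC U'.2 (V' : S.Opens) hle' φ hchart hpc
  obtain ⟨g₀, g₀', hgg', hxg⟩ := exists_basicOpen_le_affine_inter U.2 U'.2 x ⟨hxU, hxU'⟩
  let g : Γ(X, (U : X.Opens)) := g₀ * (f.appLE (V : S.Opens) (U : X.Opens) h).hom r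
  let g' : Γ(X, (U' : X.Opens)) := g₀' * (f.appLE (V' : S.Opens) (U' : X.Opens) hle').hom r'
  have hg : X.basicOpen g = X.basicOpen g₀ ⊓ f ⁻¹ᵁ (S.basicOpen r) := by
    show X.basicOpen (g₀ * _) = _
    rw [Scheme.basicOpen_mul]
    erw [Scheme.basicOpen_appLE]
    rw [← inf_assoc, inf_eq_left.2 (X.basicOpen_le g₀)]
  have hg' : X.basicOpen g' = X.basicOpen g₀' ⊓ f ⁻¹ᵁ (S.basicOpen r') := by
    show X.basicOpen (g₀' * _) = _
    rw [Scheme.basicOpen_mul]
    erw [Scheme.basicOpen_appLE]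
    rw [← inf_assoc, inf_eq_left.2 (X.basicOpen_le g₀')]
  have hWW : X.basicOpen g' = X.basicOpen g := by rw [hg, hg', hgg', hrr']
  have hxW : x ∈ X.basicOpen g := by
    rw [hg]
    exact ⟨hxg, hxr⟩
  have h₂ : X.basicOpen g ≤ f ⁻¹ᵁ (S.basicOpen r) := by rw [hg]; exact inf_le_right
  have h₂' : X.basicOpen g' ≤ f ⁻¹ᵁ (S.basicOpen r') := by rw [hg']; exact inf_le_right
  refine ⟨g, hxW, ?_⟩
  have hft' : (f.appLE (V' : S.Opens) (U' : X.Opens) hle').hom.FiniteType :=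
    HasRingHomProperty.appLE @LocallyOfFiniteType f inferInstance V' U' hle'
  have a1 := relPCAt_basicOpen hE U'.2 (V' : S.Opens) hle' hft' g' a0
  have hft₂' : (f.appLE (S.basicOpen r') (X.basicOpen g') h₂').hom.FiniteType :=
    HasRingHomProperty.appLE @LocallyOfFiniteType f inferInstance
      ⟨S.basicOpen r', V'.2.basicOpen r'⟩ ⟨X.basicOpen g', U'.2.basicOpen g'⟩ h₂'
  have a2 := (relPCAt_base_iff (U'.2.basicOpen g') V'.2 r' h₂' hft₂').2 a1
  have a4 := (relPCAt_congr hWW (U'.2.basicOpen g') (U.2.basicOpen g) hrr'.symm h₂' h₂).1 a2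
  have hft₂ : (f.appLE (S.basicOpen r) (X.basicOpen g) h₂).hom.FiniteType :=
    HasRingHomProperty.appLE @LocallyOfFiniteType f inferInstance
      ⟨S.basicOpen r, V.2.basicOpen r⟩ ⟨X.basicOpen g, U.2.basicOpen g⟩ h₂
  exact (relPCAt_base_iff (U.2.basicOpen g) V.2 r h₂ hft₂).1 a4

omit [LocallyOfFiniteType f] in
/-- (⟹) relative pseudo-coherence gives the algebraic test on all affine pairs -/
theorem relPCAt_of_isPseudoCoherentRel [LocallyOfFiniteType f] (hE : DCoh.IsQCohD E)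
    (hrel : DerSch.IsPseudoCoherentRel f m E) (U : X.affineOpens) (V : S.affineOpens)
    (h : (U : X.Opens) ≤ f ⁻¹ᵁ (V : S.Opens)) : RelPCAt f E m U.2 (V : S.Opens) h := by
  have key := fun (x : (U : X.Opens)) =>
    exists_basicOpen_relPCAt f E m hE hrel U V h x.1 x.2
  choose g hxg hg using key
  have hspan : Ideal.span (Set.range g) = ⊤ := by
    rw [← U.2.self_le_iSup_basicOpen_iff]
    intro x hx
    rw [Opens.mem_iSup]
    exact ⟨⟨g ⟨x, hx⟩, ⟨⟨x, hx⟩, rfl⟩⟩, hxg ⟨x, hx⟩⟩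
  obtain ⟨t, ht₁, ht₂⟩ := (Ideal.span_eq_top_iff_finite _).mp hspan
  let e := t.equivFin
  let gg : Fin t.card → Γ(X, (U : X.Opens)) := fun i => ((e.symm i : t) : Γ(X, (U : X.Opens)))
  have hr : Set.range gg = (t : Set Γ(X, (U : X.Opens))) := by
    ext y
    constructor
    · rintro ⟨i, rfl⟩
      exact (e.symm i).2
    · intro hy
      exact ⟨e ⟨y, hy⟩, by simp [gg]⟩
  have hft : (f.appLE (V : S.Opens) (U : X.Opens) h).hom.FiniteType :=
    HasRingHomProperty.appLE @LocallyOfFiniteType f inferInstance V U h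
  refine relPCAt_of_cover U.2 (V : S.Opens) h hft gg (by rw [hr]; exact ht₂) (fun i => ?_)
  obtain ⟨x, hx⟩ := ht₁ (e.symm i).2
  have : gg i = g x := hx.symm
  rw [relPCAt_congr (congrArg X.basicOpen this) (U.2.basicOpen (gg i)) (U.2.basicOpen (g x)) rfl
    ((X.basicOpen_le (gg i)).trans h) ((X.basicOpen_le (g x)).trans h)]
  exact hg x

omit [LocallyOfFiniteType f] in
/-- **S7234**, in the `RelPCAt` form -/
theorem isPseudoCoherentRel_iff_relPCAt [LocallyOfFiniteType f] (hE : DCoh.IsQCohD E) :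
    DerSch.IsPseudoCoherentRel f m E ↔
      ∀ (U : X.affineOpens) (V : S.affineOpens) (h : (U : X.Opens) ≤ f ⁻¹ᵁ (V : S.Opens)),
        RelPCAt f E m U.2 V h :=
  ⟨fun hrel U V h => relPCAt_of_isPseudoCoherentRel f E m hE hrel U V h,
    isPseudoCoherentRel_of_relPCAt f E m hE⟩

end Groth.Agent.Lib.Helper5.AffComm
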