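import Mathlib
import Groth.Prelude.Def_DCoh3
import Groth.Prelude.Def_DerSch2
import Groth.Agent.Lib.Helper5.RelPC.RelPCQC
import Groth.Agent.Lib.Helper5.QC.RpushPC
import Groth.Agent.Lib.Helper5.Perf.LocalCoh

/-!
# Relatively pseudo-coherent objects on a quasi-compact scheme are bounded above (helper5)
-/

set_option autoImplicit false
universe u
open CategoryTheory CategoryTheory.Limits AlgebraicGeometry Opposite TopologicalSpace

attribute [local instance] HasDerivedCategory.standard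

namespace Groth.Agent.Lib.Helper5.RelPCBdd

open Groth.Agent.Helper1 Groth.Agent.Lib.Helper5.RpushSupp Groth.Agent.Lib.Helper5.PerfCoh
  Groth.Agent.Lib.Helper5.RelPCQC Groth.Agent.Lib.Helper5.LocalCoh Groth.Agent.Lib.Helper5.QC

variable {X Y : Scheme.{u}}

/-- a module whose direct image along a closed immersion vanishes is zero -/
theorem isZero_of_isZero_pushforward {Z P : Scheme.{u}} (c : Z ⟶ P) [IsClosedImmersion c]
    (M : Z.Modules) (h : IsZero ((Scheme.Modules.pushforward c).obj M)) : IsZero M := by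
  apply isZero_of_forall_subsingleton
  intro U
  obtain ⟨V, hV, hVU⟩ := c.isClosedEmbedding.isInducing.isOpen_iff.1 U.2
  have hU : c ⁻¹ᵁ ⟨V, hV⟩ = U := Opens.ext hVU
  subst hU
  exact subsingleton_sections_of_isZero _ h ⟨V, hV⟩

/-- **an object pseudo-coherent relative to `f` on a quasi-compact scheme is bounded above** -/
theorem exists_isLE_of_isPseudoCoherentRel [CompactSpace X] (f : X ⟶ Y) (n : ℤ) (E : DCoh.D X)
    (hE : DerSch.IsPseudoCoherentRel f n E) : ∃ b : ℤ, E.IsLE b := by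
  classical
  obtain ⟨-, 𝒱, h𝒱, hV⟩ := hE
  let G : CochainComplex X.Modules ℤ := DerivedCategory.Q.objPreimage E
  let e : DCoh.toD X G ≅ E := DerivedCategory.Q.objObjPreimageIso E
  have key : ∀ x : X, ∃ (U : X.Opens) (b : ℤ), x ∈ U ∧
      ∀ i : ℤ, b ≤ i → IsZero ((DCoh.HD E i).restrict U.ι) := by
    intro x
    have hx : f x ∈ (⨆ V ∈ 𝒱, (V : Y.Opens)) := by rw [h𝒱]; trivial
    simp only [Opens.mem_iSup] at hx
    obtain ⟨V, hV𝒱, hxV⟩ := hx
    obtain ⟨𝒰, h𝒰, hU⟩ := hV V hV𝒱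
    have hx' : x ∈ (⨆ U ∈ 𝒰, (U : X.Opens)) := by rw [h𝒰]; exact hxV
    simp only [Opens.mem_iSup] at hx'
    obtain ⟨U, hU𝒰, hxU⟩ := hx'
    have hle : (U : X.Opens) ≤ f ⁻¹ᵁ (V : Y.Opens) := by
      rw [← h𝒰]
      exact le_iSup₂ (f := fun (W : X.affineOpens) (_ : W ∈ 𝒰) => (W : X.Opens)) U hU𝒰
    obtain ⟨k, φ, hchart, hpc⟩ := hU U hU𝒰 hle
    let c := DerSch.chartImm (U : X.Opens) φ
    haveI : IsClosedImmersion c := isClosedImmersion_chartImm (U : X.Opens) U.2 φ hchart.1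
    let GU : CochainComplex ((U : X.Opens) : Scheme.{u}).Modules ℤ := (DCoh.restrictCx U).obj G
    have h1 := hpc G ⟨e⟩
    obtain ⟨b, hb⟩ := exists_isLE_of_isPC _ n h1
    refine ⟨U, b + 1, hxU, fun i hi => ?_⟩
    have h2 : IsZero (DCoh.HD (DCoh.toD _ ((DerSch.pushCx c).obj GU)) i) :=
      DerivedCategory.isZero_of_isLE _ b i (by omega)
    obtain ⟨e3⟩ := nonempty_HD_pushCx_iso c GU i
    have h4 : IsZero (DCoh.HD (DCoh.toD _ GU) i) :=
      isZero_of_isZero_pushforward c _ (h2.of_iso e3.symm)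
    let e5 : DCoh.HD (DCoh.toD _ GU) i ≅ (DCoh.HD E i).restrict (U : X.Opens).ι :=
      (hdRestrictDIso E U i ≪≫ (DerivedCategory.homologyFunctor _ i).mapIso
        ((DCoh.restrictD (U : X.Opens).ι).mapIso e.symm ≪≫
          (Scheme.Modules.restrictFunctor (U : X.Opens).ι).mapDerivedCategoryFactors.app G)).symm
    exact h4.of_iso e5.symm
  choose V b hxV hV' using key
  obtain ⟨s, hs⟩ := CompactSpace.elim_nhds_subcover (fun x => (V x : Set X))
    (fun x => (V x).isOpen.mem_nhds (hxV x))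
  obtain ⟨b₀, hb₀⟩ := Finset.exists_le (s.image b)
  refine ⟨b₀, ?_⟩
  rw [DerivedCategory.isLE_iff]
  intro i hi
  apply isZero_of_locally
  intro y
  have hy : y ∈ ⋃ x ∈ s, (V x : Set X) := by
    rw [hs]
    trivial
  simp only [Set.mem_iUnion] at hy
  obtain ⟨x, hxs, hyV⟩ := hy
  have h1 : b x ≤ b₀ := hb₀ _ (Finset.mem_image_of_mem b hxs)
  exact ⟨V x, hyV, hV' x i (by omega)⟩

end Groth.Agent.Lib.Helper5.RelPCBdd
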