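import Mathlib
import Groth.Prelude.Def_DCoh3
import Groth.Prelude.Def_DerSch2
import Groth.Agent.Lib.Helper5.Perf.ClPushC
import Groth.Agent.Lib.Helper5.DRing.PCHom
import Groth.Agent.Lib.Helper5.QC.TildePush
import Groth.Agent.Lib.Helper5.FinPC.FinPush
import Groth.Agent.Lib.Helper5.TildePC.Main

/-!
# Independence of the chart in the pseudo-coherence test on a chart (helper5)
-/

set_option autoImplicit false
set_option linter.style.haveILetI false

universe u

open CategoryTheory CategoryTheory.Limits AlgebraicGeometry Opposite TopologicalSpace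

attribute [local instance] HasDerivedCategory.standard

namespace Groth.Agent.Lib.Helper5.ChartIndep

open Groth.Agent.Lib.Helper5.ClPush Groth.Agent.Lib.Helper5.PCTri Groth.Agent.Helper5.PCHom
  Groth.Agent.Lib.Helper5.QC Groth.Agent.Lib.Helper5.FinPush Groth.Agent.Lib.Helper5.TildePC

section Spec

/-- for a ring map `φ : R → R'` making `R'` a pseudo-coherent `R`-module, the direct image of the
structure sheaf along `Spec φ` is pseudo-coherent -/
theorem pushO_specMap' {R R' : CommRingCat.{u}} (φ : R ⟶ R') (h : PCHom φ.hom) :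
    PushO (specMap' φ) := by
  intro m
  haveI : PreservesFiniteLimits (tilde.functor R) :=
    Groth.Agent.Lib.Helper5.QC.preservesFiniteLimits_tilde (R := R)
  let M : ModuleCat.{u} R := (ModuleCat.restrictScalars.{u} φ.hom).obj (ModuleCat.of R' R')
  have h1 : DCoh.IsPseudoCoherentD m ((DCoh.tildeD R).obj
      ((DerivedCategory.singleFunctor (ModuleCat.{u} R) 0).obj M)) :=
    (isPseudoCoherentD_tildeD_iff R _ m).2 (h m)
  refine isPC_of_iso ?_ h1
  exact ((tilde.functor R).mapDerivedCategorySingleFunctor 0).app M ≪≫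
    (DerivedCategory.singleFunctor _ 0).mapIso
      (((tildePushIso φ).app (ModuleCat.of R' R')).symm ≪≫
        (Scheme.Modules.pushforward (specMap' φ)).mapIso (tildeSelf (R := R')))

variable {R R' : Type u} [CommRing R] [CommRing R'] (ρ : R →+* R')

/-- `Spec ρ` -/
noncomputable abbrev specHom : Spec (CommRingCat.of R') ⟶ Spec (CommRingCat.of R) :=
  Spec.map (CommRingCat.ofHom ρ)

theorem pushO_spec (h : PCHom ρ) : PushO (specHom ρ) :=
  pushO_specMap' (R := CommRingCat.of R) (R' := CommRingCat.of R') (CommRingCat.ofHom ρ) h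

end Spec

/-- composing with a closed immersion with pseudo-coherent structure sheaf does not change
pseudo-coherence of a termwise direct image -/
theorem isPC_pushCx_comp_iff {U T T' : Scheme.{u}} (c : U ⟶ T) (s : T ⟶ T')
    [IsClosedImmersion s] (hs : PushO s) (c' : U ⟶ T') (hc : c' = c ≫ s)
    (G : CochainComplex U.Modules ℤ) (m : ℤ) :
    DCoh.IsPseudoCoherentD m (DCoh.toD T ((DerSch.pushCx c).obj G)) ↔
      DCoh.IsPseudoCoherentD m (DCoh.toD T' ((DerSch.pushCx c').obj G)) := by
  subst hc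
  rw [isPC_push_iff hs]
  exact isPC_iff_of_iso ((Scheme.Modules.pushforward s).mapDerivedCategoryFactors.app _ ≪≫
    DerivedCategory.Q.mapIso ((NatIso.mapHomologicalComplex
      (Scheme.Modules.pushforwardComp c s) (ComplexShape.up ℤ)).app G))

variable {X : Scheme.{u}}

/-- the morphism `U ⟶ Spec P` attached to a ring map `P → Γ(X, U)` -/
noncomputable abbrev cImm (U : X.Opens) {P : Type u} [CommRing P] (α : P →+* Γ(X, U)) :
    (U : Scheme.{u}) ⟶ Spec (CommRingCat.of P) :=
  U.toSpecΓ ≫ Spec.map (CommRingCat.ofHom α)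

/-- changing the chart along a surjection `ρ : Q → P` making `P` a pseudo-coherent `Q`-module -/
theorem isPC_cImm_iff (U : X.Opens) {P Q : Type u} [CommRing P] [CommRing Q]
    (α : P →+* Γ(X, U)) (ρ : Q →+* P) (hρ : Function.Surjective ρ) (h : PCHom ρ)
    (β : Q →+* Γ(X, U)) (hβ : β = α.comp ρ) (G : CochainComplex (U : Scheme.{u}).Modules ℤ)
    (m : ℤ) :
    DCoh.IsPseudoCoherentD m (DCoh.toD _ ((DerSch.pushCx (cImm U α)).obj G)) ↔
      DCoh.IsPseudoCoherentD m (DCoh.toD _ ((DerSch.pushCx (cImm U β)).obj G)) := by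
  haveI : IsClosedImmersion (specHom ρ) := IsClosedImmersion.spec_of_surjective _ hρ
  refine isPC_pushCx_comp_iff (cImm U α) (specHom ρ) (pushO_spec ρ h) (cImm U β) ?_ G m
  subst hβ
  simp only [cImm, specHom, Category.assoc]
  rw [← Spec.map_comp]
  rfl

section Main

variable {S : Scheme.{u}} (f : X ⟶ S) (U : X.Opens) (V : S.Opens) (h : U ≤ f ⁻¹ᵁ V)

/-- the chart combining two charts -/
noncomputable def comb {n k : ℕ} (φ : MvPolynomial (Fin n) Γ(S, V) →+* Γ(X, U))
    (ψ : MvPolynomial (Fin k) Γ(S, V) →+* Γ(X, U)) :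
    MvPolynomial (Fin k) (MvPolynomial (Fin n) Γ(S, V)) →+* Γ(X, U) :=
  MvPolynomial.eval₂Hom φ (fun j => ψ (MvPolynomial.X j))

/-- pseudo-coherence on a chart is equivalent to pseudo-coherence on the combined chart -/
theorem isPC_comb_iff {n k : ℕ} (φ : MvPolynomial (Fin n) Γ(S, V) →+* Γ(X, U))
    (hφ : Function.Surjective φ) (ψ : MvPolynomial (Fin k) Γ(S, V) →+* Γ(X, U))
    (G : CochainComplex (U : Scheme.{u}).Modules ℤ) (m : ℤ) :
    DCoh.IsPseudoCoherentD m (DCoh.toD _ ((DerSch.pushCx (cImm U φ)).obj G)) ↔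
      DCoh.IsPseudoCoherentD m (DCoh.toD _ ((DerSch.pushCx (cImm U (comb U V φ ψ))).obj G)) := by
  choose p hp using fun j : Fin k => hφ (ψ (MvPolynomial.X j))
  refine isPC_cImm_iff U φ (MvPolynomial.eval p) (fun a => ⟨MvPolynomial.C a, by simp⟩)
    (pchom_mvEval k _ p) _ ?_ G m
  apply MvPolynomial.ringHom_ext
  · intro a
    simp [comb]
  · intro j
    simp [comb, hp]

/-- the two combined charts correspond under the swap of variables -/
theorem comb_swap {n k : ℕ} (φ : MvPolynomial (Fin n) Γ(S, V) →+* Γ(X, U))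
    (ψ : MvPolynomial (Fin k) Γ(S, V) →+* Γ(X, U))
    (hc : φ.comp MvPolynomial.C = ψ.comp MvPolynomial.C) :
    comb U V φ ψ = (comb U V ψ φ).comp
      (MvPolynomial.commAlgEquiv Γ(S, V) (Fin k) (Fin n)).toRingEquiv.toRingHom := by
  have key : φ = ((comb U V ψ φ).comp
      (MvPolynomial.commAlgEquiv Γ(S, V) (Fin k) (Fin n)).toRingEquiv.toRingHom).comp
        MvPolynomial.C := by
    apply MvPolynomial.ringHom_ext
    · intro b
      have := congrArg (fun g => g b) hc
      simpa [comb] using this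
    · intro i
      simp [comb, MvPolynomial.commAlgEquiv_C_X]
  apply MvPolynomial.ringHom_ext
  · intro a
    have := congrArg (fun g => g a) key
    simpa [comb] using this
  · intro j
    simp [comb]

/-- **independence of the chart** (complex level) -/
theorem isPC_chart_iff {n k : ℕ} (φ : MvPolynomial (Fin n) Γ(S, V) →+* Γ(X, U))
    (hφ : DerSch.IsChart f U V h φ) (ψ : MvPolynomial (Fin k) Γ(S, V) →+* Γ(X, U))
    (hψ : DerSch.IsChart f U V h ψ) (G : CochainComplex (U : Scheme.{u}).Modules ℤ) (m : ℤ) :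
    DCoh.IsPseudoCoherentD m (DCoh.toD _ ((DerSch.pushCx (DerSch.chartImm U φ)).obj G)) ↔
      DCoh.IsPseudoCoherentD m (DCoh.toD _ ((DerSch.pushCx (DerSch.chartImm U ψ)).obj G)) := by
  have h1 := isPC_comb_iff U V φ hφ.1 ψ G m
  have h2 := isPC_comb_iff U V ψ hψ.1 φ G m
  have hc : φ.comp MvPolynomial.C = ψ.comp MvPolynomial.C := hφ.2.trans hψ.2.symm
  let σ := (MvPolynomial.commAlgEquiv Γ(S, V) (Fin k) (Fin n)).toRingEquiv
  have h3 := isPC_cImm_iff U (comb U V ψ φ) σ.toRingHom σ.surjective (pchom_equiv σ)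
    (comb U V φ ψ) (comb_swap U V φ ψ hc) G m
  exact h1.trans (h3.symm.trans h2.symm)

end Main

end Groth.Agent.Lib.Helper5.ChartIndep
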