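import Mathlib
import Groth.Prelude.Def_DCoh3
import Groth.Prelude.Def_DerSch2
import Groth.Agent.Lib.Helper5.RelPC.ChartIndep
import Groth.Agent.Lib.Helper5.RelPC.AffComm

/-!
# Moves for the pseudo-coherence test of termwise direct images (helper5)
-/

set_option autoImplicit false
set_option linter.style.haveILetI false

universe u

open CategoryTheory CategoryTheory.Limits AlgebraicGeometry Opposite TopologicalSpace

attribute [local instance] HasDerivedCategory.standard

namespace Groth.Agent.Lib.Helper5.CPMoves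

open Groth.Agent.Lib.Helper5.ClPush Groth.Agent.Lib.Helper5.PCTri
  Groth.Agent.Lib.Helper5.FinPush Groth.Agent.Lib.Helper5.AffComm
  Groth.Agent.Lib.Helper5.StalkAdj Groth.Agent.Lib.Helper5.PCBiprod

/-- termwise restriction of complexes along an open immersion -/
noncomputable abbrev RC {Y' Y : Scheme.{u}} (j : Y' ⟶ Y) [IsOpenImmersion j] :
    CochainComplex Y.Modules ℤ ⥤ CochainComplex Y'.Modules ℤ :=
  (Scheme.Modules.restrictFunctor j).mapHomologicalComplex (ComplexShape.up ℤ)

/-- the pseudo-coherence test for a complex pushed forward termwise -/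
def CP {Y T : Scheme.{u}} (m : ℤ) (G : CochainComplex Y.Modules ℤ) (c : Y ⟶ T) : Prop :=
  DCoh.IsPseudoCoherentD m (DCoh.toD T ((DerSch.pushCx c).obj G))

variable {Y T : Scheme.{u}} {m : ℤ}

theorem cp_congr_iso {G G' : CochainComplex Y.Modules ℤ} (e : G ≅ G') (c : Y ⟶ T) :
    CP m G c ↔ CP m G' c :=
  isPC_iff_of_iso (DerivedCategory.Q.mapIso ((DerSch.pushCx c).mapIso e))

theorem cp_congr_hom (G : CochainComplex Y.Modules ℤ) {c c' : Y ⟶ T} (h : c = c') :
    CP m G c ↔ CP m G c' := by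
  subst h
  rfl

/-- composing with a closed immersion with pseudo-coherent structure sheaf -/
theorem cp_comp_iff {T' : Scheme.{u}} (G : CochainComplex Y.Modules ℤ) (c : Y ⟶ T) (s : T ⟶ T')
    [IsClosedImmersion s] (hs : PushO s) : CP m G c ↔ CP m G (c ≫ s) :=
  Groth.Agent.Lib.Helper5.ChartIndep.isPC_pushCx_comp_iff c s hs (c ≫ s) rfl G m

/-- restriction along an isomorphism followed by direct image along it is the identity -/
noncomputable def resPushIso {Y' : Scheme.{u}} (κ : Y' ≅ Y) :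
    Scheme.Modules.restrictFunctor κ.hom ⋙ Scheme.Modules.pushforward κ.hom ≅ 𝟭 Y.Modules :=
  Functor.isoWhiskerLeft (Scheme.Modules.restrictFunctor κ.hom) (pushIsoRestr κ) ≪≫
    (restrictEquiv κ).unitIso.symm

/-- transport along an isomorphism of the source -/
theorem cp_iso_source {Y' : Scheme.{u}} (κ : Y' ≅ Y) (G : CochainComplex Y.Modules ℤ)
    (c : Y ⟶ T) : CP m ((RC κ.hom).obj G) (κ.hom ≫ c) ↔ CP m G c := by
  refine isPC_iff_of_iso (DerivedCategory.Q.mapIso ?_)
  exact (NatIso.mapHomologicalComplex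
    (Functor.isoWhiskerLeft (Scheme.Modules.restrictFunctor κ.hom)
      (Scheme.Modules.pushforwardComp κ.hom c).symm ≪≫ (Functor.associator _ _ _).symm ≪≫
      Functor.isoWhiskerRight (resPushIso κ) (Scheme.Modules.pushforward c) ≪≫
      Functor.leftUnitor _) (ComplexShape.up ℤ)).app G

/-- restriction to an open of the target -/
theorem cp_restrict_iff (G : CochainComplex Y.Modules ℤ) (c : Y ⟶ T) (V : T.Opens) :
    DCoh.IsPseudoCoherentD m
        ((DCoh.restrictD V.ι).obj (DCoh.toD T ((DerSch.pushCx c).obj G))) ↔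
      CP m ((RC (c ⁻¹ᵁ V).ι).obj G) (c ∣_ V) :=
  isPC_iff_of_iso
    ((Scheme.Modules.restrictFunctor V.ι).mapDerivedCategoryFactors.app
        ((DerSch.pushCx c).obj G) ≪≫
      DerivedCategory.Q.mapIso ((NatIso.mapHomologicalComplex
        (Groth.Agent.Lib.Helper5.RpushRes.pushRestrictIso c V) (ComplexShape.up ℤ)).app G))

theorem cp_restrict (G : CochainComplex Y.Modules ℤ) (c : Y ⟶ T) (V : T.Opens)
    (h : CP m G c) : CP m ((RC (c ⁻¹ᵁ V).ι).obj G) (c ∣_ V) :=
  (cp_restrict_iff G c V).1 (Groth.Agent.Lib.Helper5.IsoSq.isPC_restrictD V.ι h)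

/-- locality on the target -/
theorem cp_local (G : CochainComplex Y.Modules ℤ) (c : Y ⟶ T)
    (h : ∀ t : T, ∃ V : T.Opens, t ∈ V ∧ CP m ((RC (c ⁻¹ᵁ V).ι).obj G) (c ∣_ V)) :
    CP m G c := by
  apply isPC_local
  intro t
  obtain ⟨V, htV, hV⟩ := h t
  exact ⟨V, htV, (cp_restrict_iff G c V).2 hV⟩

/-- the test is void on an empty scheme -/
theorem cp_of_isEmpty [IsEmpty Y] (G : CochainComplex Y.Modules ℤ) (c : Y ⟶ T) : CP m G c := by
  have hG : IsZero G := Groth.Agent.Lib.Helper5.DevGen.isZero_of_X (fun i =>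
    Groth.Agent.Lib.Helper5.QC.isZero_of_stalks _ (fun x => (IsEmpty.false x).elim))
  exact isPC_of_isZero (Functor.map_isZero _ (Functor.map_isZero _ hG)) m

/-- it suffices to test near the image of `c` when the image is closed -/
theorem cp_local_of_closed (G : CochainComplex Y.Modules ℤ) (c : Y ⟶ T)
    (hc : IsClosed (Set.range c))
    (h : ∀ y : Y, ∃ V : T.Opens, c y ∈ V ∧ CP m ((RC (c ⁻¹ᵁ V).ι).obj G) (c ∣_ V)) :
    CP m G c := by
  apply cp_local
  intro t
  by_cases ht : t ∈ Set.range c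
  · obtain ⟨y, rfl⟩ := ht
    exact h y
  · let V : T.Opens := ⟨(Set.range c)ᶜ, hc.isOpen_compl⟩
    haveI : IsEmpty ((c ⁻¹ᵁ V : Y.Opens) : Scheme.{u}) := ⟨fun y => y.2 ⟨y.1, rfl⟩⟩
    exact ⟨V, ht, cp_of_isEmpty _ _⟩

end Groth.Agent.Lib.Helper5.CPMoves
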