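import Mathlib
import Groth.Agent.Lib.Helper5.RelPC.CPMoves

/-!
# Direct image commutes with restriction to opens: general cartesian squares of open immersions
(helper5)
-/

set_option autoImplicit false
set_option linter.style.haveILetI false

universe u

open CategoryTheory CategoryTheory.Limits AlgebraicGeometry Opposite TopologicalSpace

namespace Groth.Agent.Lib.Helper5.CPMoves

open Groth.Agent.Lib.Helper5.AffComm Scheme.Modules

section

variable {Y T Y₀ T₀ : Scheme.{u}} (c : Y ⟶ T) (j : T₀ ⟶ T) [IsOpenImmersion j]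
  (k : Y₀ ⟶ Y) [IsOpenImmersion k] (c₀ : Y₀ ⟶ T₀) (w : c₀ ≫ j = k ≫ c)
  (hr : Set.range k = c ⁻¹' Set.range j)

/-- restriction along an isomorphism is the direct image along its inverse -/
noncomputable def restrIsoPush {A B : Scheme.{u}} (β : A ≅ B) :
    restrictFunctor β.hom ≅ pushforward β.inv :=
  (pushIsoRestr β.symm).symm

include w hr in
/-- `(c_* M)|_{T₀} ≅ c₀_* (M|_{Y₀})` for a cartesian square of open immersions -/
theorem nonempty_pushRestrictIsoGen :
    Nonempty (pushforward c ⋙ restrictFunctor j ≅ restrictFunctor k ⋙ pushforward c₀) := by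
  let V : T.Opens := j.opensRange
  let β : T₀ ≅ (V : Scheme.{u}) := j.isoOpensRange
  have hβ : β.hom ≫ V.ι = j := j.isoOpensRange_hom_ι
  let W₀ : Y.Opens := c ⁻¹ᵁ V
  have hrange : Set.range k = Set.range W₀.ι := by
    rw [hr, Scheme.Opens.range_ι]
    rfl
  let γ : Y₀ ≅ (W₀ : Scheme.{u}) := IsOpenImmersion.isoOfRangeEq k W₀.ι hrange
  have hγ : γ.hom ≫ W₀.ι = k := IsOpenImmersion.isoOfRangeEq_hom_fac _ _ _
  have hsq : γ.hom ≫ (c ∣_ V) = c₀ ≫ β.hom := by
    rw [← cancel_mono V.ι, Category.assoc, Category.assoc, morphismRestrict_ι, hβ, w,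
      ← Category.assoc, hγ]
  have hsq' : (c ∣_ V) ≫ β.inv = γ.inv ≫ c₀ := by
    rw [← cancel_epi γ.hom, ← Category.assoc, hsq, Category.assoc, Iso.hom_inv_id,
      Category.comp_id, Iso.hom_inv_id_assoc]
  -- the pieces
  let e1 : restrictFunctor j ≅ restrictFunctor V.ι ⋙ restrictFunctor β.hom :=
    restrictFunctorCongr hβ.symm ≪≫ restrictFunctorComp β.hom V.ι
  let e3 : pushforward (c ∣_ V) ⋙ pushforward β.inv ≅ pushforward γ.inv ⋙ pushforward c₀ :=
    pushforwardComp (c ∣_ V) β.inv ≪≫ pushforwardCongr hsq' ≪≫ (pushforwardComp γ.inv c₀).symm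
  let e5 : restrictFunctor W₀.ι ⋙ restrictFunctor γ.hom ≅ restrictFunctor k :=
    (restrictFunctorComp γ.hom W₀.ι).symm ≪≫ restrictFunctorCongr hγ
  let a1 : pushforward c ⋙ restrictFunctor j ≅
      pushforward c ⋙ (restrictFunctor V.ι ⋙ restrictFunctor β.hom) :=
    Functor.isoWhiskerLeft (pushforward c) e1
  let a2 : pushforward c ⋙ (restrictFunctor V.ι ⋙ restrictFunctor β.hom) ≅
      (pushforward c ⋙ restrictFunctor V.ι) ⋙ restrictFunctor β.hom :=
    (Functor.associator _ _ _).symm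
  let a3 : (pushforward c ⋙ restrictFunctor V.ι) ⋙ restrictFunctor β.hom ≅
      (restrictFunctor W₀.ι ⋙ pushforward (c ∣_ V)) ⋙ restrictFunctor β.hom :=
    Functor.isoWhiskerRight (Groth.Agent.Lib.Helper5.RpushRes.pushRestrictIso c V) _
  let a4 : (restrictFunctor W₀.ι ⋙ pushforward (c ∣_ V)) ⋙ restrictFunctor β.hom ≅
      restrictFunctor W₀.ι ⋙ (pushforward (c ∣_ V) ⋙ pushforward β.inv) :=
    Functor.associator _ _ _ ≪≫
      Functor.isoWhiskerLeft _ (Functor.isoWhiskerLeft _ (restrIsoPush β))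
  let a5 : restrictFunctor W₀.ι ⋙ (pushforward (c ∣_ V) ⋙ pushforward β.inv) ≅
      restrictFunctor W₀.ι ⋙ (pushforward γ.inv ⋙ pushforward c₀) :=
    Functor.isoWhiskerLeft _ e3
  let a6 : restrictFunctor W₀.ι ⋙ (pushforward γ.inv ⋙ pushforward c₀) ≅
      restrictFunctor W₀.ι ⋙ (restrictFunctor γ.hom ⋙ pushforward c₀) :=
    Functor.isoWhiskerLeft _ (Functor.isoWhiskerRight (restrIsoPush γ).symm _)
  let a7 : restrictFunctor W₀.ι ⋙ (restrictFunctor γ.hom ⋙ pushforward c₀) ≅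
      restrictFunctor k ⋙ pushforward c₀ :=
    (Functor.associator _ _ _).symm ≪≫ Functor.isoWhiskerRight e5 _
  exact ⟨a1 ≪≫ a2 ≪≫ a3 ≪≫ a4 ≪≫ a5 ≪≫ a6 ≪≫ a7⟩

end

end Groth.Agent.Lib.Helper5.CPMoves
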