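import Mathlib
import Groth.Agent.Lib.Helper5.RelPC.PushResGen

/-!
# Localisation of the chart test (helper5)
-/

set_option autoImplicit false
set_option linter.style.haveILetI false

universe u

open CategoryTheory CategoryTheory.Limits AlgebraicGeometry Opposite TopologicalSpace

attribute [local instance] HasDerivedCategory.standard

namespace Groth.Agent.Lib.Helper5.CPMoves

open Groth.Agent.Lib.Helper5.ClPush Groth.Agent.Lib.Helper5.PCTri
  Groth.Agent.Lib.Helper5.FinPush Groth.Agent.Lib.Helper5.AffComm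
  Groth.Agent.Lib.Helper5.StalkAdj Groth.Agent.Lib.Helper5.PCBiprod
  Groth.Agent.Lib.Helper5.PCApprox Groth.Agent.Lib.Helper5.PerfTri
  Groth.Agent.Lib.Helper5.ChartIndep

/-- pseudo-coherence is local with respect to open immersions -/
theorem isPC_local' {X : Scheme.{u}} {m : ℤ} {K : DCoh.D X}
    (h : ∀ x : X, ∃ (U : Scheme.{u}) (j : U ⟶ X) (_ : IsOpenImmersion j),
      x ∈ Set.range j ∧ DCoh.IsPseudoCoherentD m ((DCoh.restrictD j).obj K)) :
    DCoh.IsPseudoCoherentD m K := by
  apply isPC_of_approx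
  intro x
  obtain ⟨U, j, hj, ⟨u, rfl⟩, hK⟩ := h x
  obtain ⟨W, huW, hW⟩ := exists_approx_of_isPC hK u
  exact ⟨W, W.ι ≫ j, inferInstance, ⟨⟨u, huW⟩, rfl⟩,
    hW.of_iso (restrictDCompObjIso W.ι j K).symm⟩

section Gen

variable {Y T Y₀ T₀ : Scheme.{u}} (c : Y ⟶ T) (j : T₀ ⟶ T) [IsOpenImmersion j]
  (k : Y₀ ⟶ Y) [IsOpenImmersion k] (c₀ : Y₀ ⟶ T₀) (w : c₀ ≫ j = k ≫ c)
  (hr : Set.range k = c ⁻¹' Set.range j)

include w hr in
/-- restriction to an open of the target, for a cartesian square of open immersions -/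
theorem cp_restrictGen_iff (G : CochainComplex Y.Modules ℤ) (m : ℤ) :
    DCoh.IsPseudoCoherentD m
        ((DCoh.restrictD j).obj (DCoh.toD T ((DerSch.pushCx c).obj G))) ↔
      CP m ((RC k).obj G) c₀ := by
  obtain ⟨e⟩ := nonempty_pushRestrictIsoGen c j k c₀ w hr
  exact isPC_iff_of_iso
    ((Scheme.Modules.restrictFunctor j).mapDerivedCategoryFactors.app
        ((DerSch.pushCx c).obj G) ≪≫
      DerivedCategory.Q.mapIso ((NatIso.mapHomologicalComplex e (ComplexShape.up ℤ)).app G))

end Gen

section SpecSq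

variable {P A P' A' : Type u} [CommRing P] [CommRing A] [CommRing P'] [CommRing A']
  [Algebra P P'] [Algebra A A'] (φ : P →+* A) (φ' : P' →+* A')
  (hφ : φ'.comp (algebraMap P P') = (algebraMap A A').comp φ)
  (g : P) [IsLocalization.Away g P'] [IsLocalization.Away (φ g) A']
  [IsOpenImmersion (Spec.map (CommRingCat.ofHom (algebraMap P P')))]
  [IsOpenImmersion (Spec.map (CommRingCat.ofHom (algebraMap A A')))]

include hφ g in
/-- the square of spectra attached to a localisation -/
theorem cp_spec_loc_iff (G : CochainComplex (Spec (CommRingCat.of A)).Modules ℤ) (m : ℤ) :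
    DCoh.IsPseudoCoherentD m
        ((DCoh.restrictD (Spec.map (CommRingCat.ofHom (algebraMap P P')))).obj
          (DCoh.toD _ ((DerSch.pushCx (Spec.map (CommRingCat.ofHom φ))).obj G))) ↔
      CP m ((RC (Spec.map (CommRingCat.ofHom (algebraMap A A')))).obj G)
        (Spec.map (CommRingCat.ofHom φ')) := by
  refine cp_restrictGen_iff _ _ _ _ ?_ ?_ G m
  · rw [← Spec.map_comp, ← Spec.map_comp, ← CommRingCat.ofHom_comp, ← CommRingCat.ofHom_comp, hφ]
  · show Set.range (PrimeSpectrum.comap (algebraMap A A')) =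
      (PrimeSpectrum.comap φ) ⁻¹' Set.range (PrimeSpectrum.comap (algebraMap P P'))
    rw [PrimeSpectrum.localization_away_comap_range A' (φ g),
      PrimeSpectrum.localization_away_comap_range P' g]
    rfl

end SpecSq

variable {X : Scheme.{u}}

/-- the chart test in terms of the spectrum of the ring of sections -/
theorem cp_cImm_iff (G : CochainComplex X.Modules ℤ) {U : X.Opens} (hU : IsAffineOpen U)
    {P : Type u} [CommRing P] (φ : P →+* Γ(X, U)) (m : ℤ) :
    CP m ((DCoh.restrictCx U).obj G) (cImm U φ) ↔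
      CP m ((RC hU.fromSpec).obj G) (Spec.map (CommRingCat.ofHom φ)) := by
  let κ : Spec Γ(X, U) ≅ (U : Scheme.{u}) := hU.isoSpec.symm
  have h1 := cp_iso_source (m := m) κ ((DCoh.restrictCx U).obj G) (cImm U φ)
  rw [← h1]
  have hc : κ.hom ≫ cImm U φ = Spec.map (CommRingCat.ofHom φ) := by
    simp [cImm, κ]
  rw [cp_congr_hom _ hc]
  exact cp_congr_iso ((NatIso.mapHomologicalComplex
    (Scheme.Modules.restrictFunctorComp hU.isoSpec.inv U.ι).symm (ComplexShape.up ℤ)).app G) _

/-- **localisation of the chart test**: restricting the direct image along a chart to a basic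
open of the affine space is the chart test on the corresponding basic open of the source -/
theorem cp_basicOpen_iff (G : CochainComplex X.Modules ℤ) {U : X.Opens} (hU : IsAffineOpen U)
    {P P' : Type u} [CommRing P] [CommRing P'] [Algebra P P'] (φ : P →+* Γ(X, U)) (g : P)
    [IsLocalization.Away g P']
    [IsOpenImmersion (Spec.map (CommRingCat.ofHom (algebraMap P P')))]
    (φ' : P' →+* Γ(X, X.basicOpen (φ g)))
    (hφ : φ'.comp (algebraMap P P') = (algebraMap Γ(X, U) Γ(X, X.basicOpen (φ g))).comp φ)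
    (m : ℤ) :
    DCoh.IsPseudoCoherentD m
        ((DCoh.restrictD (Spec.map (CommRingCat.ofHom (algebraMap P P')))).obj
          (DCoh.toD _ ((DerSch.pushCx (Spec.map (CommRingCat.ofHom φ))).obj
            ((RC hU.fromSpec).obj G)))) ↔
      CP m ((RC (hU.basicOpen (φ g)).fromSpec).obj G) (Spec.map (CommRingCat.ofHom φ')) := by
  haveI : IsLocalization.Away (φ g) Γ(X, X.basicOpen (φ g)) := hU.isLocalization_basicOpen (φ g)
  have hopen := isOpenImmersion_spec_resBasic hU (φ g)
  haveI : IsOpenImmersion (Spec.map (CommRingCat.ofHom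
      (algebraMap Γ(X, U) Γ(X, X.basicOpen (φ g))))) := hopen
  rw [cp_spec_loc_iff φ φ' hφ g ((RC hU.fromSpec).obj G) m]
  have hfs : Spec.map (CommRingCat.ofHom (algebraMap Γ(X, U) Γ(X, X.basicOpen (φ g)))) ≫
      hU.fromSpec = (hU.basicOpen (φ g)).fromSpec :=
    hU.map_fromSpec (hU.basicOpen (φ g)) (homOfLE (X.basicOpen_le (φ g))).op
  exact cp_congr_iso ((NatIso.mapHomologicalComplex
    ((Scheme.Modules.restrictFunctorComp _ hU.fromSpec).symm ≪≫
      Scheme.Modules.restrictFunctorCongr hfs) (ComplexShape.up ℤ)).app G) _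

end Groth.Agent.Lib.Helper5.CPMoves
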