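import Mathlib
import Groth.Agent.Lib.Helper5.RelPC.ChartLoc
import Groth.Agent.Lib.Helper5.DRing.LocRho

/-!
# The chart test on affine pairs, for arbitrary objects: localisation, gluing, change of base
(helper5)
-/

set_option autoImplicit false
set_option linter.style.haveILetI false

universe u

open CategoryTheory CategoryTheory.Limits AlgebraicGeometry Opposite TopologicalSpace

attribute [local instance] HasDerivedCategory.standard

namespace Groth.Agent.Lib.Helper5.CPAtLib

open Groth.Agent.Lib.Helper5.ClPush Groth.Agent.Lib.Helper5.PCTri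
  Groth.Agent.Lib.Helper5.CPMoves Groth.Agent.Lib.Helper5.ChartIndep
  Groth.Agent.Helper5.PCHom Groth.Agent.Lib.Helper5.StalkAdj

variable {X S : Scheme.{u}} (f : X ⟶ S) (E : DCoh.D X) (m : ℤ)

/-- some chart on the pair `(U, V)` passes the pseudo-coherence test -/
def CPAt (U : X.Opens) (V : S.Opens) (h : U ≤ f ⁻¹ᵁ V) : Prop :=
  ∃ (n : ℕ) (φ : MvPolynomial (Fin n) Γ(S, V) →+* Γ(X, U)),
    DerSch.IsChart f U V h φ ∧ DerSch.ChartPC m E U V φ

variable {f E m}

theorem cpAt_congr {U U' : X.Opens} (hUU' : U = U') {V V' : S.Opens} (hVV' : V = V')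
    (h : U ≤ f ⁻¹ᵁ V) (h' : U' ≤ f ⁻¹ᵁ V') : CPAt f E m U V h ↔ CPAt f E m U' V' h' := by
  subst hUU'
  subst hVV'
  rfl

/-- every chart then passes the test -/
theorem chartPC_of_cpAt {U : X.Opens} {V : S.Opens} {h : U ≤ f ⁻¹ᵁ V} (H : CPAt f E m U V h)
    {k : ℕ} (ψ : MvPolynomial (Fin k) Γ(S, V) →+* Γ(X, U)) (hψ : DerSch.IsChart f U V h ψ) :
    DerSch.ChartPC m E U V ψ := by
  obtain ⟨n, φ, hφ, hpc⟩ := H
  intro G hG
  exact (isPC_chart_iff f U V h φ hφ ψ hψ _ m).1 (hpc G hG)

section LocChart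

variable {U : X.Opens} (hU : IsAffineOpen U) (V : S.Opens) (h : U ≤ f ⁻¹ᵁ V) {n : ℕ}
  (φ : MvPolynomial (Fin n) Γ(S, V) →+* Γ(X, U)) (g : MvPolynomial (Fin n) Γ(S, V))

include hU in
/-- the chart induced on a basic open -/
noncomputable def locChart :
    MvPolynomial (Fin (n + 1)) Γ(S, V) →+* Γ(X, X.basicOpen (φ g)) :=
  haveI : IsLocalization.Away (φ g) Γ(X, X.basicOpen (φ g)) := hU.isLocalization_basicOpen (φ g)
  (awayMap φ g (Localization.Away g) Γ(X, X.basicOpen (φ g))).comp
    (locRho g (Localization.Away g))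

theorem isChart_locChart (hφ : DerSch.IsChart f U V h φ) :
    DerSch.IsChart f (X.basicOpen (φ g)) V ((X.basicOpen_le (φ g)).trans h)
      (locChart hU V φ g) := by
  haveI : IsLocalization.Away (φ g) Γ(X, X.basicOpen (φ g)) := hU.isLocalization_basicOpen (φ g)
  refine ⟨(awayMap_surjective φ g (Localization.Away g) Γ(X, X.basicOpen (φ g)) hφ.1).comp
    (locRho_surjective g (Localization.Away g)), ?_⟩
  ext b
  show awayMap φ g (Localization.Away g) Γ(X, X.basicOpen (φ g))
    (locRho g (Localization.Away g) (MvPolynomial.C b)) = _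
  rw [locRho_C]
  have h1 := RingHom.congr_fun (awayMap_comp φ g (Localization.Away g) Γ(X, X.basicOpen (φ g)))
    (MvPolynomial.C b)
  simp only [RingHom.coe_comp, Function.comp_apply] at h1
  rw [h1]
  have h2 : φ (MvPolynomial.C b) = (f.appLE V U h).hom b := RingHom.congr_fun hφ.2 b
  rw [h2]
  have h3 := f.appLE_map h (homOfLE (X.basicOpen_le (φ g))).op
  exact congrArg (fun (k : Γ(S, V) ⟶ Γ(X, X.basicOpen (φ g))) => k.hom b) h3

/-- the test for the induced chart is the restriction of the test to a basic open of the affine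
space -/
theorem cp_locChart_iff (G : CochainComplex X.Modules ℤ) :
    haveI := IsOpenImmersion.of_isLocalization (S := Localization.Away g) g
    CP m ((DCoh.restrictCx (X.basicOpen (φ g))).obj G)
        (DerSch.chartImm (X.basicOpen (φ g)) (locChart hU V φ g)) ↔
      DCoh.IsPseudoCoherentD m
        ((DCoh.restrictD (Spec.map (CommRingCat.ofHom
            (algebraMap (MvPolynomial (Fin n) Γ(S, V)) (Localization.Away g))))).obj
          (DCoh.toD _ ((DerSch.pushCx (Spec.map (CommRingCat.ofHom φ))).obj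
            ((RC hU.fromSpec).obj G)))) := by
  haveI := IsOpenImmersion.of_isLocalization (S := Localization.Away g) g
  haveI : IsLocalization.Away (φ g) Γ(X, X.basicOpen (φ g)) := hU.isLocalization_basicOpen (φ g)
  show CP m ((DCoh.restrictCx (X.basicOpen (φ g))).obj G)
    (cImm (X.basicOpen (φ g)) (locChart hU V φ g)) ↔ _
  rw [cp_cImm_iff G (hU.basicOpen (φ g)) (locChart hU V φ g) m]
  rw [cp_basicOpen_iff G hU φ g
    (awayMap φ g (Localization.Away g) Γ(X, X.basicOpen (φ g)))
    (awayMap_comp φ g (Localization.Away g) Γ(X, X.basicOpen (φ g))) m]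
  haveI : IsClosedImmersion (specHom (locRho g (Localization.Away g))) :=
    IsClosedImmersion.spec_of_surjective _ (locRho_surjective g (Localization.Away g))
  rw [cp_comp_iff _ _ (specHom (locRho g (Localization.Away g)))
    (pushO_spec _ (pchom_locRho g (Localization.Away g)))]
  apply cp_congr_hom
  simp only [locChart, specHom, CommRingCat.ofHom_comp, Spec.map_comp]

end LocChart

/-- **localisation on the source** -/
theorem cpAt_basicOpen {U : X.Opens} (hU : IsAffineOpen U) (V : S.Opens) (h : U ≤ f ⁻¹ᵁ V)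
    (g : Γ(X, U)) (H : CPAt f E m U V h) :
    CPAt f E m (X.basicOpen g) V ((X.basicOpen_le g).trans h) := by
  obtain ⟨n, φ, hφ, hpc⟩ := H
  obtain ⟨g', rfl⟩ := hφ.1 g
  refine ⟨n + 1, locChart hU V φ g', isChart_locChart hU V h φ g' hφ, fun G hG => ?_⟩
  haveI := IsOpenImmersion.of_isLocalization (S := Localization.Away g') g'
  refine (cp_locChart_iff hU V φ g' G).2 ?_
  exact Groth.Agent.Lib.Helper5.IsoSq.isPC_restrictD _ ((cp_cImm_iff G hU φ m).1 (hpc G hG))

/-- **gluing on the source** -/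
theorem cpAt_of_cover {U : X.Opens} (hU : IsAffineOpen U) (V : S.Opens) (h : U ≤ f ⁻¹ᵁ V)
    (hft : (f.appLE V U h).hom.FiniteType) {r : ℕ} (g : Fin r → Γ(X, U))
    (hg : Ideal.span (Set.range g) = ⊤)
    (H : ∀ i, CPAt f E m (X.basicOpen (g i)) V ((X.basicOpen_le (g i)).trans h)) :
    CPAt f E m U V h := by
  letI : Algebra Γ(S, V) Γ(X, U) := (f.appLE V U h).hom.toAlgebra
  haveI : Algebra.FiniteType Γ(S, V) Γ(X, U) := hft
  obtain ⟨n, α, hα⟩ := Groth.Agent.Helper5.PCHom.exists_presentation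
    (R := Γ(S, V)) (A := Γ(X, U))
  let φ : MvPolynomial (Fin n) Γ(S, V) →+* Γ(X, U) := α
  have hφ : DerSch.IsChart f U V h φ := ⟨hα, RingHom.ext (fun b => α.commutes b)⟩
  obtain ⟨g', rfl⟩ : ∃ g' : Fin r → MvPolynomial (Fin n) Γ(S, V), g = fun i => φ (g' i) :=
    ⟨fun i => (hα (g i)).choose, funext fun i => ((hα (g i)).choose_spec).symm⟩
  refine ⟨n, φ, hφ, fun G hG => ?_⟩
  show CP m ((DCoh.restrictCx U).obj G) (cImm U φ)
  rw [cp_cImm_iff G hU φ m]
  apply isPC_local'
  intro t
  by_cases ht : t ∈ Set.range (Spec.map (CommRingCat.ofHom φ))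
  · obtain ⟨y, rfl⟩ := ht
    obtain ⟨i, hi⟩ : ∃ i, φ (g' i) ∉ y.asIdeal := by
      by_contra hcon
      push_neg at hcon
      have hle : Ideal.span (Set.range fun i => φ (g' i)) ≤ y.asIdeal :=
        Ideal.span_le.2 (by rintro _ ⟨i, rfl⟩; exact hcon i)
      rw [hg] at hle
      exact y.isPrime.ne_top (top_le_iff.1 hle)
    haveI := IsOpenImmersion.of_isLocalization (S := Localization.Away (g' i)) (g' i)
    refine ⟨_, Spec.map (CommRingCat.ofHom
      (algebraMap (MvPolynomial (Fin n) Γ(S, V)) (Localization.Away (g' i)))), inferInstance,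
      ?_, ?_⟩
    · show (Spec.map (CommRingCat.ofHom φ)) y ∈ Set.range (PrimeSpectrum.comap
        (algebraMap (MvPolynomial (Fin n) Γ(S, V)) (Localization.Away (g' i))))
      rw [PrimeSpectrum.localization_away_comap_range (Localization.Away (g' i)) (g' i)]
      exact hi
    · refine (cp_locChart_iff hU V φ (g' i) G).1 ?_
      exact chartPC_of_cpAt (H i) _ (isChart_locChart hU V h φ (g' i) hφ) G hG
  · haveI : IsClosedImmersion (Spec.map (CommRingCat.ofHom φ)) :=
      IsClosedImmersion.spec_of_surjective _ hα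
    let V' : (Spec (CommRingCat.of (MvPolynomial (Fin n) Γ(S, V)))).Opens :=
      ⟨(Set.range (Spec.map (CommRingCat.ofHom φ)))ᶜ,
        (Spec.map (CommRingCat.ofHom φ)).isClosedEmbedding.isClosed_range.isOpen_compl⟩
    refine ⟨V', V'.ι, inferInstance, ?_, ?_⟩
    · rw [Scheme.Opens.range_ι]
      exact ht
    · rw [cp_restrict_iff]
      haveI : IsEmpty (((Spec.map (CommRingCat.ofHom φ)) ⁻¹ᵁ V' :
          (Spec Γ(X, U)).Opens) : Scheme.{u}) := ⟨fun y => y.2 ⟨y.1, rfl⟩⟩
      exact cp_of_isEmpty _ _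

/-- **change of base to a basic open** -/
theorem cpAt_base_iff {W : X.Opens} {V : S.Opens} (hV : IsAffineOpen V)
    (r : Γ(S, V)) (h₂ : W ≤ f ⁻¹ᵁ (S.basicOpen r))
    (hft : (f.appLE (S.basicOpen r) W h₂).hom.FiniteType) :
    CPAt f E m W (S.basicOpen r) h₂ ↔
      CPAt f E m W V (h₂.trans (f.preimage_mono (S.basicOpen_le r))) := by
  haveI : IsLocalization.Away r Γ(S, S.basicOpen r) := hV.isLocalization_basicOpen r
  -- the key construction: a chart over `D(r)` gives a chart over `V`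
  have key : ∀ {n : ℕ} (φr : MvPolynomial (Fin n) Γ(S, S.basicOpen r) →+* Γ(X, W)),
      DerSch.IsChart f W (S.basicOpen r) h₂ φr →
      ∃ (φ' : MvPolynomial (Fin (n + 1)) Γ(S, V) →+* Γ(X, W)),
        DerSch.IsChart f W V (h₂.trans (f.preimage_mono (S.basicOpen_le r))) φ' ∧
        (DerSch.ChartPC m E W (S.basicOpen r) φr ↔ DerSch.ChartPC m E W V φ') := by
    intro n φr hφr
    letI : Algebra (MvPolynomial (Fin n) Γ(S, V)) (MvPolynomial (Fin n) Γ(S, S.basicOpen r)) :=
      MvPolynomial.algebraMvPolynomial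
    haveI : IsLocalization.Away (MvPolynomial.C r : MvPolynomial (Fin n) Γ(S, V))
        (MvPolynomial (Fin n) Γ(S, S.basicOpen r)) := by
      have h0 : IsLocalization ((Submonoid.powers r).map (MvPolynomial.C (σ := Fin n)))
          (MvPolynomial (Fin n) Γ(S, S.basicOpen r)) := MvPolynomial.isLocalization _ _
      rw [Submonoid.map_powers] at h0
      exact h0
    let ρ := locRho (MvPolynomial.C r : MvPolynomial (Fin n) Γ(S, V))
      (MvPolynomial (Fin n) Γ(S, S.basicOpen r))
    have hρs : Function.Surjective ρ := locRho_surjective _ _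
    have hρ : PCHom ρ := pchom_locRho _ _
    refine ⟨φr.comp ρ, ⟨hφr.1.comp hρs, ?_⟩, ?_⟩
    · ext b
      show φr (ρ (MvPolynomial.C b)) = _
      have h1 : ρ (MvPolynomial.C b) = MvPolynomial.C (algebraMap Γ(S, V) Γ(S, S.basicOpen r) b) := by
        show locRho _ _ _ = _
        rw [locRho_C, MvPolynomial.algebraMap_def, MvPolynomial.map_C]
      rw [h1]
      have h2 : φr (MvPolynomial.C (algebraMap Γ(S, V) Γ(S, S.basicOpen r) b)) =
          (f.appLE (S.basicOpen r) W h₂).hom (algebraMap Γ(S, V) Γ(S, S.basicOpen r) b) :=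
        RingHom.congr_fun hφr.2 _
      rw [h2]
      have h3 := f.map_appLE h₂ (homOfLE (S.basicOpen_le r)).op
      exact congrArg (fun (k : Γ(S, V) ⟶ Γ(X, W)) => k.hom b) h3
    · constructor
      · intro hpc G hG
        exact (isPC_cImm_iff W φr ρ hρs hρ (φr.comp ρ) rfl _ m).1 (hpc G hG)
      · intro hpc G hG
        exact (isPC_cImm_iff W φr ρ hρs hρ (φr.comp ρ) rfl _ m).2 (hpc G hG)
  constructor
  · rintro ⟨n, φr, hφr, hpc⟩
    obtain ⟨φ', hφ', hiff⟩ := key φr hφr
    exact ⟨n + 1, φ', hφ', hiff.1 hpc⟩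
  · intro H
    letI : Algebra Γ(S, S.basicOpen r) Γ(X, W) := (f.appLE (S.basicOpen r) W h₂).hom.toAlgebra
    haveI : Algebra.FiniteType Γ(S, S.basicOpen r) Γ(X, W) := hft
    obtain ⟨n, α, hα⟩ := Groth.Agent.Helper5.PCHom.exists_presentation
      (R := Γ(S, S.basicOpen r)) (A := Γ(X, W))
    let φr : MvPolynomial (Fin n) Γ(S, S.basicOpen r) →+* Γ(X, W) := α
    have hφr : DerSch.IsChart f W (S.basicOpen r) h₂ φr :=
      ⟨hα, RingHom.ext (fun b => α.commutes b)⟩
    obtain ⟨φ', hφ', hiff⟩ := key φr hφr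
    exact ⟨n, φr, hφr, hiff.2 (chartPC_of_cpAt H φ' hφ')⟩

end Groth.Agent.Lib.Helper5.CPAtLib
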