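import Mathlib
import Groth.Agent.Lib.Helper5.RelPC.CPAt

/-!
# Relative pseudo-coherence is the chart test on all affine pairs, for arbitrary objects (helper5)
-/
set_option autoImplicit false
set_option linter.style.haveILetI false
universe u
open CategoryTheory CategoryTheory.Limits AlgebraicGeometry Opposite TopologicalSpace

attribute [local instance] HasDerivedCategory.standard

namespace Groth.Agent.Lib.Helper5.CPAtLib

variable {X S : Scheme.{u}} (f : X ⟶ S) (E : DCoh.D X) (m : ℤ)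

/-- (⟸) the chart test on all affine pairs gives relative pseudo-coherence -/
theorem isPseudoCoherentRel_of_cpAt [LocallyOfFiniteType f]
    (H : ∀ (U : X.affineOpens) (V : S.affineOpens) (h : (U : X.Opens) ≤ f ⁻¹ᵁ (V : S.Opens)),
      CPAt f E m U V h) :
    DerSch.IsPseudoCoherentRel f m E := by
  refine ⟨inferInstance, Set.univ, ?_, fun V _ =>
    ⟨{U : X.affineOpens | (U : X.Opens) ≤ f ⁻¹ᵁ (V : S.Opens)}, ?_, fun U _ h => H U V h⟩⟩
  · rw [← iSup_affineOpens_eq_top S]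
    simp
  · apply le_antisymm
    · exact iSup₂_le (fun U hU => hU)
    · intro x hx
      obtain ⟨_, ⟨W, hW : IsAffineOpen W, rfl⟩, hxW, hWV⟩ :=
        X.isBasis_affineOpens.exists_subset_of_mem_open hx (f ⁻¹ᵁ (V : S.Opens)).2
      exact Opens.mem_iSup.2 ⟨⟨W, hW⟩, Opens.mem_iSup.2 ⟨hWV, hxW⟩⟩

/-- the local step of (⟹) -/
theorem exists_basicOpen_cpAt [LocallyOfFiniteType f]
    (hrel : DerSch.IsPseudoCoherentRel f m E) (U : X.affineOpens) (V : S.affineOpens)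
    (h : (U : X.Opens) ≤ f ⁻¹ᵁ (V : S.Opens)) (x : X) (hxU : x ∈ (U : X.Opens)) :
    ∃ g : Γ(X, (U : X.Opens)), x ∈ X.basicOpen g ∧
      CPAt f E m (X.basicOpen g) (V : S.Opens) ((X.basicOpen_le g).trans h) := by
  obtain ⟨-, 𝒱, h𝒱, hV⟩ := hrel
  have hfx : f x ∈ (⨆ V' ∈ 𝒱, (V' : S.Opens)) := by rw [h𝒱]; trivial
  simp only [Opens.mem_iSup] at hfx
  obtain ⟨V', hV'𝒱, hxV'⟩ := hfx
  obtain ⟨r, r', hrr', hxr⟩ := exists_basicOpen_le_affine_inter V.2 V'.2 (f x) ⟨h hxU, hxV'⟩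
  obtain ⟨𝒰, h𝒰, hU'⟩ := hV V' hV'𝒱
  have hx' : x ∈ (⨆ U' ∈ 𝒰, (U' : X.Opens)) := by rw [h𝒰]; exact hxV'
  simp only [Opens.mem_iSup] at hx'
  obtain ⟨U', hU'𝒰, hxU'⟩ := hx'
  have hle' : (U' : X.Opens) ≤ f ⁻¹ᵁ (V' : S.Opens) := by
    rw [← h𝒰]
    exact le_iSup₂ (f := fun (W : X.affineOpens) (_ : W ∈ 𝒰) => (W : X.Opens)) U' hU'𝒰
  have a0 : CPAt f E m (U' : X.Opens) (V' : S.Opens) hle' := hU' U' hU'𝒰 hle'
  obtain ⟨g₀, g₀', hgg', hxg⟩ := exists_basicOpen_le_affine_inter U.2 U'.2 x ⟨hxU, hxU'⟩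
  let g : Γ(X, (U : X.Opens)) := g₀ * (f.appLE (V : S.Opens) (U : X.Opens) h).hom r
  let g' : Γ(X, (U' : X.Opens)) := g₀' * (f.appLE (V' : S.Opens) (U' : X.Opens) hle').hom r'
  have hg : X.basicOpen g = X.basicOpen g₀ ⊓ f ⁻¹ᵁ (S.basicOpen r) := by
    show X.basicOpen (g₀ * _) = _
    rw [Scheme.basicOpen_mul]
    erw [Scheme.basicOpen_appLE]
    rw [← inf_assoc, inf_eq_left.2 (X.basicOpen_le g₀)]
  have hg' : X.basicOpen g' = X.basicOpen g₀' ⊓ f ⁻¹ᵁ (S.basicOpen r') := by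
    show X.basicOpen (g₀' * _) = _
    rw [Scheme.basicOpen_mul]
    erw [Scheme.basicOpen_appLE]
    rw [← inf_assoc, inf_eq_left.2 (X.basicOpen_le g₀')]
  have hWW : X.basicOpen g' = X.basicOpen g := by rw [hg, hg', hgg', hrr']
  have hxW : x ∈ X.basicOpen g := by
    rw [hg]
    exact ⟨hxg, hxr⟩
  have h₂ : X.basicOpen g ≤ f ⁻¹ᵁ (S.basicOpen r) := by rw [hg]; exact inf_le_right
  have h₂' : X.basicOpen g' ≤ f ⁻¹ᵁ (S.basicOpen r') := by rw [hg']; exact inf_le_right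
  refine ⟨g, hxW, ?_⟩
  have a1 := cpAt_basicOpen U'.2 (V' : S.Opens) hle' g' a0
  have hft₂' : (f.appLE (S.basicOpen r') (X.basicOpen g') h₂').hom.FiniteType :=
    HasRingHomProperty.appLE @LocallyOfFiniteType f inferInstance
      ⟨S.basicOpen r', V'.2.basicOpen r'⟩ ⟨X.basicOpen g', U'.2.basicOpen g'⟩ h₂'
  have a2 := (cpAt_base_iff V'.2 r' h₂' hft₂').2 a1
  have a4 := (cpAt_congr hWW hrr'.symm h₂' h₂).1 a2
  have hft₂ : (f.appLE (S.basicOpen r) (X.basicOpen g) h₂).hom.FiniteType :=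
    HasRingHomProperty.appLE @LocallyOfFiniteType f inferInstance
      ⟨S.basicOpen r, V.2.basicOpen r⟩ ⟨X.basicOpen g, U.2.basicOpen g⟩ h₂
  exact (cpAt_base_iff V.2 r h₂ hft₂).1 a4

/-- (⟹) relative pseudo-coherence gives the chart test on all affine pairs -/
theorem cpAt_of_isPseudoCoherentRel [LocallyOfFiniteType f]
    (hrel : DerSch.IsPseudoCoherentRel f m E) (U : X.affineOpens) (V : S.affineOpens)
    (h : (U : X.Opens) ≤ f ⁻¹ᵁ (V : S.Opens)) : CPAt f E m (U : X.Opens) (V : S.Opens) h := by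
  have key := fun (x : (U : X.Opens)) =>
    exists_basicOpen_cpAt f E m hrel U V h x.1 x.2
  choose g hxg hg using key
  have hspan : Ideal.span (Set.range g) = ⊤ := by
    rw [← U.2.self_le_iSup_basicOpen_iff]
    intro x hx
    rw [Opens.mem_iSup]
    exact ⟨⟨g ⟨x, hx⟩, ⟨⟨x, hx⟩, rfl⟩⟩, hxg ⟨x, hx⟩⟩
  obtain ⟨t, ht₁, ht₂⟩ := (Ideal.span_eq_top_iff_finite _).mp hspan
  let e := t.equivFin
  let gg : Fin t.card → Γ(X, (U : X.Opens)) := fun i => ((e.symm i : t) : Γ(X, (U : X.Opens)))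
  have hr : Set.range gg = (t : Set Γ(X, (U : X.Opens))) := by
    ext y
    constructor
    · rintro ⟨i, rfl⟩
      exact (e.symm i).2
    · intro hy
      exact ⟨e ⟨y, hy⟩, by simp [gg]⟩
  have hft : (f.appLE (V : S.Opens) (U : X.Opens) h).hom.FiniteType :=
    HasRingHomProperty.appLE @LocallyOfFiniteType f inferInstance V U h
  refine cpAt_of_cover U.2 (V : S.Opens) h hft gg (by rw [hr]; exact ht₂) (fun i => ?_)
  obtain ⟨x, hx⟩ := ht₁ (e.symm i).2
  have : gg i = g x := hx.symm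
  rw [cpAt_congr (congrArg X.basicOpen this) rfl
    ((X.basicOpen_le (gg i)).trans h) ((X.basicOpen_le (g x)).trans h)]
  exact hg x

/-- **relative pseudo-coherence is the chart test on all affine pairs** -/
theorem isPseudoCoherentRel_iff_cpAt [LocallyOfFiniteType f] :
    DerSch.IsPseudoCoherentRel f m E ↔
      ∀ (U : X.affineOpens) (V : S.affineOpens) (h : (U : X.Opens) ≤ f ⁻¹ᵁ (V : S.Opens)),
        CPAt f E m (U : X.Opens) (V : S.Opens) h :=
  ⟨fun hrel U V h => cpAt_of_isPseudoCoherentRel f E m hrel U V h,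
    isPseudoCoherentRel_of_cpAt f E m⟩

end Groth.Agent.Lib.Helper5.CPAtLib
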