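import Mathlib
import Groth.Agent.Lib.Helper5.RelPC.CPAt2
import Groth.Agent.Lib.Helper5.RelPC.RelPCQC

/-!
# Relative pseudo-coherence: the chart functor, triangles, open immersions of the source (helper5)
-/
set_option autoImplicit false
set_option linter.style.haveILetI false
universe u
open CategoryTheory CategoryTheory.Limits AlgebraicGeometry Opposite TopologicalSpace
  CategoryTheory.Pretriangulated

attribute [local instance] HasDerivedCategory.standard

namespace Groth.Agent.Lib.Helper5.CPAtLib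

open Groth.Agent.Lib.Helper5.ClPush Groth.Agent.Lib.Helper5.PCTri
  Groth.Agent.Lib.Helper5.CPMoves Groth.Agent.Lib.Helper5.ChartIndep
  Groth.Agent.Lib.Helper5.FinPush

section ChartD

variable {X T : Scheme.{u}} (U : X.Opens) (c : (U : Scheme.{u}) ⟶ T) [IsClosedImmersion c]

/-- restrict to `U`, then push forward along the closed immersion `c` -/
noncomputable abbrev chartD : DCoh.D X ⥤ DCoh.D T := DCoh.restrictD U.ι ⋙ pushD c

/-- the chart functor computes the termwise construction of `ChartPC` -/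
noncomputable def chartDIso (G : CochainComplex X.Modules ℤ) :
    DCoh.toD T ((DerSch.pushCx c).obj ((DCoh.restrictCx U).obj G)) ≅
      (chartD U c).obj (DCoh.toD X G) :=
  ((Scheme.Modules.pushforward c).mapDerivedCategoryFactors.app _).symm ≪≫
    (pushD c).mapIso
      (((Scheme.Modules.restrictFunctor U.ι).mapDerivedCategoryFactors.app G).symm)

theorem cp_iff_chartD (G : CochainComplex X.Modules ℤ) (m : ℤ) :
    CP m ((DCoh.restrictCx U).obj G) c ↔
      DCoh.IsPseudoCoherentD m ((chartD U c).obj (DCoh.toD X G)) :=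
  isPC_iff_of_iso (chartDIso U c G)

end ChartD

variable {X S : Scheme.{u}}

/-- the chart test in terms of the chart functor -/
theorem chartPC_iff_isPC {U : X.Opens} {V : S.Opens} {n : ℕ}
    (φ : MvPolynomial (Fin n) Γ(S, V) →+* Γ(X, U)) [IsClosedImmersion (DerSch.chartImm U φ)]
    (K : DCoh.D X) (m : ℤ) :
    DerSch.ChartPC m K U V φ ↔
      DCoh.IsPseudoCoherentD m ((chartD U (DerSch.chartImm U φ)).obj K) := by
  constructor
  · intro h
    have e := DerivedCategory.Q.objObjPreimageIso K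
    exact (isPC_iff_of_iso ((chartD U _).mapIso e)).1 ((cp_iff_chartD U _ _ m).1 (h _ ⟨e⟩))
  · rintro h G ⟨e⟩
    exact (cp_iff_chartD U _ G m).2 ((isPC_iff_of_iso ((chartD U _).mapIso e)).2 h)

/-- the chart test may be checked on one representative -/
theorem chartPC_iff_cp {U : X.Opens} (hU : IsAffineOpen U) {V : S.Opens} {n : ℕ}
    (φ : MvPolynomial (Fin n) Γ(S, V) →+* Γ(X, U)) (hφ : Function.Surjective φ)
    (G : CochainComplex X.Modules ℤ) (m : ℤ) :
    DerSch.ChartPC m (DCoh.toD X G) U V φ ↔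
      CP m ((DCoh.restrictCx U).obj G) (DerSch.chartImm U φ) := by
  haveI := Groth.Agent.Lib.Helper5.RelPCQC.isClosedImmersion_chartImm U hU φ hφ
  rw [chartPC_iff_isPC, cp_iff_chartD]

/-- charts exist on affine pairs for morphisms locally of finite type -/
theorem exists_isChart (f : X ⟶ S) [LocallyOfFiniteType f] (U : X.affineOpens)
    (V : S.affineOpens) (h : (U : X.Opens) ≤ f ⁻¹ᵁ (V : S.Opens)) :
    ∃ (n : ℕ) (φ : MvPolynomial (Fin n) Γ(S, (V : S.Opens)) →+* Γ(X, (U : X.Opens))),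
      DerSch.IsChart f U V h φ := by
  have hft : (f.appLE (V : S.Opens) (U : X.Opens) h).hom.FiniteType :=
    HasRingHomProperty.appLE @LocallyOfFiniteType f inferInstance V U h
  letI : Algebra Γ(S, (V : S.Opens)) Γ(X, (U : X.Opens)) := (f.appLE V U h).hom.toAlgebra
  haveI : Algebra.FiniteType Γ(S, (V : S.Opens)) Γ(X, (U : X.Opens)) := hft
  obtain ⟨n, α, hα⟩ := Groth.Agent.Helper5.PCHom.exists_presentation
    (R := Γ(S, (V : S.Opens))) (A := Γ(X, (U : X.Opens)))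
  exact ⟨n, α, hα, RingHom.ext (fun b => α.commutes b)⟩

/-- **triangles**, on one affine pair -/
theorem cpAt_triangle (f : X ⟶ S) [LocallyOfFiniteType f] (m : ℤ) (T : Triangle (DCoh.D X))
    (hT : T ∈ distTriang _) (U : X.affineOpens) (V : S.affineOpens)
    (h : (U : X.Opens) ≤ f ⁻¹ᵁ (V : S.Opens)) :
    (CPAt f T.obj₁ (m + 1) U V h → CPAt f T.obj₂ m U V h → CPAt f T.obj₃ m U V h) ∧
    (CPAt f T.obj₁ m U V h → CPAt f T.obj₃ m U V h → CPAt f T.obj₂ m U V h) ∧
    (CPAt f T.obj₂ (m + 1) U V h → CPAt f T.obj₃ m U V h → CPAt f T.obj₁ (m + 1) U V h) := by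
  obtain ⟨n, φ, hφ⟩ := exists_isChart f U V h
  haveI := Groth.Agent.Lib.Helper5.RelPCQC.isClosedImmersion_chartImm (U : X.Opens) U.2 φ hφ.1
  have hT' := (chartD (U : X.Opens) (DerSch.chartImm (U : X.Opens) φ)).map_distinguished T hT
  have tri := isPC_triangle m _ hT'
  refine ⟨fun h1 h2 => ⟨n, φ, hφ, (chartPC_iff_isPC φ _ _).2 (tri.1 ?_ ?_)⟩,
    fun h1 h2 => ⟨n, φ, hφ, (chartPC_iff_isPC φ _ _).2 (tri.2.1 ?_ ?_)⟩,
    fun h1 h2 => ⟨n, φ, hφ, (chartPC_iff_isPC φ _ _).2 (tri.2.2 ?_ ?_)⟩⟩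
  all_goals first
    | exact (chartPC_iff_isPC φ _ _).1 (chartPC_of_cpAt h1 φ hφ)
    | exact (chartPC_iff_isPC φ _ _).1 (chartPC_of_cpAt h2 φ hφ)

/-- **triangles** for relative pseudo-coherence -/
theorem isPseudoCoherentRel_triangle (f : X ⟶ S) [LocallyOfFiniteType f] (m : ℤ)
    (T : Triangle (DCoh.D X)) (hT : T ∈ distTriang _) :
    (DerSch.IsPseudoCoherentRel f (m + 1) T.obj₁ → DerSch.IsPseudoCoherentRel f m T.obj₂ →
      DerSch.IsPseudoCoherentRel f m T.obj₃) ∧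
    (DerSch.IsPseudoCoherentRel f m T.obj₁ → DerSch.IsPseudoCoherentRel f m T.obj₃ →
      DerSch.IsPseudoCoherentRel f m T.obj₂) ∧
    (DerSch.IsPseudoCoherentRel f (m + 1) T.obj₂ → DerSch.IsPseudoCoherentRel f m T.obj₃ →
      DerSch.IsPseudoCoherentRel f (m + 1) T.obj₁) := by
  simp only [isPseudoCoherentRel_iff_cpAt]
  exact ⟨fun h1 h2 U V h => (cpAt_triangle f m T hT U V h).1 (h1 U V h) (h2 U V h),
    fun h1 h2 U V h => (cpAt_triangle f m T hT U V h).2.1 (h1 U V h) (h2 U V h),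
    fun h1 h2 U V h => (cpAt_triangle f m T hT U V h).2.2 (h1 U V h) (h2 U V h)⟩

section Image

variable {X' : Scheme.{u}} (ι : X' ⟶ X) [IsOpenImmersion ι]

/-- transporting the chart test along an open immersion of the source, complex level -/
theorem cp_image_iff (G : CochainComplex X.Modules ℤ) {W : X'.Opens} (hW : IsAffineOpen W)
    {P : Type u} [CommRing P] (φ : P →+* Γ(X, ι ''ᵁ W)) (m : ℤ) :
    CP m ((RC hW.fromSpec).obj ((RC ι).obj G))
        (Spec.map (CommRingCat.ofHom ((ι.appIso W).hom.hom.comp φ))) ↔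
      CP m ((RC (hW.image_of_isOpenImmersion ι).fromSpec).obj G)
        (Spec.map (CommRingCat.ofHom φ)) := by
  let κ : Spec Γ(X', W) ≅ Spec Γ(X, ι ''ᵁ W) := Scheme.Spec.mapIso (ι.appIso W).op
  have hκ : κ.hom = Spec.map (ι.appIso W).hom := rfl
  have hsq : κ.hom ≫ (hW.image_of_isOpenImmersion ι).fromSpec = hW.fromSpec ≫ ι := by
    rw [hκ, Scheme.Hom.appIso_hom']
    exact IsAffineOpen.SpecMap_appLE_fromSpec ι (hW.image_of_isOpenImmersion ι) hW _
  rw [← cp_iso_source κ ((RC (hW.image_of_isOpenImmersion ι).fromSpec).obj G)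
    (Spec.map (CommRingCat.ofHom φ))]
  have hc : κ.hom ≫ Spec.map (CommRingCat.ofHom φ) =
      Spec.map (CommRingCat.ofHom ((ι.appIso W).hom.hom.comp φ)) := by
    rw [hκ, ← Spec.map_comp]
    rfl
  rw [cp_congr_hom _ hc]
  exact cp_congr_iso ((NatIso.mapHomologicalComplex
    ((Scheme.Modules.restrictFunctorComp hW.fromSpec ι).symm ≪≫
      Scheme.Modules.restrictFunctorCongr hsq.symm ≪≫
      Scheme.Modules.restrictFunctorComp κ.hom _) (ComplexShape.up ℤ)).app G) _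

/-- **transporting the chart test along an open immersion of the source** -/
theorem cpAt_image_iff (f : X ⟶ S) (G : CochainComplex X.Modules ℤ) (m : ℤ) {W : X'.Opens}
    (hW : IsAffineOpen W) (V : S.Opens) (h : W ≤ (ι ≫ f) ⁻¹ᵁ V) (h' : ι ''ᵁ W ≤ f ⁻¹ᵁ V) :
    CPAt (ι ≫ f) (DCoh.toD X' ((RC ι).obj G)) m W V h ↔
      CPAt f (DCoh.toD X G) m (ι ''ᵁ W) V h' := by
  have hW' := hW.image_of_isOpenImmersion ι
  have hbij : Function.Bijective (ι.appIso W).hom.hom :=
    ConcreteCategory.bijective_of_isIso (ι.appIso W).hom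
  have happ : ((ι ≫ f).appLE V W h).hom =
      (ι.appIso W).hom.hom.comp (f.appLE V (ι ''ᵁ W) h').hom := by
    rw [Scheme.Hom.appIso_hom', ← CommRingCat.hom_comp, Scheme.Hom.appLE_comp_appLE]
  have key : ∀ {n : ℕ} (φ : MvPolynomial (Fin n) Γ(S, V) →+* Γ(X, ι ''ᵁ W)),
      (DerSch.IsChart f (ι ''ᵁ W) V h' φ ↔
        DerSch.IsChart (ι ≫ f) W V h ((ι.appIso W).hom.hom.comp φ)) ∧
      (Function.Surjective φ → (DerSch.ChartPC m (DCoh.toD X G) (ι ''ᵁ W) V φ ↔
        DerSch.ChartPC m (DCoh.toD X' ((RC ι).obj G)) W V ((ι.appIso W).hom.hom.comp φ))) := by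
    intro n φ
    constructor
    · unfold DerSch.IsChart
      rw [happ, RingHom.comp_assoc, RingHom.cancel_left hbij.injective, RingHom.coe_comp,
        Function.Surjective.of_comp_iff' hbij]
    · intro hφ
      have hφ' : Function.Surjective ((ι.appIso W).hom.hom.comp φ) := by
        rw [RingHom.coe_comp]
        exact hbij.surjective.comp hφ
      rw [chartPC_iff_cp hW' φ hφ G m, chartPC_iff_cp hW _ hφ' ((RC ι).obj G) m]
      show CP m _ (cImm _ φ) ↔ CP m _ (cImm _ _)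
      rw [cp_cImm_iff G hW' φ m, cp_cImm_iff ((RC ι).obj G) hW _ m]
      exact (cp_image_iff ι G hW φ m).symm
  constructor
  · rintro ⟨n, φ', hφ', hpc⟩
    have e : (ι.appIso W).hom.hom.comp ((ι.appIso W).inv.hom.comp φ') = φ' := by
      rw [← RingHom.comp_assoc, ← CommRingCat.hom_comp, Iso.inv_hom_id]
      rfl
    have k := key ((ι.appIso W).inv.hom.comp φ')
    rw [e] at k
    exact ⟨n, _, k.1.2 hφ', (k.2 (k.1.2 hφ').1).2 hpc⟩
  · rintro ⟨n, φ, hφ, hpc⟩
    exact ⟨n, _, (key φ).1.1 hφ, ((key φ).2 hφ.1).1 hpc⟩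

end Image

/-- **locality on the source**, on an affine pair -/
theorem cpAt_of_local (f : X ⟶ S) [LocallyOfFiniteType f] (E : DCoh.D X) (m : ℤ)
    (U : X.affineOpens) (V : S.affineOpens) (h : (U : X.Opens) ≤ f ⁻¹ᵁ (V : S.Opens))
    (H : ∀ x ∈ (U : X.Opens), ∃ g : Γ(X, (U : X.Opens)), x ∈ X.basicOpen g ∧
      CPAt f E m (X.basicOpen g) (V : S.Opens) ((X.basicOpen_le g).trans h)) :
    CPAt f E m (U : X.Opens) (V : S.Opens) h := by
  have key := fun (x : (U : X.Opens)) => H x.1 x.2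
  choose g hxg hg using key
  have hspan : Ideal.span (Set.range g) = ⊤ := by
    rw [← U.2.self_le_iSup_basicOpen_iff]
    intro x hx
    rw [Opens.mem_iSup]
    exact ⟨⟨g ⟨x, hx⟩, ⟨⟨x, hx⟩, rfl⟩⟩, hxg ⟨x, hx⟩⟩
  obtain ⟨t, ht₁, ht₂⟩ := (Ideal.span_eq_top_iff_finite _).mp hspan
  let e := t.equivFin
  let gg : Fin t.card → Γ(X, (U : X.Opens)) := fun i => ((e.symm i : t) : Γ(X, (U : X.Opens)))
  have hr : Set.range gg = (t : Set Γ(X, (U : X.Opens))) := by
    ext y
    constructor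
    · rintro ⟨i, rfl⟩
      exact (e.symm i).2
    · intro hy
      exact ⟨e ⟨y, hy⟩, by simp [gg]⟩
  have hft : (f.appLE (V : S.Opens) (U : X.Opens) h).hom.FiniteType :=
    HasRingHomProperty.appLE @LocallyOfFiniteType f inferInstance V U h
  refine cpAt_of_cover U.2 (V : S.Opens) h hft gg (by rw [hr]; exact ht₂) (fun i => ?_)
  obtain ⟨x, hx⟩ := ht₁ (e.symm i).2
  have : gg i = g x := hx.symm
  rw [cpAt_congr (congrArg X.basicOpen this) rfl
    ((X.basicOpen_le (gg i)).trans h) ((X.basicOpen_le (g x)).trans h)]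
  exact hg x


/-- **restriction to an open of the source** -/
theorem isPseudoCoherentRel_restrict (f : X ⟶ S) (m : ℤ) (G : CochainComplex X.Modules ℤ)
    (hE : DerSch.IsPseudoCoherentRel f m (DCoh.toD X G)) (U : X.Opens) :
    DerSch.IsPseudoCoherentRel (U.ι ≫ f) m
      (DCoh.toD (U : Scheme.{u}) ((DCoh.restrictCx U).obj G)) := by
  haveI := hE.1
  apply isPseudoCoherentRel_of_cpAt
  intro W V h
  have h' : U.ι ''ᵁ (W : (U : Scheme.{u}).Opens) ≤ f ⁻¹ᵁ (V : S.Opens) := by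
    rintro _ ⟨x, hx, rfl⟩
    exact h hx
  exact (cpAt_image_iff U.ι f G m W.2 V h h').2
    (cpAt_of_isPseudoCoherentRel f _ m hE ⟨_, W.2.image_of_isOpenImmersion U.ι⟩ V h')

/-- **locality on the source** -/
theorem isPseudoCoherentRel_of_openCover (f : X ⟶ S) [LocallyOfFiniteType f] (m : ℤ)
    (G : CochainComplex X.Modules ℤ) {ι : Type*} (U : ι → X.Opens) (hU : ⨆ i, U i = ⊤)
    (h : ∀ i : ι, DerSch.IsPseudoCoherentRel ((U i).ι ≫ f) m
      (DCoh.toD (U i : Scheme.{u}) ((DCoh.restrictCx (U i)).obj G))) :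
    DerSch.IsPseudoCoherentRel f m (DCoh.toD X G) := by
  apply isPseudoCoherentRel_of_cpAt
  intro W V hWV
  apply cpAt_of_local
  intro x hx
  obtain ⟨i, hi⟩ : ∃ i, x ∈ U i := by
    have : x ∈ (⨆ i, U i) := hU ▸ trivial
    exact Opens.mem_iSup.1 this
  obtain ⟨g, hg1, hg2⟩ := W.2.exists_basicOpen_le ⟨x, hi⟩ hx
  refine ⟨g, hg2, ?_⟩
  have hD : (U i).ι ''ᵁ ((U i).ι ⁻¹ᵁ X.basicOpen g) = X.basicOpen g := by
    rw [Scheme.Hom.image_preimage_eq_opensRange_inf, Scheme.Opens.opensRange_ι,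
      inf_eq_right.2 hg1]
  have haff : IsAffineOpen ((U i).ι ⁻¹ᵁ X.basicOpen g) :=
    (W.2.basicOpen g).preimage_of_isOpenImmersion (U i).ι (by simpa using hg1)
  have h2 : (U i).ι ''ᵁ ((U i).ι ⁻¹ᵁ X.basicOpen g) ≤ f ⁻¹ᵁ (V : S.Opens) := by
    rw [hD]
    exact (X.basicOpen_le g).trans hWV
  have h1 : ((U i).ι ⁻¹ᵁ X.basicOpen g) ≤ ((U i).ι ≫ f) ⁻¹ᵁ (V : S.Opens) := by
    intro y hy
    exact h2 ⟨y, hy, rfl⟩
  have := (cpAt_image_iff (U i).ι f G m haff V h1 h2).1
    (cpAt_of_isPseudoCoherentRel _ _ m (h i) ⟨_, haff⟩ V h1)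
  rwa [cpAt_congr hD rfl] at this

end Groth.Agent.Lib.Helper5.CPAtLib
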