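import Mathlib
import Groth.Agent.Lib.Helper5.RelPC.CPAt3
import Groth.Agent.Lib.Helper5.Perf.PCTermsSch

/-!
# Relative pseudo-coherence from terms / cohomology sheaves (helper5)
-/
set_option autoImplicit false
set_option linter.style.haveILetI false
universe u
open CategoryTheory CategoryTheory.Limits AlgebraicGeometry Opposite TopologicalSpace
  CategoryTheory.Pretriangulated DerivedCategory

attribute [local instance] HasDerivedCategory.standard

namespace Groth.Agent.Lib.Helper5.CPAtLib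

open Groth.Agent.Lib.Helper5.ClPush Groth.Agent.Lib.Helper5.PCTri
  Groth.Agent.Lib.Helper5.CPMoves Groth.Agent.Lib.Helper5.ChartIndep
  Groth.Agent.Lib.Helper5.FinPush Groth.Agent.Lib.Helper5.ExactHom
  Groth.Agent.Lib.Helper5.PCTermsSch

section ChartD

variable {X T : Scheme.{u}} (U : X.Opens) (c : (U : Scheme.{u}) ⟶ T) [IsClosedImmersion c]

/-- module-level chart functor -/
noncomputable abbrev chartM : X.Modules ⥤ T.Modules :=
  Scheme.Modules.restrictFunctor U.ι ⋙ Scheme.Modules.pushforward c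

noncomputable def chartDSingleIso (n : ℤ) (M : X.Modules) :
    (chartD U c).obj ((singleFunctor X.Modules n).obj M) ≅
      (singleFunctor T.Modules n).obj ((chartM U c).obj M) :=
  (pushD c).mapIso
      (((Scheme.Modules.restrictFunctor U.ι).mapDerivedCategorySingleFunctor n).app M) ≪≫
    ((Scheme.Modules.pushforward c).mapDerivedCategorySingleFunctor n).app _

noncomputable def chartDHomologyIso (K : DCoh.D X) (i : ℤ) :
    DCoh.HD ((chartD U c).obj K) i ≅ (chartM U c).obj (DCoh.HD K i) :=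
  (derivedHomologyIso (Scheme.Modules.pushforward c) i).app _ ≪≫
    (Scheme.Modules.pushforward c).mapIso
      ((derivedHomologyIso (Scheme.Modules.restrictFunctor U.ι) i).app K)

end ChartD

variable {X S : Scheme.{u}}

/-- the chart test for an object relatively pseudo-coherent, in terms of the chart functor -/
theorem isPC_chartD_of_rel (f : X ⟶ S) [LocallyOfFiniteType f] {m : ℤ} {E : DCoh.D X}
    (hE : DerSch.IsPseudoCoherentRel f m E) (U : X.affineOpens) (V : S.affineOpens)
    (hUV : (U : X.Opens) ≤ f ⁻¹ᵁ (V : S.Opens)) {n : ℕ}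
    (φ : MvPolynomial (Fin n) Γ(S, (V : S.Opens)) →+* Γ(X, (U : X.Opens)))
    (hφ : DerSch.IsChart f U V hUV φ) [IsClosedImmersion (DerSch.chartImm (U : X.Opens) φ)] :
    DCoh.IsPseudoCoherentD m
      ((chartD (U : X.Opens) (DerSch.chartImm (U : X.Opens) φ)).obj E) :=
  (chartPC_iff_isPC φ _ _).1
    (chartPC_of_cpAt (cpAt_of_isPseudoCoherentRel f _ _ hE U V hUV) φ hφ)

/-- **relative pseudo-coherence from the terms** -/
theorem isPseudoCoherentRel_of_terms (f : X ⟶ S) (m : ℤ) (F : CochainComplex X.Modules ℤ)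
    (b : ℤ) (hb : ∀ i : ℤ, b < i → IsZero (F.X i))
    (h : ∀ i : ℤ, DerSch.IsPseudoCoherentRel f (m - i) (DCoh.inD X (F.X i))) :
    DerSch.IsPseudoCoherentRel f m (DCoh.toD X F) := by
  haveI := (h 0).1
  apply isPseudoCoherentRel_of_cpAt
  intro U V hUV
  obtain ⟨n, φ, hφ⟩ := exists_isChart f U V hUV
  haveI := Groth.Agent.Lib.Helper5.RelPCQC.isClosedImmersion_chartImm (U : X.Opens) U.2 φ hφ.1
  refine ⟨n, φ, hφ, (chartPC_iff_cp U.2 φ hφ.1 F m).2 ?_⟩
  refine isPC_of_terms m _ b
    (fun i hi => by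
      show IsZero ((chartM (U : X.Opens) (DerSch.chartImm (U : X.Opens) φ)).obj (F.X i))
      exact Functor.map_isZero _ (hb i hi)) (fun i => ?_)
  exact isPC_of_iso (chartDSingleIso (U : X.Opens) _ 0 (F.X i))
    (isPC_chartD_of_rel f (h i) U V hUV φ hφ)

/-- **relative pseudo-coherence from the cohomology sheaves** -/
theorem isPseudoCoherentRel_of_homology (f : X ⟶ S) (m : ℤ) (E : DCoh.D X) (b : ℤ) [E.IsLE b]
    (h : ∀ i : ℤ, DerSch.IsPseudoCoherentRel f (m - i) (DCoh.inD X (DCoh.HD E i))) :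
    DerSch.IsPseudoCoherentRel f m E := by
  haveI := (h 0).1
  apply isPseudoCoherentRel_of_cpAt
  intro U V hUV
  obtain ⟨n, φ, hφ⟩ := exists_isChart f U V hUV
  haveI := Groth.Agent.Lib.Helper5.RelPCQC.isClosedImmersion_chartImm (U : X.Opens) U.2 φ hφ.1
  refine ⟨n, φ, hφ, (chartPC_iff_isPC φ _ _).2 ?_⟩
  refine isPC_of_homology m _ b (fun i hi => ?_) (fun i => ?_)
  · exact (Functor.map_isZero _ (isZero_of_isLE E b i hi)).of_iso (chartDHomologyIso _ _ E i)
  · exact isPC_of_iso (chartDSingleIso (U : X.Opens) _ 0 _ ≪≫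
      (singleFunctor _ 0).mapIso (chartDHomologyIso _ _ E i).symm)
      (isPC_chartD_of_rel f (h i) U V hUV φ hφ)

end Groth.Agent.Lib.Helper5.CPAtLib
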