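import Mathlib
import Groth.Agent.Lib.Helper5.RelPC.CPAt4
import Groth.Agent.Lib.Helper5.Perf.ClPushC
import Groth.Agent.Lib.Helper5.Perf.Pull

/-!
# Relative versus absolute pseudo-coherence over a pseudo-coherent morphism (helper5)
-/
set_option autoImplicit false
set_option linter.style.haveILetI false
universe u
open CategoryTheory CategoryTheory.Limits AlgebraicGeometry Opposite TopologicalSpace
  CategoryTheory.Pretriangulated DerivedCategory

attribute [local instance] HasDerivedCategory.standard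

namespace Groth.Agent.Lib.Helper5.CPAtLib

open Groth.Agent.Lib.Helper5.ClPush Groth.Agent.Lib.Helper5.PCTri
  Groth.Agent.Lib.Helper5.CPMoves Groth.Agent.Lib.Helper5.ChartIndep
  Groth.Agent.Lib.Helper5.FinPush Groth.Agent.Lib.Helper5.ExactHom
  Groth.Agent.Lib.Helper5.PCTermsSch Groth.Agent.Lib.Helper5.PCBiprod

/-- restriction of the structure sheaf along an open immersion -/
noncomputable def restrictUnitIso {U Z : Scheme.{u}} (j : U ⟶ Z) [IsOpenImmersion j] :
    (Scheme.Modules.restrictFunctor j).obj (Coh.structureModule Z) ≅ Coh.structureModule U :=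
  (Scheme.Modules.restrictFunctorIsoPullback j).app _ ≪≫
    Groth.Agent.Lib.Helper5.PerfPull.unitIso j

/-- the structure sheaf in degree `0`, in the derived category -/
noncomputable def toDUnitIso (Y : Scheme.{u}) :
    DCoh.toD Y (DerSch.unitCx Y) ≅ DCoh.inD Y (Coh.structureModule Y) :=
  ((DerivedCategory.singleFunctorIsoCompQ Y.Modules 0).app (Coh.structureModule Y)).symm

variable {Y Z : Scheme.{u}}

/-- a pseudo-coherent morphism has pseudo-coherent charts -/
theorem pushO_of_isNPC (g : Y ⟶ Z) [LocallyOfFiniteType g]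
    (hg : ∀ n : ℤ, DerSch.IsNPseudoCoherent g n) (U : Y.affineOpens) (V : Z.affineOpens)
    (hUV : (U : Y.Opens) ≤ g ⁻¹ᵁ (V : Z.Opens)) {n : ℕ}
    (φ : MvPolynomial (Fin n) Γ(Z, (V : Z.Opens)) →+* Γ(Y, (U : Y.Opens)))
    (hφ : DerSch.IsChart g U V hUV φ) [IsClosedImmersion (DerSch.chartImm (U : Y.Opens) φ)] :
    PushO (DerSch.chartImm (U : Y.Opens) φ) := by
  intro m
  have h1 := isPC_chartD_of_rel g (hg m) U V hUV φ hφ
  let c := DerSch.chartImm (U : Y.Opens) φ
  have e1 : (chartD (U : Y.Opens) c).obj (DCoh.toD Y (DerSch.unitCx Y)) ≅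
      (chartD (U : Y.Opens) c).obj (DCoh.inD Y (Coh.structureModule Y)) :=
    (chartD (U : Y.Opens) c).mapIso (toDUnitIso Y)
  have e2 : (chartD (U : Y.Opens) c).obj (DCoh.inD Y (Coh.structureModule Y)) ≅
      DCoh.inD _ ((chartM (U : Y.Opens) c).obj (Coh.structureModule Y)) :=
    chartDSingleIso (U : Y.Opens) c 0 (Coh.structureModule Y)
  have e3 : (chartM (U : Y.Opens) c).obj (Coh.structureModule Y) ≅
      (Scheme.Modules.pushforward c).obj (Coh.structureModule (U : Y.Opens)) :=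
    (Scheme.Modules.pushforward c).mapIso (restrictUnitIso (U : Y.Opens).ι)
  exact isPC_of_iso (e1 ≪≫ e2 ≪≫ (singleFunctor _ 0).mapIso e3) h1

/-- **over a pseudo-coherent morphism, relative and absolute pseudo-coherence agree** -/
theorem isPC_iff_rel_of_isNPC (g : Y ⟶ Z) [LocallyOfFiniteType g]
    (hg : ∀ n : ℤ, DerSch.IsNPseudoCoherent g n) (r : ℤ) (E : DCoh.D Y) :
    DCoh.IsPseudoCoherentD r E ↔ DerSch.IsPseudoCoherentRel g r E := by
  rw [isPseudoCoherentRel_iff_cpAt]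
  constructor
  · intro hE U V hUV
    obtain ⟨n, φ, hφ⟩ := exists_isChart g U V hUV
    haveI := Groth.Agent.Lib.Helper5.RelPCQC.isClosedImmersion_chartImm (U : Y.Opens) U.2 φ hφ.1
    refine ⟨n, φ, hφ, (chartPC_iff_isPC φ _ _).2 ?_⟩
    exact (isPC_push_iff (pushO_of_isNPC g hg U V hUV φ hφ) _ r).1
      (Groth.Agent.Lib.Helper5.IsoSq.isPC_restrictD (U : Y.Opens).ι hE)
  · intro H
    apply isPC_local
    intro y
    obtain ⟨_, ⟨V, hV : IsAffineOpen V, rfl⟩, hyV, -⟩ :=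
      Z.isBasis_affineOpens.exists_subset_of_mem_open (Set.mem_univ (g y)) isOpen_univ
    obtain ⟨_, ⟨U, hU : IsAffineOpen U, rfl⟩, hyU, hUV⟩ :=
      Y.isBasis_affineOpens.exists_subset_of_mem_open (show y ∈ (g ⁻¹ᵁ V : Y.Opens) from hyV)
        (g ⁻¹ᵁ V).2
    obtain ⟨n, φ, hφ⟩ := exists_isChart g ⟨U, hU⟩ ⟨V, hV⟩ hUV
    haveI := Groth.Agent.Lib.Helper5.RelPCQC.isClosedImmersion_chartImm U hU φ hφ.1
    have h1 := (chartPC_iff_isPC φ _ _).1 (chartPC_of_cpAt (H ⟨U, hU⟩ ⟨V, hV⟩ hUV) φ hφ)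
    exact ⟨U, hyU, (isPC_push_iff (pushO_of_isNPC g hg ⟨U, hU⟩ ⟨V, hV⟩ hUV φ hφ) _ r).2 h1⟩

end Groth.Agent.Lib.Helper5.CPAtLib
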