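import Mathlib
import Groth.Agent.Lib.Helper5.RelPC.CPAt5
import Groth.Agent.Lib.Helper5.DRing.PCHomPoly

/-!
# Relative pseudo-coherence: transitivity over a pseudo-coherent morphism (helper5)
-/
set_option autoImplicit false
set_option linter.style.haveILetI false
universe u
open CategoryTheory CategoryTheory.Limits AlgebraicGeometry Opposite TopologicalSpace
  CategoryTheory.Pretriangulated DerivedCategory

attribute [local instance] HasDerivedCategory.standard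

namespace Groth.Agent.Lib.Helper5.CPAtLib

open Groth.Agent.Lib.Helper5.ClPush Groth.Agent.Lib.Helper5.PCTri
  Groth.Agent.Lib.Helper5.CPMoves Groth.Agent.Lib.Helper5.ChartIndep
  Groth.Agent.Lib.Helper5.FinPush Groth.Agent.Lib.Helper5.ExactHom
  Groth.Agent.Lib.Helper5.PCTermsSch Groth.Agent.Lib.Helper5.PCBiprod
  Groth.Agent.Helper5.PCHom Groth.Agent.Lib.Helper5.QC Groth.Agent.Lib.Helper5.TildePC

/-- converse of `pushO_specMap'` -/
theorem pchom_of_pushO_specMap' {R R' : CommRingCat.{u}} (φ : R ⟶ R')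
    (h : PushO (specMap' φ)) : PCHom φ.hom := by
  intro m
  haveI : PreservesFiniteLimits (tilde.functor R) :=
    Groth.Agent.Lib.Helper5.QC.preservesFiniteLimits_tilde (R := R)
  let M : ModuleCat.{u} R := (ModuleCat.restrictScalars.{u} φ.hom).obj (ModuleCat.of R' R')
  refine (isPseudoCoherentD_tildeD_iff R _ m).1 ?_
  refine isPC_of_iso ?_ (h m)
  exact (((tilde.functor R).mapDerivedCategorySingleFunctor 0).app M ≪≫
    (DerivedCategory.singleFunctor _ 0).mapIso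
      (((tildePushIso φ).app (ModuleCat.of R' R')).symm ≪≫
        (Scheme.Modules.pushforward (specMap' φ)).mapIso (tildeSelf (R := R')))).symm

theorem pchom_of_pushO_spec {R R' : Type u} [CommRing R] [CommRing R'] (ρ : R →+* R')
    (h : PushO (specHom ρ)) : PCHom ρ :=
  pchom_of_pushO_specMap' (R := CommRingCat.of R) (R' := CommRingCat.of R')
    (CommRingCat.ofHom ρ) h

/-- a module in degree `0`, in the derived category -/
noncomputable def toDSingleIso {T : Scheme.{u}} (M : T.Modules) :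
    DCoh.toD T ((HomologicalComplex.single T.Modules (ComplexShape.up ℤ) 0).obj M) ≅
      DCoh.inD T M :=
  ((DerivedCategory.singleFunctorIsoCompQ T.Modules 0).app M).symm

variable {Y Z : Scheme.{u}}

/-- termwise restriction then direct image of the structure sheaf in degree `0` -/
noncomputable def pushRestrictUnitIso {T T' : Scheme.{u}} (j : T ⟶ Y) [IsOpenImmersion j]
    (s : T ⟶ T') [IsClosedImmersion s] :
    DCoh.toD T' ((DerSch.pushCx s).obj ((RC j).obj (DerSch.unitCx Y))) ≅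
      DCoh.inD T' ((Scheme.Modules.pushforward s).obj (Coh.structureModule T)) := by
  have e1 : (RC j).obj (DerSch.unitCx Y) ≅
      (HomologicalComplex.single T.Modules (ComplexShape.up ℤ) 0).obj
        ((Scheme.Modules.restrictFunctor j).obj (Coh.structureModule Y)) :=
    (HomologicalComplex.singleMapHomologicalComplex (Scheme.Modules.restrictFunctor j)
      (ComplexShape.up ℤ) 0).app (Coh.structureModule Y)
  have e2 : (DerSch.pushCx s).obj ((HomologicalComplex.single T.Modules (ComplexShape.up ℤ) 0).obj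
        ((Scheme.Modules.restrictFunctor j).obj (Coh.structureModule Y))) ≅
      (HomologicalComplex.single T'.Modules (ComplexShape.up ℤ) 0).obj
        ((Scheme.Modules.pushforward s).obj
          ((Scheme.Modules.restrictFunctor j).obj (Coh.structureModule Y))) :=
    (HomologicalComplex.singleMapHomologicalComplex (Scheme.Modules.pushforward s)
      (ComplexShape.up ℤ) 0).app ((Scheme.Modules.restrictFunctor j).obj (Coh.structureModule Y))
  have e3 : DCoh.toD T' ((HomologicalComplex.single T'.Modules (ComplexShape.up ℤ) 0).obj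
        ((Scheme.Modules.pushforward s).obj
          ((Scheme.Modules.restrictFunctor j).obj (Coh.structureModule Y)))) ≅
      DCoh.inD T' ((Scheme.Modules.pushforward s).obj
          ((Scheme.Modules.restrictFunctor j).obj (Coh.structureModule Y))) :=
    toDSingleIso _
  exact Q.mapIso ((DerSch.pushCx s).mapIso e1 ≪≫ e2) ≪≫ e3 ≪≫
    (singleFunctor _ 0).mapIso ((Scheme.Modules.pushforward s).mapIso (restrictUnitIso j))

set_option maxHeartbeats 400000 in
/-- the charts of a pseudo-coherent morphism are pseudo-coherent ring maps -/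
theorem pchom_of_isNPC (g : Y ⟶ Z) [LocallyOfFiniteType g]
    (hg : ∀ n : ℤ, DerSch.IsNPseudoCoherent g n) (V : Y.affineOpens) (W : Z.affineOpens)
    (hVW : (V : Y.Opens) ≤ g ⁻¹ᵁ (W : Z.Opens)) {k : ℕ}
    (ψ : MvPolynomial (Fin k) Γ(Z, (W : Z.Opens)) →+* Γ(Y, (V : Y.Opens)))
    (hψ : DerSch.IsChart g V W hVW ψ) : PCHom ψ := by
  apply pchom_of_pushO_spec
  intro m
  have h0 : DerSch.IsPseudoCoherentRel g m (DCoh.toD Y (DerSch.unitCx Y)) := hg m
  have h0' := cpAt_of_isPseudoCoherentRel g (DCoh.toD Y (DerSch.unitCx Y)) m h0 V W hVW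
  have h1 := chartPC_of_cpAt h0' ψ hψ
  have h2 := (chartPC_iff_cp V.2 ψ hψ.1 (DerSch.unitCx Y) m).1 h1
  have h3 : CP m ((RC V.2.fromSpec).obj (DerSch.unitCx Y)) (specHom ψ) :=
    (cp_cImm_iff (DerSch.unitCx Y) V.2 ψ m).1 h2
  haveI : IsClosedImmersion (specHom ψ) := IsClosedImmersion.spec_of_surjective _ hψ.1
  exact isPC_of_iso (pushRestrictUnitIso V.2.fromSpec (specHom ψ)) h3

section Pointwise

variable {X S : Scheme.{u}} (f : X ⟶ S) (E : DCoh.D X) (m : ℤ)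

/-- the local step, from a pointwise hypothesis -/
theorem exists_basicOpen_cpAt' [LocallyOfFiniteType f]
    (H : ∀ x : X, ∃ (U' : X.affineOpens) (V' : S.affineOpens)
      (hle' : (U' : X.Opens) ≤ f ⁻¹ᵁ (V' : S.Opens)),
        x ∈ (U' : X.Opens) ∧ CPAt f E m (U' : X.Opens) (V' : S.Opens) hle')
    (U : X.affineOpens) (V : S.affineOpens)
    (h : (U : X.Opens) ≤ f ⁻¹ᵁ (V : S.Opens)) (x : X) (hxU : x ∈ (U : X.Opens)) :
    ∃ g : Γ(X, (U : X.Opens)), x ∈ X.basicOpen g ∧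
      CPAt f E m (X.basicOpen g) (V : S.Opens) ((X.basicOpen_le g).trans h) := by
  obtain ⟨U', V', hle', hxU', a0⟩ := H x
  have hxV' : f x ∈ (V' : S.Opens) := hle' hxU'
  obtain ⟨r, r', hrr', hxr⟩ := exists_basicOpen_le_affine_inter V.2 V'.2 (f x) ⟨h hxU, hxV'⟩
  obtain ⟨g₀, g₀', hgg', hxg⟩ := exists_basicOpen_le_affine_inter U.2 U'.2 x ⟨hxU, hxU'⟩
  let g : Γ(X, (U : X.Opens)) := g₀ * (f.appLE (V : S.Opens) (U : X.Opens) h).hom r
  let g' : Γ(X, (U' : X.Opens)) := g₀' * (f.appLE (V' : S.Opens) (U' : X.Opens) hle').hom r'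
  have hg : X.basicOpen g = X.basicOpen g₀ ⊓ f ⁻¹ᵁ (S.basicOpen r) := by
    show X.basicOpen (g₀ * _) = _
    rw [Scheme.basicOpen_mul]
    erw [Scheme.basicOpen_appLE]
    rw [← inf_assoc, inf_eq_left.2 (X.basicOpen_le g₀)]
  have hg' : X.basicOpen g' = X.basicOpen g₀' ⊓ f ⁻¹ᵁ (S.basicOpen r') := by
    show X.basicOpen (g₀' * _) = _
    rw [Scheme.basicOpen_mul]
    erw [Scheme.basicOpen_appLE]
    rw [← inf_assoc, inf_eq_left.2 (X.basicOpen_le g₀')]
  have hWW : X.basicOpen g' = X.basicOpen g := by rw [hg, hg', hgg', hrr']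
  have hxW : x ∈ X.basicOpen g := by
    rw [hg]
    exact ⟨hxg, hxr⟩
  have h₂ : X.basicOpen g ≤ f ⁻¹ᵁ (S.basicOpen r) := by rw [hg]; exact inf_le_right
  have h₂' : X.basicOpen g' ≤ f ⁻¹ᵁ (S.basicOpen r') := by rw [hg']; exact inf_le_right
  refine ⟨g, hxW, ?_⟩
  have a1 := cpAt_basicOpen U'.2 (V' : S.Opens) hle' g' a0
  have hft₂' : (f.appLE (S.basicOpen r') (X.basicOpen g') h₂').hom.FiniteType :=
    HasRingHomProperty.appLE @LocallyOfFiniteType f inferInstance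
      ⟨S.basicOpen r', V'.2.basicOpen r'⟩ ⟨X.basicOpen g', U'.2.basicOpen g'⟩ h₂'
  have a2 := (cpAt_base_iff V'.2 r' h₂' hft₂').2 a1
  have a4 := (cpAt_congr hWW hrr'.symm h₂' h₂).1 a2
  have hft₂ : (f.appLE (S.basicOpen r) (X.basicOpen g) h₂).hom.FiniteType :=
    HasRingHomProperty.appLE @LocallyOfFiniteType f inferInstance
      ⟨S.basicOpen r, V.2.basicOpen r⟩ ⟨X.basicOpen g, U.2.basicOpen g⟩ h₂
  exact (cpAt_base_iff V.2 r h₂ hft₂).1 a4

/-- **a pointwise criterion** for relative pseudo-coherence -/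
theorem isPseudoCoherentRel_of_pointwise [LocallyOfFiniteType f]
    (H : ∀ x : X, ∃ (U' : X.affineOpens) (V' : S.affineOpens)
      (hle' : (U' : X.Opens) ≤ f ⁻¹ᵁ (V' : S.Opens)),
        x ∈ (U' : X.Opens) ∧ CPAt f E m (U' : X.Opens) (V' : S.Opens) hle') :
    DerSch.IsPseudoCoherentRel f m E := by
  apply isPseudoCoherentRel_of_cpAt
  intro U V h
  exact cpAt_of_local f E m U V h (fun x hx => exists_basicOpen_cpAt' f E m H U V h x hx)

end Pointwise

section Comp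

/-- iterated polynomial rings -/
noncomputable def sumEquiv (R : Type u) [CommRing R] (n k : ℕ) :
    MvPolynomial (Fin (n + k)) R ≃+* MvPolynomial (Fin n) (MvPolynomial (Fin k) R) :=
  ((MvPolynomial.renameEquiv R finSumFinEquiv.symm).trans
    (MvPolynomial.sumAlgEquiv R (Fin n) (Fin k))).toRingEquiv

theorem sumEquiv_C (R : Type u) [CommRing R] (n k : ℕ) (r : R) :
    sumEquiv R n k (MvPolynomial.C r) = MvPolynomial.C (MvPolynomial.C r) := by
  simp [sumEquiv]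

variable {X : Scheme.{u}}

theorem chartPC_congr_iso {S : Scheme.{u}} {K K' : DCoh.D X} (e : K ≅ K') (m : ℤ)
    {U : X.Opens} {V : S.Opens} {n : ℕ} (φ : MvPolynomial (Fin n) Γ(S, V) →+* Γ(X, U)) :
    DerSch.ChartPC m K U V φ ↔ DerSch.ChartPC m K' U V φ :=
  ⟨fun h G ⟨e'⟩ => h G ⟨e' ≪≫ e.symm⟩, fun h G ⟨e'⟩ => h G ⟨e' ≪≫ e⟩⟩

theorem cpAt_congr_iso {S : Scheme.{u}} (f : X ⟶ S) {K K' : DCoh.D X} (e : K ≅ K') (m : ℤ)
    (U : X.Opens) (V : S.Opens) (h : U ≤ f ⁻¹ᵁ V) :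
    CPAt f K m U V h ↔ CPAt f K' m U V h :=
  ⟨fun ⟨n, φ, hφ, hpc⟩ => ⟨n, φ, hφ, (chartPC_congr_iso e m φ).1 hpc⟩,
    fun ⟨n, φ, hφ, hpc⟩ => ⟨n, φ, hφ, (chartPC_congr_iso e m φ).2 hpc⟩⟩

variable (f : X ⟶ Y) (g : Y ⟶ Z) [LocallyOfFiniteType f] [LocallyOfFiniteType g]

/-- **the chart test for `f` and for `f ≫ g`** over a pseudo-coherent `g` -/
theorem cpAt_comp_iff (hg : ∀ n : ℤ, DerSch.IsNPseudoCoherent g n) (E : DCoh.D X) (m : ℤ)
    (U : X.affineOpens) (V : Y.affineOpens) (W : Z.affineOpens)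
    (h1 : (U : X.Opens) ≤ f ⁻¹ᵁ (V : Y.Opens)) (h2 : (V : Y.Opens) ≤ g ⁻¹ᵁ (W : Z.Opens))
    (h3 : (U : X.Opens) ≤ (f ≫ g) ⁻¹ᵁ (W : Z.Opens)) :
    CPAt f E m (U : X.Opens) (V : Y.Opens) h1 ↔ CPAt (f ≫ g) E m (U : X.Opens) (W : Z.Opens) h3 := by
  obtain ⟨n, φ, hφ⟩ := exists_isChart f U V h1
  obtain ⟨k, ψ, hψ⟩ := exists_isChart g V W h2
  have hψpc : PCHom ψ := pchom_of_isNPC g hg V W h2 ψ hψ
  let G := DerivedCategory.Q.objPreimage E
  have eG : DCoh.toD X G ≅ E := DerivedCategory.Q.objObjPreimageIso E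
  rw [← cpAt_congr_iso f eG, ← cpAt_congr_iso (f ≫ g) eG]
  let ρ : MvPolynomial (Fin n) (MvPolynomial (Fin k) Γ(Z, (W : Z.Opens))) →+*
      MvPolynomial (Fin n) Γ(Y, (V : Y.Opens)) := MvPolynomial.map ψ
  have hρ : Function.Surjective ρ := MvPolynomial.map_surjective ψ hψ.1
  let σ := sumEquiv Γ(Z, (W : Z.Opens)) n k
  let χ : MvPolynomial (Fin (n + k)) Γ(Z, (W : Z.Opens)) →+* Γ(X, (U : X.Opens)) :=
    (φ.comp ρ).comp σ.toRingHom
  have hχ : DerSch.IsChart (f ≫ g) U W h3 χ := by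
    refine ⟨(hφ.1.comp hρ).comp σ.surjective, ?_⟩
    ext r
    show φ (ρ (σ (MvPolynomial.C r))) = _
    rw [sumEquiv_C]
    show φ (MvPolynomial.map ψ (MvPolynomial.C (MvPolynomial.C r))) = _
    rw [MvPolynomial.map_C]
    have e1 : ψ (MvPolynomial.C r) = (g.appLE (W : Z.Opens) (V : Y.Opens) h2).hom r :=
      congrArg (fun t => t r) hψ.2
    have e2 : ∀ s, φ (MvPolynomial.C s) = (f.appLE (V : Y.Opens) (U : X.Opens) h1).hom s :=
      fun s => congrArg (fun t => t s) hφ.2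
    rw [e1, e2]
    exact congrArg (fun t => t.hom r)
      (Scheme.Hom.appLE_comp_appLE f g (W : Z.Opens) (V : Y.Opens) (U : X.Opens) h2 h1)
  have main : DerSch.ChartPC m (DCoh.toD X G) (U : X.Opens) (V : Y.Opens) φ ↔
      DerSch.ChartPC m (DCoh.toD X G) (U : X.Opens) (W : Z.Opens) χ := by
    rw [chartPC_iff_cp U.2 φ hφ.1 G m, chartPC_iff_cp U.2 χ hχ.1 G m]
    have a1 := isPC_cImm_iff (U : X.Opens) φ ρ hρ (pchom_map ψ hψpc n) (φ.comp ρ) rfl
      ((DCoh.restrictCx (U : X.Opens)).obj G) m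
    have a2 := isPC_cImm_iff (U : X.Opens) (φ.comp ρ) σ.toRingHom σ.surjective (pchom_equiv σ) χ rfl
      ((DCoh.restrictCx (U : X.Opens)).obj G) m
    exact a1.trans a2
  constructor
  · intro H
    exact ⟨n + k, χ, hχ, main.1 (chartPC_of_cpAt H φ hφ)⟩
  · intro H
    exact ⟨n, φ, hφ, main.2 (chartPC_of_cpAt H χ hχ)⟩

/-- nested affine neighbourhoods of a point along `X ⟶ Y ⟶ Z` -/
theorem exists_affine_chain (x : X) :
    ∃ (U : X.affineOpens) (V : Y.affineOpens) (W : Z.affineOpens),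
      x ∈ (U : X.Opens) ∧ (U : X.Opens) ≤ f ⁻¹ᵁ (V : Y.Opens) ∧
      (V : Y.Opens) ≤ g ⁻¹ᵁ (W : Z.Opens) := by
  obtain ⟨_, ⟨W, hW : IsAffineOpen W, rfl⟩, hW1, -⟩ :=
    Z.isBasis_affineOpens.exists_subset_of_mem_open (Set.mem_univ (g (f x))) isOpen_univ
  obtain ⟨_, ⟨V, hV : IsAffineOpen V, rfl⟩, hV1, hV2⟩ :=
    Y.isBasis_affineOpens.exists_subset_of_mem_open (show f x ∈ (g ⁻¹ᵁ W : Y.Opens) from hW1)
      (g ⁻¹ᵁ W).2
  obtain ⟨_, ⟨U, hU : IsAffineOpen U, rfl⟩, hU1, hU2⟩ :=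
    X.isBasis_affineOpens.exists_subset_of_mem_open (show x ∈ (f ⁻¹ᵁ V : X.Opens) from hV1)
      (f ⁻¹ᵁ V).2
  exact ⟨⟨U, hU⟩, ⟨V, hV⟩, ⟨W, hW⟩, hU1, hU2, hV2⟩

/-- **transitivity over a pseudo-coherent morphism** -/
theorem isPseudoCoherentRel_comp_iff (hg : ∀ n : ℤ, DerSch.IsNPseudoCoherent g n) (m : ℤ)
    (E : DCoh.D X) :
    DerSch.IsPseudoCoherentRel f m E ↔ DerSch.IsPseudoCoherentRel (f ≫ g) m E := by
  constructor
  · intro hE
    apply isPseudoCoherentRel_of_pointwise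
    intro x
    obtain ⟨U, V, W, hx, h1, h2⟩ := exists_affine_chain f g x
    have h3 : (U : X.Opens) ≤ (f ≫ g) ⁻¹ᵁ (W : Z.Opens) := fun y hy => h2 (h1 hy)
    exact ⟨U, W, h3, hx, (cpAt_comp_iff f g hg E m U V W h1 h2 h3).1
      (cpAt_of_isPseudoCoherentRel f E m hE U V h1)⟩
  · intro hE
    apply isPseudoCoherentRel_of_pointwise
    intro x
    obtain ⟨U, V, W, hx, h1, h2⟩ := exists_affine_chain f g x
    have h3 : (U : X.Opens) ≤ (f ≫ g) ⁻¹ᵁ (W : Z.Opens) := fun y hy => h2 (h1 hy)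
    exact ⟨U, V, h1, hx, (cpAt_comp_iff f g hg E m U V W h1 h2 h3).2
      (cpAt_of_isPseudoCoherentRel (f ≫ g) E m hE U W h3)⟩

end Comp

end Groth.Agent.Lib.Helper5.CPAtLib
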