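import Mathlib
import Groth.Agent.Lib.Helper5.RelPC.Trans
import Groth.Agent.Lib.Helper5.RelPC.AffComm2
import Groth.Agent.Lib.Helper5.QC.FpqcPC
import Groth.Agent.Lib.Helper5.DRing.RelPCBC
import Groth.Agent.Lib.Helper3.PCLoc6
import Groth.Agent.Lib.Helper3.RelFPS6
import Groth.Agent.Lib.Helper5.Perf.Pull
import Groth.Agent.Lib.Helper5.RpushCl.RpushClassic
import Groth.Agent.Lib.Helper1.IdealModL

/-!
# Flat base change and fpqc descent of relative pseudo-coherence on schemes (helper5)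
-/
set_option autoImplicit false
set_option linter.style.haveILetI false
universe u
open CategoryTheory CategoryTheory.Limits AlgebraicGeometry Opposite TopologicalSpace

attribute [local instance] HasDerivedCategory.standard

namespace Groth.Agent.Lib.Helper5.BCGeo

open Groth.Agent.Lib.Helper5.AffComm Groth.Agent.Lib.Helper5.CPAtLib
  Groth.Agent.Lib.Helper5.LpullLib Groth.Agent.Lib.Helper5.QC Groth.Agent.Lib.Helper5.FpqcPC
  Groth.Agent.Lib.Helper5.StalkAdj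

section basic
variable {X S : Scheme.{u}} (f : X ⟶ S) (E : DCoh.D X) (m : ℤ)

/-- the chart test and the algebraic test agree on affine pairs (quasi-coherent cohomology) -/
theorem cpAt_iff_relPCAt [LocallyOfFiniteType f] (hE : DCoh.IsQCohD E) (U : X.affineOpens)
    (V : S.affineOpens) (h : (U : X.Opens) ≤ f ⁻¹ᵁ (V : S.Opens)) :
    CPAt f E m (U : X.Opens) (V : S.Opens) h ↔ RelPCAt f E m U.2 (V : S.Opens) h := by
  constructor
  · rintro ⟨n, φ, hφ, hpc⟩
    exact relPCAt_of_chartPC U.2 (V : S.Opens) h φ hφ hpc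
  · intro H
    obtain ⟨n, φ, hφ⟩ := exists_isChart f U V h
    letI : Algebra Γ(S, (V : S.Opens)) Γ(X, (U : X.Opens)) := (f.appLE V U h).hom.toAlgebra
    let α : MvPolynomial (Fin n) Γ(S, (V : S.Opens)) →ₐ[Γ(S, (V : S.Opens))] Γ(X, (U : X.Opens)) :=
      { toRingHom := φ
        commutes' := fun r => RingHom.congr_fun hφ.2 r }
    exact ⟨n, φ, hφ, chartPC_of_relPCAt hE U.2 (V : S.Opens) h H α hφ.1⟩

end basic

section tilde
variable {X X' : Scheme.{u}} (g' : X' ⟶ X) [DCoh.HasLpull g'] (E : DCoh.D X)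

/-- the restriction of `Lg'^* E` to an affine open, as a tilde of a derived base change -/
theorem nonempty_tilde_lpull {U : X.Opens} (hU : IsAffineOpen U) {U' : X'.Opens}
    (hU' : IsAffineOpen U') (e : U' ≤ g' ⁻¹ᵁ U) (M : Dual.D Γ(X, U))
    (eM : (DCoh.tildeD Γ(X, U)).obj M ≅ resSpec E hU) :
    Nonempty ((DCoh.tildeD Γ(X', U')).obj ((DRing.LBaseChange (g'.appLE U U' e).hom).obj M) ≅
      resSpec ((DCoh.Lpull g').obj E) hU') := by
  haveI : DCoh.HasLpull hU.fromSpec := hasLpull _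
  haveI : DCoh.HasLpull hU'.fromSpec := hasLpull _
  haveI : DCoh.HasLpull (Spec.map (g'.appLE U U' e)) := hasLpull _
  haveI : DCoh.HasLpull (hU'.fromSpec ≫ g') := hasLpull _
  haveI : DCoh.HasLpull (Spec.map (g'.appLE U U' e) ≫ hU.fromSpec) := hasLpull _
  have hsq : Spec.map (g'.appLE U U' e) ≫ hU.fromSpec = hU'.fromSpec ≫ g' :=
    IsAffineOpen.SpecMap_appLE_fromSpec g' hU hU' e
  obtain ⟨c1⟩ := lpull_comp (Spec.map (g'.appLE U U' e)) hU.fromSpec
  obtain ⟨c2⟩ := lpull_comp hU'.fromSpec g'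
  obtain ⟨eL⟩ := Groth.Agent.Lib.Helper5.TildeCell.lbc_tilde_iso (g'.appLE U U' e)
  obtain ⟨r1⟩ := nonempty_lpull_iso_restrictD hU.fromSpec E
  obtain ⟨r2⟩ := nonempty_lpull_iso_restrictD hU'.fromSpec ((DCoh.Lpull g').obj E)
  exact ⟨eL.app M ≪≫ (DCoh.Lpull (Spec.map (g'.appLE U U' e))).mapIso (eM ≪≫ r1.symm) ≪≫
    c1.app E ≪≫ (lpullCongr hsq).app E ≪≫ (c2.app E).symm ≪≫ r2⟩

end tilde

section square
variable {X S X' S' : Scheme.{u}} {f : X ⟶ S} {f' : X' ⟶ S'} {g' : X' ⟶ X} {g : S' ⟶ S}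
  [DCoh.HasLpull g'] (E : DCoh.D X) (m : ℤ)

/-- flat base change of the algebraic test, on a pushout chart -/
theorem relPCAt_baseChange {V : S.Opens} {U : X.Opens} {V' : S'.Opens} {U' : X'.Opens}
    (hU : IsAffineOpen U) (hU' : IsAffineOpen U') (eUV : U ≤ f ⁻¹ᵁ V) (eV'V : V' ≤ g ⁻¹ᵁ V)
    (eU'V' : U' ≤ f' ⁻¹ᵁ V') (eU'U : U' ≤ g' ⁻¹ᵁ U)
    (hpo : IsPushout (f.appLE V U eUV) (g.appLE V V' eV'V) (g'.appLE U U' eU'U)
      (f'.appLE V' U' eU'V'))
    (hfl : (g.appLE V V' eV'V).hom.Flat) (hE : DCoh.IsQCohD E)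
    (H : RelPCAt f E m hU V eUV) : RelPCAt f' ((DCoh.Lpull g').obj E) m hU' V' eU'V' := by
  intro M' ⟨eM'⟩
  obtain ⟨M, ⟨eM⟩⟩ := exists_tilde E hE hU
  obtain ⟨e1⟩ := nonempty_tilde_lpull g' E hU hU' eU'U M eM
  obtain ⟨i⟩ := nonempty_iso_of_tildeD _ (e1 ≪≫ eM'.symm)
  letI := (f'.appLE V' U' eU'V').hom.toAlgebra
  exact relpc_of_iso i (Groth.Agent.Helper5.RelPCBC.relpc_baseChange_cat _ _ _ _ hpo hfl m M
    (H M ⟨eM⟩))

/-- faithfully flat descent of the algebraic test, on a pushout chart -/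
theorem relPCAt_descent {V : S.Opens} {U : X.Opens} {V' : S'.Opens} {U' : X'.Opens}
    (hU : IsAffineOpen U) (hU' : IsAffineOpen U') (eUV : U ≤ f ⁻¹ᵁ V) (eV'V : V' ≤ g ⁻¹ᵁ V)
    (eU'V' : U' ≤ f' ⁻¹ᵁ V') (eU'U : U' ≤ g' ⁻¹ᵁ U)
    (hpo : IsPushout (f.appLE V U eUV) (g.appLE V V' eV'V) (g'.appLE U U' eU'U)
      (f'.appLE V' U' eU'V'))
    (hff : (g.appLE V V' eV'V).hom.FaithfullyFlat) (hft : (f.appLE V U eUV).hom.FiniteType)
    (H : RelPCAt f' ((DCoh.Lpull g').obj E) m hU' V' eU'V') : RelPCAt f E m hU V eUV := by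
  intro M ⟨eM⟩
  obtain ⟨e1⟩ := nonempty_tilde_lpull g' E hU hU' eU'U M eM
  exact Groth.Agent.Helper5.RelPCBC.relpc_descent_cat _ _ _ _ hpo hff hft m M (H _ ⟨e1⟩)

end square

section global
variable {X S X' S' : Scheme.{u}} (f : X ⟶ S) (f' : X' ⟶ S') (g' : X' ⟶ X) (g : S' ⟶ S)

/-- **flat base change of relative pseudo-coherence** -/
theorem isPseudoCoherentRel_baseChange [LocallyOfFiniteType f] [Flat g]
    (hc : IsPullback g' f' f g) [DCoh.HasLpull g'] (m : ℤ) (E : DCoh.D X)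
    (hE : DCoh.IsQCohD E) (h : DerSch.IsPseudoCoherentRel f m E) :
    DerSch.IsPseudoCoherentRel f' m ((DCoh.Lpull g').obj E) := by
  haveI : LocallyOfFiniteType f' := MorphismProperty.of_isPullback hc inferInstance
  have hE' : DCoh.IsQCohD ((DCoh.Lpull g').obj E) := isQCohD_Lpull g' E hE
  apply isPseudoCoherentRel_of_pointwise
  intro x'
  obtain ⟨V, U, V', U', hV, hU, hV', hU', eUV, eV'V, eU'V', eU'U, hx', hpo⟩ :=
    Groth.Agent.Helper3.PCLoc.exists_affine_pushout_chart hc x'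
  refine ⟨⟨U', hU'⟩, ⟨V', hV'⟩, eU'V', hx', ?_⟩
  rw [cpAt_iff_relPCAt f' _ m hE' ⟨U', hU'⟩ ⟨V', hV'⟩ eU'V']
  have H := relPCAt_of_isPseudoCoherentRel f E m hE h ⟨U, hU⟩ ⟨V, hV⟩ eUV
  exact relPCAt_baseChange E m hU hU' eUV eV'V eU'V' eU'U hpo (Flat.flat_appLE g hV hV' eV'V) hE H

/-- relative pseudo-coherence is invariant under isomorphism -/
theorem isPseudoCoherentRel_of_iso {K K' : DCoh.D X} (e : K ≅ K') (m : ℤ)
    (h : DerSch.IsPseudoCoherentRel f m K) : DerSch.IsPseudoCoherentRel f m K' := by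
  obtain ⟨h1, 𝒱, h2, h3⟩ := h
  refine ⟨h1, 𝒱, h2, fun V hV => ?_⟩
  obtain ⟨𝒰, h4, h5⟩ := h3 V hV
  refine ⟨𝒰, h4, fun U hU h => ?_⟩
  obtain ⟨n, φ, hφ, hpc⟩ := h5 U hU h
  exact ⟨n, φ, hφ, (chartPC_congr_iso e m φ).1 hpc⟩

/-- a faithfully flat chart map: `Spec B ⟶ S` factoring through a faithfully flat `Spec B ⟶ Spec Γ(S, V)` -/
theorem faithfullyFlat_appLE_top {B : CommRingCat.{u}} (g2 : Spec B ⟶ S) {V : S.Opens}
    (hV : IsAffineOpen V) (ψ : Γ(S, V) ⟶ B) (hψ : ψ.hom.FaithfullyFlat)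
    (hsq : Spec.map ψ ≫ hV.fromSpec = g2) (e : (⊤ : (Spec B).Opens) ≤ g2 ⁻¹ᵁ V) :
    (g2.appLE V ⊤ e).hom.FaithfullyFlat := by
  have h1 : Spec.map (g2.appLE V ⊤ e) ≫ hV.fromSpec = (isAffineOpen_top (Spec B)).fromSpec ≫ g2 :=
    IsAffineOpen.SpecMap_appLE_fromSpec g2 hV (isAffineOpen_top _) e
  have h2 : Spec.map (g2.appLE V ⊤ e) = (isAffineOpen_top (Spec B)).fromSpec ≫ Spec.map ψ := by
    rw [← cancel_mono hV.fromSpec, h1, Category.assoc, hsq]
  rw [← flat_and_surjective_SpecMap_iff] at hψ ⊢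
  obtain ⟨hfl, hsurj⟩ := hψ
  rw [h2]
  haveI : Surjective (isAffineOpen_top (Spec B)).fromSpec := ⟨fun x => by
    have : x ∈ Set.range (isAffineOpen_top (Spec B)).fromSpec := by
      rw [(isAffineOpen_top (Spec B)).range_fromSpec]
      trivial
    exact this⟩
  exact ⟨inferInstance, inferInstance⟩

/-- **fpqc descent of relative pseudo-coherence** -/
theorem isPseudoCoherentRel_descent [LocallyOfFiniteType f] [Flat g] [Surjective g] [QuasiCompact g]
    (hc : IsPullback g' f' f g) [DCoh.HasLpull g'] (m : ℤ) (E : DCoh.D X)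
    (hE : DCoh.IsQCohD E) (h : DerSch.IsPseudoCoherentRel f' m ((DCoh.Lpull g').obj E)) :
    DerSch.IsPseudoCoherentRel f m E := by
  haveI : LocallyOfFiniteType f' := MorphismProperty.of_isPullback hc inferInstance
  have hE' : DCoh.IsQCohD ((DCoh.Lpull g').obj E) := isQCohD_Lpull g' E hE
  rw [isPseudoCoherentRel_iff_relPCAt f E m hE]
  intro U V eUV
  obtain ⟨B, a, ψ, ha, hψ, hsq⟩ := FFChart.exists_ff_chart g V V.2
  -- second base change, to `Spec B`
  let a' := pullback.fst f' a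
  let f'' := pullback.snd f' a
  have hc2 : IsPullback a' f'' f' a := IsPullback.of_hasPullback f' a
  haveI : DCoh.HasLpull a' := hasLpull a'
  haveI : DCoh.HasLpull (a' ≫ g') := hasLpull _
  have hc3 : IsPullback (a' ≫ g') f'' f (a ≫ g) := hc2.paste_horiz hc
  have h2 : DerSch.IsPseudoCoherentRel f'' m ((DCoh.Lpull a').obj ((DCoh.Lpull g').obj E)) :=
    isPseudoCoherentRel_baseChange f' f'' a' a hc2 m _ hE' h
  obtain ⟨c⟩ := lpull_comp a' g'
  have h3 : DerSch.IsPseudoCoherentRel f'' m ((DCoh.Lpull (a' ≫ g')).obj E) :=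
    isPseudoCoherentRel_of_iso f'' (c.app E) m h2
  have hE'' : DCoh.IsQCohD ((DCoh.Lpull (a' ≫ g')).obj E) := isQCohD_Lpull _ E hE
  haveI : LocallyOfFiniteType f'' := MorphismProperty.of_isPullback hc2 inferInstance
  have eV : (⊤ : (Spec B).Opens) ≤ (a ≫ g) ⁻¹ᵁ (V : S.Opens) := by
    intro y _
    show (a ≫ g) y ∈ (V : S.Opens)
    rw [← hsq]
    have : V.2.fromSpec ((Spec.map ψ) y) ∈ Set.range V.2.fromSpec := ⟨_, rfl⟩
    rw [V.2.range_fromSpec] at this
    exact this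
  obtain ⟨hU'', hpo⟩ := Groth.Agent.Helper3.RelFPS.affine_pushout_chart hc3 V.2 U.2
    (isAffineOpen_top (Spec B)) eUV eV
  have H := relPCAt_of_isPseudoCoherentRel f'' _ m hE'' h3 ⟨_, hU''⟩ ⟨⊤, isAffineOpen_top _⟩
    inf_le_right
  have hft : (f.appLE (V : S.Opens) (U : X.Opens) eUV).hom.FiniteType :=
    HasRingHomProperty.appLE @LocallyOfFiniteType f inferInstance V U eUV
  exact relPCAt_descent E m U.2 hU'' eUV eV inf_le_right inf_le_left hpo
    (faithfullyFlat_appLE_top (a ≫ g) V.2 ψ hψ hsq eV) hft H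

end global

section unit

/-- `Lg^* O ≅ O` for flat `g` -/
theorem nonempty_lpull_unit_iso {X X' : Scheme.{u}} (g' : X' ⟶ X) [Flat g'] [DCoh.HasLpull g'] :
    Nonempty ((DCoh.Lpull g').obj (DCoh.toD X (DerSch.unitCx X)) ≅
      DCoh.toD X' (DerSch.unitCx X')) := by
  obtain ⟨e⟩ := nonempty_lpullObjIso_of_flat g' (DerSch.unitCx X)
  exact ⟨e ≪≫ DerivedCategory.Q.mapIso
    ((HomologicalComplex.singleMapHomologicalComplex (Scheme.Modules.pullback g')
        (ComplexShape.up ℤ) 0).app _ ≪≫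
      (HomologicalComplex.single _ _ 0).mapIso (Groth.Agent.Lib.Helper5.PerfPull.unitIso g'))⟩

/-- the structure sheaf has quasi-coherent cohomology -/
theorem isQCohD_unit (X : Scheme.{u}) : DCoh.IsQCohD (DCoh.toD X (DerSch.unitCx X)) :=
  isQCohD_of_iso (toDSingleIso _).symm
    (Groth.Agent.Lib.Helper5.RpushClassic.isQCohD_inD (Coh.structureModule X))

variable {X S X' S' : Scheme.{u}} (f : X ⟶ S) (f' : X' ⟶ S') (g' : X' ⟶ X) (g : S' ⟶ S)

/-- flat base change of `n`-pseudo-coherent morphisms -/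
theorem isNPC_baseChange [LocallyOfFiniteType f] [Flat g] (hc : IsPullback g' f' f g) (n : ℤ)
    (hf : DerSch.IsNPseudoCoherent f n) : DerSch.IsNPseudoCoherent f' n := by
  haveI : Flat g' := MorphismProperty.of_isPullback hc.flip inferInstance
  haveI : DCoh.HasLpull g' := hasLpull g'
  obtain ⟨e⟩ := nonempty_lpull_unit_iso g'
  exact isPseudoCoherentRel_of_iso f' e n
    (isPseudoCoherentRel_baseChange f f' g' g hc n _ (isQCohD_unit X) hf)

/-- fpqc descent of `n`-pseudo-coherent morphisms -/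
theorem isNPC_descent [LocallyOfFiniteType f] [Flat g] [Surjective g] [QuasiCompact g]
    (hc : IsPullback g' f' f g) (n : ℤ)
    (hf : DerSch.IsNPseudoCoherent f' n) : DerSch.IsNPseudoCoherent f n := by
  haveI : Flat g' := MorphismProperty.of_isPullback hc.flip inferInstance
  haveI : DCoh.HasLpull g' := hasLpull g'
  obtain ⟨e⟩ := nonempty_lpull_unit_iso g'
  exact isPseudoCoherentRel_descent f f' g' g hc n _ (isQCohD_unit X)
    (isPseudoCoherentRel_of_iso f' e.symm n hf)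

end unit

end Groth.Agent.Lib.Helper5.BCGeo
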