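import Mathlib
import Groth.Agent.Lib.Helper5.RelPC.Trans
import Groth.Agent.Lib.Helper5.Perf.ClPushM

/-!
# Relative pseudo-coherence: compositions, with bounds (helper5)
-/
set_option autoImplicit false
set_option linter.style.haveILetI false
universe u
open CategoryTheory CategoryTheory.Limits AlgebraicGeometry Opposite TopologicalSpace
  CategoryTheory.Pretriangulated DerivedCategory TensorProduct

attribute [local instance] HasDerivedCategory.standard

namespace Groth.Agent.Lib.Helper5.CPAtLib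

open Groth.Agent.Lib.Helper5.ClPush Groth.Agent.Lib.Helper5.PCTri
  Groth.Agent.Lib.Helper5.CPMoves Groth.Agent.Lib.Helper5.ChartIndep
  Groth.Agent.Lib.Helper5.FinPush Groth.Agent.Lib.Helper5.ExactHom
  Groth.Agent.Lib.Helper5.PCTermsSch Groth.Agent.Lib.Helper5.PCBiprod
  Groth.Agent.Helper5.PCHom Groth.Agent.Lib.Helper5.QC Groth.Agent.Lib.Helper5.TildePC
  Groth.Agent.Helper5.PCRes

section Alg

variable {B C : Type u} [CommRing B] [CommRing C]

/-- `C` is `m`-pseudo-coherent as a `B`-module via `f` -/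
def PCHomM (m : ℤ) (f : B →+* C) : Prop :=
  DRing.IsPseudoCoherent B m ((DerivedCategory.singleFunctor (ModuleCat.{u} B) 0).obj
    ((ModuleCat.restrictScalars.{u} f).obj (ModuleCat.of C C)))

theorem pchomM_iff_alg (m : ℤ) [Algebra B C] : PCHomM m (algebraMap B C) ↔
    DRing.IsPseudoCoherent B m ((DerivedCategory.singleFunctor (ModuleCat.{u} B) 0).obj
      (ModuleCat.of B C)) := by
  let e : (ModuleCat.restrictScalars.{u} (algebraMap B C)).obj (ModuleCat.of C C) ≅
      ModuleCat.of B C := (algEquiv (B := B) (C := C)).toModuleIso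
  exact ⟨Groth.Agent.S2087.pc_of_iso ((DerivedCategory.singleFunctor _ 0).mapIso e),
    Groth.Agent.S2087.pc_of_iso ((DerivedCategory.singleFunctor _ 0).mapIso e.symm)⟩

/-- base change to polynomial rings, one `m` at a time -/
theorem pchomM_map (m : ℤ) (ψ : B →+* C) (hψ : PCHomM m ψ) (n : ℕ) :
    PCHomM m (MvPolynomial.map (σ := Fin n) ψ) := by
  letI : Algebra B C := ψ.toAlgebra
  letI : Algebra (MvPolynomial (Fin n) B) (MvPolynomial (Fin n) C) :=
    (MvPolynomial.map (σ := Fin n) ψ).toAlgebra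
  have h0 := (pchomM_iff_alg (B := B) (C := C) m).1 hψ
  show PCHomM m (algebraMap (MvPolynomial (Fin n) B) (MvPolynomial (Fin n) C))
  rw [pchomM_iff_alg]
  have h1 := (Groth.Agent.Helper5.FlatBC.s7000 (R := B) (MvPolynomial (Fin n) B) m C).1 h0
  let e : (MvPolynomial (Fin n) B) ⊗[B] C ≃ₗ[MvPolynomial (Fin n) B] MvPolynomial (Fin n) C :=
    { (polyTensorRingEquiv (R := B) (A' := C) (Fin n)).toAddEquiv with
      map_smul' := fun b t => by
        show polyTensorRingEquiv (Fin n) (b • t) =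
          MvPolynomial.map (algebraMap B C) b * polyTensorRingEquiv (Fin n) t
        rw [show b • t = algebraMap (MvPolynomial (Fin n) B) _ b * t from Algebra.smul_def b t,
          map_mul, polyTensorRingEquiv_algebraMap] }
  exact Groth.Agent.S2087.pc_of_iso
    ((DerivedCategory.singleFunctor (ModuleCat.{u} (MvPolynomial (Fin n) B)) 0).mapIso
      e.toModuleIso) h1

/-- sheaf versus module, one `m` at a time -/
theorem pushOM_specMap'_iff {R R' : CommRingCat.{u}} (φ : R ⟶ R') (m : ℤ) :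
    PushOM (specMap' φ) m ↔ PCHomM m φ.hom := by
  haveI : PreservesFiniteLimits (tilde.functor R) :=
    Groth.Agent.Lib.Helper5.QC.preservesFiniteLimits_tilde (R := R)
  let M : ModuleCat.{u} R := (ModuleCat.restrictScalars.{u} φ.hom).obj (ModuleCat.of R' R')
  rw [PCHomM, ← isPseudoCoherentD_tildeD_iff R _ m]
  exact (isPC_iff_of_iso (((tilde.functor R).mapDerivedCategorySingleFunctor 0).app M ≪≫
    (DerivedCategory.singleFunctor _ 0).mapIso
      (((tildePushIso φ).app (ModuleCat.of R' R')).symm ≪≫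
        (Scheme.Modules.pushforward (specMap' φ)).mapIso (tildeSelf (R := R'))))).symm

theorem pushOM_spec_iff (ρ : B →+* C) (m : ℤ) : PushOM (specHom ρ) m ↔ PCHomM m ρ :=
  pushOM_specMap'_iff (R := CommRingCat.of B) (R' := CommRingCat.of C) (CommRingCat.ofHom ρ) m

end Alg

section Sch

variable {Y Z : Scheme.{u}}

/-- the charts of an `s`-pseudo-coherent morphism are `s`-pseudo-coherent ring maps -/
theorem pchomM_of_isNPC (g : Y ⟶ Z) [LocallyOfFiniteType g] (s : ℤ)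
    (hg : DerSch.IsNPseudoCoherent g s) (V : Y.affineOpens) (W : Z.affineOpens)
    (hVW : (V : Y.Opens) ≤ g ⁻¹ᵁ (W : Z.Opens)) {k : ℕ}
    (ψ : MvPolynomial (Fin k) Γ(Z, (W : Z.Opens)) →+* Γ(Y, (V : Y.Opens)))
    (hψ : DerSch.IsChart g V W hVW ψ) : PCHomM s ψ := by
  rw [← pushOM_spec_iff]
  have h0 : DerSch.IsPseudoCoherentRel g s (DCoh.toD Y (DerSch.unitCx Y)) := hg
  have h0' := cpAt_of_isPseudoCoherentRel g (DCoh.toD Y (DerSch.unitCx Y)) s h0 V W hVW
  have h1 := chartPC_of_cpAt h0' ψ hψ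
  have h2 := (chartPC_iff_cp V.2 ψ hψ.1 (DerSch.unitCx Y) s).1 h1
  have h3 : CP s ((RC V.2.fromSpec).obj (DerSch.unitCx Y)) (specHom ψ) :=
    (cp_cImm_iff (DerSch.unitCx Y) V.2 ψ s).1 h2
  haveI : IsClosedImmersion (specHom ψ) := IsClosedImmersion.spec_of_surjective _ hψ.1
  exact isPC_of_iso (pushRestrictUnitIso V.2.fromSpec (specHom ψ)) h3

variable {U' T T' : Scheme.{u}} (c : U' ⟶ T) [IsClosedImmersion c] (s : T ⟶ T')
  [IsClosedImmersion s] (G : CochainComplex U'.Modules ℤ)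

/-- termwise direct image along a closed immersion computes the derived direct image -/
noncomputable def toDPushCxIso : DCoh.toD T ((DerSch.pushCx c).obj G) ≅ (pushD c).obj (DCoh.toD U' G) :=
  ((Scheme.Modules.pushforward c).mapDerivedCategoryFactors.app G).symm

theorem isZero_HD_pushCx (j : ℤ) (h : IsZero (DCoh.HD (DCoh.toD U' G) j)) :
    IsZero (DCoh.HD (DCoh.toD T ((DerSch.pushCx c).obj G)) j) :=
  ((Functor.map_isZero (Scheme.Modules.pushforward c) h).of_iso
    ((derivedHomologyIso (Scheme.Modules.pushforward c) j).app _)).of_iso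
      ((DerivedCategory.homologyFunctor _ j).mapIso (toDPushCxIso c G))

/-- termwise direct image along a composition -/
noncomputable def toDPushCxCompIso :
    (pushD s).obj (DCoh.toD T ((DerSch.pushCx c).obj G)) ≅
      DCoh.toD T' ((DerSch.pushCx (c ≫ s)).obj G) :=
  (Scheme.Modules.pushforward s).mapDerivedCategoryFactors.app _ ≪≫
    DerivedCategory.Q.mapIso ((NatIso.mapHomologicalComplex
      (Scheme.Modules.pushforwardComp c s) (ComplexShape.up ℤ)).app G)

theorem isPC_pushCx_comp_of_bdd (m b : ℤ)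
    (hb : ∀ j : ℤ, b < j → IsZero (DCoh.HD (DCoh.toD U' G) j)) (hs : PushOM s (m - b))
    (h : DCoh.IsPseudoCoherentD m (DCoh.toD T ((DerSch.pushCx c).obj G))) :
    DCoh.IsPseudoCoherentD m (DCoh.toD T' ((DerSch.pushCx (c ≫ s)).obj G)) :=
  isPC_of_iso (toDPushCxCompIso c s G)
    (isPC_push_bdd s _ m b (fun j hj => isZero_HD_pushCx c G j (hb j hj)) hs h)

theorem isPC_pushCx_of_comp_bdd (m b : ℤ)
    (hb : ∀ j : ℤ, b < j → IsZero (DCoh.HD (DCoh.toD U' G) j)) (hs : PushOM s (m + 1 - b))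
    (h : DCoh.IsPseudoCoherentD m (DCoh.toD T' ((DerSch.pushCx (c ≫ s)).obj G))) :
    DCoh.IsPseudoCoherentD m (DCoh.toD T ((DerSch.pushCx c).obj G)) :=
  isPC_of_push_bdd s _ m b (fun j hj => isZero_HD_pushCx c G j (hb j hj)) hs
    (isPC_of_iso (toDPushCxCompIso c s G).symm h)

end Sch

section Assembly

variable {X Y Z : Scheme.{u}}

theorem isClosedImmersion_cImm (U : X.Opens) (hU : IsAffineOpen U) {P : Type u} [CommRing P]
    (φ : P →+* Γ(X, U)) (hφ : Function.Surjective φ) : IsClosedImmersion (cImm U φ) := by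
  haveI : IsIso U.toSpecΓ := by
    rw [← hU.isoSpec_hom]
    infer_instance
  haveI : IsClosedImmersion (Spec.map (CommRingCat.ofHom φ)) :=
    IsClosedImmersion.spec_of_surjective _ hφ
  unfold cImm
  infer_instance

theorem cImm_comp (U : X.Opens) {P Q : Type u} [CommRing P] [CommRing Q] (φ : P →+* Γ(X, U))
    (ρ : Q →+* P) : cImm U (φ.comp ρ) = cImm U φ ≫ specHom ρ := by
  simp only [cImm, specHom, Category.assoc]
  rw [← Spec.map_comp]
  rfl

/-- vanishing of the cohomology of a restricted representative -/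
theorem isZero_HD_restrictCx (E : DCoh.D X) (G : CochainComplex X.Modules ℤ)
    (eG : DCoh.toD X G ≅ E) (U : X.Opens) (j : ℤ) (h : IsZero (DCoh.HD E j)) :
    IsZero (DCoh.HD (DCoh.toD (U : Scheme.{u}) ((DCoh.restrictCx U).obj G)) j) := by
  have h1 : IsZero (DCoh.HD (DCoh.toD X G) j) :=
    h.of_iso ((DerivedCategory.homologyFunctor _ j).mapIso eG)
  have h2 := Groth.Agent.Lib.Helper5.PCTop.isZero_HD_restrictD (DCoh.toD X G) U j h1
  exact h2.of_iso ((DerivedCategory.homologyFunctor _ j).mapIso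
    ((Scheme.Modules.restrictFunctor U.ι).mapDerivedCategoryFactors.app G).symm)

variable (f : X ⟶ Y) (g : Y ⟶ Z) [LocallyOfFiniteType f] [LocallyOfFiniteType g]

/-- the composite of two charts -/
noncomputable def compChart {U : X.Opens} {V : Y.Opens} {W : Z.Opens} {n k : ℕ}
    (φ : MvPolynomial (Fin n) Γ(Y, V) →+* Γ(X, U))
    (ψ : MvPolynomial (Fin k) Γ(Z, W) →+* Γ(Y, V)) :
    MvPolynomial (Fin (n + k)) Γ(Z, W) →+* Γ(X, U) :=
  (φ.comp (MvPolynomial.map ψ)).comp (sumEquiv Γ(Z, W) n k).toRingHom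

omit [LocallyOfFiniteType f] [LocallyOfFiniteType g] in
theorem isChart_compChart {U : X.Opens} {V : Y.Opens} {W : Z.Opens}
    (h1 : U ≤ f ⁻¹ᵁ V) (h2 : V ≤ g ⁻¹ᵁ W) (h3 : U ≤ (f ≫ g) ⁻¹ᵁ W) {n k : ℕ}
    (φ : MvPolynomial (Fin n) Γ(Y, V) →+* Γ(X, U)) (hφ : DerSch.IsChart f U V h1 φ)
    (ψ : MvPolynomial (Fin k) Γ(Z, W) →+* Γ(Y, V)) (hψ : DerSch.IsChart g V W h2 ψ) :
    DerSch.IsChart (f ≫ g) U W h3 (compChart φ ψ) := by
  refine ⟨(hφ.1.comp (MvPolynomial.map_surjective ψ hψ.1)).comp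
    (sumEquiv Γ(Z, W) n k).surjective, ?_⟩
  ext r
  show φ (MvPolynomial.map ψ (sumEquiv Γ(Z, W) n k (MvPolynomial.C r))) = _
  rw [sumEquiv_C, MvPolynomial.map_C]
  have e1 : ψ (MvPolynomial.C r) = (g.appLE W V h2).hom r := congrArg (fun t => t r) hψ.2
  have e2 : ∀ s, φ (MvPolynomial.C s) = (f.appLE V U h1).hom s :=
    fun s => congrArg (fun t => t s) hφ.2
  rw [e1, e2]
  exact congrArg (fun t => t.hom r) (Scheme.Hom.appLE_comp_appLE f g W V U h2 h1)

omit [LocallyOfFiniteType f] [LocallyOfFiniteType g] in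
/-- the last step: reordering the variables -/
theorem cp_compChart_iff {U : X.Opens} {V : Y.Opens} {W : Z.Opens} {n k : ℕ}
    (φ : MvPolynomial (Fin n) Γ(Y, V) →+* Γ(X, U))
    (ψ : MvPolynomial (Fin k) Γ(Z, W) →+* Γ(Y, V))
    (G' : CochainComplex (U : Scheme.{u}).Modules ℤ) (m : ℤ) :
    CP m G' (cImm U (φ.comp (MvPolynomial.map ψ))) ↔ CP m G' (cImm U (compChart φ ψ)) :=
  isPC_cImm_iff U (φ.comp (MvPolynomial.map ψ)) (sumEquiv Γ(Z, W) n k).toRingHom
    (sumEquiv Γ(Z, W) n k).surjective (pchom_equiv (sumEquiv Γ(Z, W) n k)) _ rfl G' m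

/-- from `f ≫ g` to `f`, with bounds -/
theorem cpAt_of_comp_bdd (a b : ℤ) (E : DCoh.D X) [E.IsLE b]
    (hg : DerSch.IsNPseudoCoherent g (a + 1 - b))
    (U : X.affineOpens) (V : Y.affineOpens) (W : Z.affineOpens)
    (h1 : (U : X.Opens) ≤ f ⁻¹ᵁ (V : Y.Opens)) (h2 : (V : Y.Opens) ≤ g ⁻¹ᵁ (W : Z.Opens))
    (h3 : (U : X.Opens) ≤ (f ≫ g) ⁻¹ᵁ (W : Z.Opens))
    (H : CPAt (f ≫ g) E a (U : X.Opens) (W : Z.Opens) h3) :
    CPAt f E a (U : X.Opens) (V : Y.Opens) h1 := by
  obtain ⟨n, φ, hφ⟩ := exists_isChart f U V h1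
  obtain ⟨k, ψ, hψ⟩ := exists_isChart g V W h2
  let G := DerivedCategory.Q.objPreimage E
  have eG : DCoh.toD X G ≅ E := DerivedCategory.Q.objObjPreimageIso E
  rw [← cpAt_congr_iso f eG]
  have H' := (cpAt_congr_iso (f ≫ g) eG a _ _ h3).2 H
  have hχ := isChart_compChart f g h1 h2 h3 φ hφ ψ hψ
  have c1 := (chartPC_iff_cp U.2 _ hχ.1 G a).1 (chartPC_of_cpAt H' _ hχ)
  have c2 : CP a ((DCoh.restrictCx (U : X.Opens)).obj G)
      (cImm (U : X.Opens) (φ.comp (MvPolynomial.map ψ))) := (cp_compChart_iff φ ψ _ a).2 c1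
  rw [cp_congr_hom _ (cImm_comp (U : X.Opens) φ (MvPolynomial.map ψ))] at c2
  haveI := isClosedImmersion_cImm (U : X.Opens) U.2 φ hφ.1
  haveI : IsClosedImmersion (specHom (MvPolynomial.map (σ := Fin n) ψ)) :=
    IsClosedImmersion.spec_of_surjective _ (MvPolynomial.map_surjective ψ hψ.1)
  have hs : PushOM (specHom (MvPolynomial.map (σ := Fin n) ψ)) (a + 1 - b) :=
    (pushOM_spec_iff _ _).2 (pchomM_map _ ψ (pchomM_of_isNPC g _ hg V W h2 ψ hψ) n)
  have c3 := isPC_pushCx_of_comp_bdd (cImm (U : X.Opens) φ) (specHom (MvPolynomial.map ψ))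
    ((DCoh.restrictCx (U : X.Opens)).obj G) a b
    (fun j hj => isZero_HD_restrictCx E G eG U j (DerivedCategory.isZero_of_isLE E b j hj)) hs c2
  exact ⟨n, φ, hφ, (chartPC_iff_cp U.2 φ hφ.1 G a).2 c3⟩

/-- **from `f ≫ g` to `f`**, with bounds -/
theorem isPseudoCoherentRel_of_comp_bdd (a b : ℤ) (E : DCoh.D X) [E.IsLE b]
    (hE : DerSch.IsPseudoCoherentRel (f ≫ g) a E)
    (hg : DerSch.IsNPseudoCoherent g (a + 1 - b)) : DerSch.IsPseudoCoherentRel f a E := by
  apply isPseudoCoherentRel_of_pointwise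
  intro x
  obtain ⟨U, V, W, hx, h1, h2⟩ := exists_affine_chain f g x
  have h3 : (U : X.Opens) ≤ (f ≫ g) ⁻¹ᵁ (W : Z.Opens) := fun y hy => h2 (h1 hy)
  exact ⟨U, V, h1, hx, cpAt_of_comp_bdd f g a b E hg U V W h1 h2 h3
    (cpAt_of_isPseudoCoherentRel (f ≫ g) E a hE U W h3)⟩

/-- **composition of `r`- and `s`-pseudo-coherent morphisms** -/
theorem isNPC_comp (r s : ℤ) (hf : DerSch.IsNPseudoCoherent f r)
    (hg : DerSch.IsNPseudoCoherent g s) : DerSch.IsNPseudoCoherent (f ≫ g) (max r s) := by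
  show DerSch.IsPseudoCoherentRel (f ≫ g) (max r s) (DCoh.toD X (DerSch.unitCx X))
  apply isPseudoCoherentRel_of_pointwise
  intro x
  obtain ⟨U, V, W, hx, h1, h2⟩ := exists_affine_chain f g x
  have h3 : (U : X.Opens) ≤ (f ≫ g) ⁻¹ᵁ (W : Z.Opens) := fun y hy => h2 (h1 hy)
  refine ⟨U, W, h3, hx, ?_⟩
  obtain ⟨n, φ, hφ⟩ := exists_isChart f U V h1
  obtain ⟨k, ψ, hψ⟩ := exists_isChart g V W h2
  have hχ := isChart_compChart f g h1 h2 h3 φ hφ ψ hψ
  refine ⟨n + k, compChart φ ψ, hχ, (chartPC_iff_cp U.2 _ hχ.1 (DerSch.unitCx X) _).2 ?_⟩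
  show CP (max r s) _ (cImm (U : X.Opens) (compChart φ ψ))
  rw [← cp_compChart_iff, cp_congr_hom _ (cImm_comp (U : X.Opens) φ (MvPolynomial.map ψ))]
  have h0 : DerSch.IsPseudoCoherentRel f r (DCoh.toD X (DerSch.unitCx X)) := hf
  have h0' := cpAt_of_isPseudoCoherentRel f (DCoh.toD X (DerSch.unitCx X)) r h0 U V h1
  have c0 := (chartPC_iff_cp U.2 φ hφ.1 (DerSch.unitCx X) r).1 (chartPC_of_cpAt h0' φ hφ)
  have c1 : CP (max r s) ((DCoh.restrictCx (U : X.Opens)).obj (DerSch.unitCx X))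
      (cImm (U : X.Opens) φ) := isPC_mono (le_max_left r s) c0
  haveI := isClosedImmersion_cImm (U : X.Opens) U.2 φ hφ.1
  haveI : IsClosedImmersion (specHom (MvPolynomial.map (σ := Fin n) ψ)) :=
    IsClosedImmersion.spec_of_surjective _ (MvPolynomial.map_surjective ψ hψ.1)
  have hs : PushOM (specHom (MvPolynomial.map (σ := Fin n) ψ)) (max r s - 0) :=
    PushOM.mono ((pushOM_spec_iff _ _).2
      (pchomM_map _ ψ (pchomM_of_isNPC g _ hg V W h2 ψ hψ) n))
      (by have := le_max_right r s; omega)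
  refine isPC_pushCx_comp_of_bdd (cImm (U : X.Opens) φ) (specHom (MvPolynomial.map ψ))
    ((DCoh.restrictCx (U : X.Opens)).obj (DerSch.unitCx X)) (max r s) 0 (fun j hj => ?_) hs c1
  refine isZero_HD_restrictCx (DCoh.toD X (DerSch.unitCx X)) (DerSch.unitCx X) (Iso.refl _) U j ?_
  exact (DerivedCategory.isZero_of_isLE (DCoh.inD X (Coh.structureModule X)) 0 j hj).of_iso
    ((DerivedCategory.homologyFunctor _ j).mapIso (toDUnitIso X))

end Assembly

end Groth.Agent.Lib.Helper5.CPAtLib
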