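import Mathlib
import Groth.Agent.Lib.Helper5.RelPC.TransM
import Groth.Agent.Lib.Helper5.DRing.PCLow

/-!
# `n`-pseudo-coherent morphisms for `n = -1` (helper5)
-/
set_option autoImplicit false
set_option linter.style.haveILetI false
universe u
open CategoryTheory CategoryTheory.Limits AlgebraicGeometry Opposite TopologicalSpace
  CategoryTheory.Pretriangulated DerivedCategory TensorProduct

attribute [local instance] HasDerivedCategory.standard

namespace Groth.Agent.Lib.Helper5.CPAtLib

open Groth.Agent.Lib.Helper5.ClPush Groth.Agent.Lib.Helper5.PCTri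
  Groth.Agent.Lib.Helper5.CPMoves Groth.Agent.Lib.Helper5.ChartIndep
  Groth.Agent.Lib.Helper5.FinPush Groth.Agent.Lib.Helper5.ExactHom
  Groth.Agent.Lib.Helper5.PCTermsSch Groth.Agent.Lib.Helper5.PCBiprod
  Groth.Agent.Helper5.PCHom Groth.Agent.Lib.Helper5.QC Groth.Agent.Lib.Helper5.TildePC
  Groth.Agent.Helper5.PCRes

section

variable {X S : Scheme.{u}}

/-- the chart test for the structure sheaf is a statement about the chart as a ring map -/
theorem chartPC_unit_iff {U : X.Opens} (hU : IsAffineOpen U) {V : S.Opens} {n : ℕ}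
    (φ : MvPolynomial (Fin n) Γ(S, V) →+* Γ(X, U)) (hφ : Function.Surjective φ) (m : ℤ) :
    DerSch.ChartPC m (DCoh.toD X (DerSch.unitCx X)) U V φ ↔ PCHomM m φ := by
  rw [chartPC_iff_cp hU φ hφ (DerSch.unitCx X) m]
  show CP m _ (cImm U φ) ↔ _
  rw [cp_cImm_iff (DerSch.unitCx X) hU φ m, ← pushOM_spec_iff]
  haveI : IsClosedImmersion (specHom φ) := IsClosedImmersion.spec_of_surjective _ hφ
  exact isPC_iff_of_iso (pushRestrictUnitIso hU.fromSpec (specHom φ))

end

section Alg

variable {P A : Type u} [CommRing P] [CommRing A]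

/-- a surjective ring map is `(-1)`-pseudo-coherent iff its kernel is finitely generated -/
theorem pchomM_neg_one_iff (φ : P →+* A) (hφ : Function.Surjective φ) :
    PCHomM (-1) φ ↔ (RingHom.ker φ).FG := by
  letI : Algebra P A := φ.toAlgebra
  show PCHomM (-1) (algebraMap P A) ↔ _
  rw [pchomM_iff_alg]
  have h1 := (Groth.Agent.Helper5.PCDev.s6935 (R := P) A).2
  have h2 : DRing.IsPseudoCoherent P (-1) ((DerivedCategory.singleFunctor (ModuleCat.{u} P) 0).obj
      (ModuleCat.of P A)) ↔ Module.FinitePresentation P A := h1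
  rw [h2, ← Module.FinitePresentation.fg_ker_iff (Algebra.linearMap P A) hφ]
  rfl

end Alg

section Main

variable {X S : Scheme.{u}} (f : X ⟶ S) [LocallyOfFiniteType f]

theorem cpAt_unit_neg_one_iff (U : X.affineOpens) (V : S.affineOpens)
    (h : (U : X.Opens) ≤ f ⁻¹ᵁ (V : S.Opens)) :
    CPAt f (DCoh.toD X (DerSch.unitCx X)) (-1) (U : X.Opens) (V : S.Opens) h ↔
      (f.appLE (V : S.Opens) (U : X.Opens) h).hom.FinitePresentation := by
  obtain ⟨n, φ, hφ⟩ := exists_isChart f U V h
  have e1 : CPAt f (DCoh.toD X (DerSch.unitCx X)) (-1) (U : X.Opens) (V : S.Opens) h ↔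
      DerSch.ChartPC (-1) (DCoh.toD X (DerSch.unitCx X)) (U : X.Opens) (V : S.Opens) φ :=
    ⟨fun H => chartPC_of_cpAt H φ hφ, fun H => ⟨n, φ, hφ, H⟩⟩
  rw [e1, chartPC_unit_iff U.2 φ hφ.1, pchomM_neg_one_iff φ hφ.1, ← hφ.2]
  have hC : (MvPolynomial.C : Γ(S, (V : S.Opens)) →+* MvPolynomial (Fin n) Γ(S, (V : S.Opens))).FinitePresentation :=
    (RingHom.finitePresentation_algebraMap (A := Γ(S, (V : S.Opens)))
      (B := MvPolynomial (Fin n) Γ(S, (V : S.Opens)))).2 inferInstance
  have hC' : (MvPolynomial.C : Γ(S, (V : S.Opens)) →+* MvPolynomial (Fin n) Γ(S, (V : S.Opens))).FiniteType :=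
    (RingHom.finiteType_algebraMap (A := Γ(S, (V : S.Opens)))
      (B := MvPolynomial (Fin n) Γ(S, (V : S.Opens)))).2 inferInstance
  constructor
  · intro hk
    exact RingHom.FinitePresentation.comp_surjective hC hφ.1 hk
  · intro hfp
    have hφfp : φ.FinitePresentation :=
      RingHom.FinitePresentation.of_comp_finiteType MvPolynomial.C hfp hC'
    letI : Algebra (MvPolynomial (Fin n) Γ(S, (V : S.Opens))) Γ(X, (U : X.Opens)) := φ.toAlgebra
    haveI : Algebra.FinitePresentation (MvPolynomial (Fin n) Γ(S, (V : S.Opens)))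
      Γ(X, (U : X.Opens)) := hφfp
    exact Algebra.FinitePresentation.ker_fG_of_surjective
      (Algebra.ofId (MvPolynomial (Fin n) Γ(S, (V : S.Opens))) Γ(X, (U : X.Opens))) hφ.1

/-- **a morphism is `(-1)`-pseudo-coherent iff it is locally of finite presentation** -/
theorem isNPC_neg_one_iff :
    DerSch.IsNPseudoCoherent f (-1) ↔ LocallyOfFinitePresentation f := by
  show DerSch.IsPseudoCoherentRel f (-1) (DCoh.toD X (DerSch.unitCx X)) ↔ _
  rw [isPseudoCoherentRel_iff_cpAt,
    HasRingHomProperty.iff_appLE (P := @LocallyOfFinitePresentation)]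
  exact ⟨fun H V U e => (cpAt_unit_neg_one_iff f U V e).1 (H U V e),
    fun H U V e => (cpAt_unit_neg_one_iff f U V e).2 (H V U e)⟩

end Main

end Groth.Agent.Lib.Helper5.CPAtLib
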