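import Mathlib
import Groth.Agent.Lib.Helper5.RelPC.NPC
import Groth.Agent.Lib.Helper3.PerfHom4

/-!
# Flat morphisms locally of finite presentation are pseudo-coherent (helper5)

The deep input is helper3's `S5929_main` (finite free resolutions of flat finitely presented modules).
-/
set_option autoImplicit false
set_option linter.style.haveILetI false
universe u
open CategoryTheory CategoryTheory.Limits AlgebraicGeometry Opposite TopologicalSpace

attribute [local instance] HasDerivedCategory.standard

namespace Groth.Agent.Lib.Helper5.FlatLfp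

open Groth.Agent.Helper5.PCHom Groth.Agent.Helper5.PCRes Groth.Agent.Lib.Helper5.CPAtLib
  Groth.Agent.Helper3.PerfHom

/-- a flat finitely presented algebra is pseudo-coherent over any polynomial presentation -/
theorem pchom_of_flat_fp {A C : Type u} [CommRing A] [CommRing C] [Algebra A C] [Module.Flat A C]
    [Algebra.FinitePresentation A C] {n : ℕ} (α : MvPolynomial (Fin n) A →ₐ[A] C)
    (hα : Function.Surjective α) : PCHom α.toRingHom := by
  have hker : (RingHom.ker α.toRingHom).FG := Algebra.FinitePresentation.ker_fG_of_surjective α hα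
  rw [← pcModule'_toAlgebra_iff]
  letI := α.toRingHom.toAlgebra
  haveI : IsScalarTower A (MvPolynomial (Fin n) A) C :=
    IsScalarTower.of_algebraMap_eq' (by
      ext a
      exact (α.commutes a).symm)
  haveI : Module.FinitePresentation (MvPolynomial (Fin n) A) C :=
    fp_module_of_surjective n α hα hker
  obtain ⟨Res, hRes⟩ := Groth.Agent.Helper3.FinRes.S5929_main A (MvPolynomial (Fin n) A) C
  exact pc'_of_res C Res hRes

variable {T S : Scheme.{u}}

/-- **a flat morphism locally of finite presentation is `n`-pseudo-coherent for every `n`** -/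
theorem isNPC_of_flat_lfp (b : T ⟶ S) [Flat b] [LocallyOfFinitePresentation b] (n : ℤ) :
    DerSch.IsNPseudoCoherent b n := by
  haveI : LocallyOfFiniteType b := inferInstance
  apply isPseudoCoherentRel_of_cpAt
  intro U V h
  obtain ⟨k, φ, hφ⟩ := exists_isChart b U V h
  refine ⟨k, φ, hφ, (chartPC_unit_iff U.2 φ hφ.1 n).2 ?_⟩
  letI : Algebra Γ(S, (V : S.Opens)) Γ(T, (U : T.Opens)) := (b.appLE V U h).hom.toAlgebra
  haveI : Module.Flat Γ(S, (V : S.Opens)) Γ(T, (U : T.Opens)) := Flat.flat_appLE b V.2 U.2 h
  haveI : Algebra.FinitePresentation Γ(S, (V : S.Opens)) Γ(T, (U : T.Opens)) :=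
    HasRingHomProperty.appLE @LocallyOfFinitePresentation b inferInstance V U h
  let α : MvPolynomial (Fin k) Γ(S, (V : S.Opens)) →ₐ[Γ(S, (V : S.Opens))] Γ(T, (U : T.Opens)) :=
    { toRingHom := φ
      commutes' := fun r => RingHom.congr_fun hφ.2 r }
  exact pchom_of_flat_fp α hφ.1 n

end Groth.Agent.Lib.Helper5.FlatLfp
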