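import Mathlib
import Groth.Agent.Lib.Helper5.RelPC.NPC
import Groth.Agent.Lib.Helper5.RelPC.CPAt5
import Groth.Agent.Lib.Helper5.RelPC.TransM

/-!
# Relative and absolute pseudo-coherence agree above the top cohomological degree (helper5)
-/
set_option autoImplicit false
set_option linter.style.haveILetI false
universe u
open CategoryTheory CategoryTheory.Limits AlgebraicGeometry Opposite TopologicalSpace

attribute [local instance] HasDerivedCategory.standard

namespace Groth.Agent.Lib.Helper5.CPAtLib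

open Groth.Agent.Lib.Helper5.ClPush Groth.Agent.Lib.Helper5.PCTri
  Groth.Agent.Lib.Helper5.CPMoves Groth.Agent.Lib.Helper5.ChartIndep
  Groth.Agent.Lib.Helper5.FinPush Groth.Agent.Lib.Helper5.ExactHom
  Groth.Agent.Lib.Helper5.PCTermsSch Groth.Agent.Lib.Helper5.PCBiprod

section Alg
variable {P A : Type u} [CommRing P] [CommRing A]

/-- the target of a surjective ring map is `0`-pseudo-coherent over the source -/
theorem pchomM_zero_of_surjective (φ : P →+* A) (hφ : Function.Surjective φ) : PCHomM 0 φ := by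
  letI : Algebra P A := φ.toAlgebra
  show PCHomM 0 (algebraMap P A)
  rw [pchomM_iff_alg]
  haveI : Module.Finite P A := Module.Finite.of_surjective (Algebra.linearMap P A) hφ
  exact (Groth.Agent.Helper5.PCDev.s6935 (R := P) A).1.2 inferInstance

end Alg

variable {X S : Scheme.{u}}

/-- the structure sheaf pushed forward along a chart, in terms of the chart as a ring map -/
theorem pushOM_chartImm_iff {U : X.Opens} (hU : IsAffineOpen U) {V : S.Opens} {n : ℕ}
    (φ : MvPolynomial (Fin n) Γ(S, V) →+* Γ(X, U)) (hφ : Function.Surjective φ)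
    [IsClosedImmersion (DerSch.chartImm U φ)] (m : ℤ) :
    PushOM (DerSch.chartImm U φ) m ↔ PCHomM m φ := by
  rw [← chartPC_unit_iff hU φ hφ m, chartPC_iff_isPC φ _ m]
  let c := DerSch.chartImm U φ
  have e1 : (chartD U c).obj (DCoh.toD X (DerSch.unitCx X)) ≅
      (chartD U c).obj (DCoh.inD X (Coh.structureModule X)) :=
    (chartD U c).mapIso (toDUnitIso X)
  have e2 : (chartD U c).obj (DCoh.inD X (Coh.structureModule X)) ≅
      DCoh.inD _ ((chartM U c).obj (Coh.structureModule X)) :=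
    chartDSingleIso U c 0 (Coh.structureModule X)
  have e3 : (chartM U c).obj (Coh.structureModule X) ≅
      (Scheme.Modules.pushforward c).obj (Coh.structureModule U) :=
    (Scheme.Modules.pushforward c).mapIso (restrictUnitIso U.ι)
  exact (isPC_iff_of_iso (e1 ≪≫ e2 ≪≫ (DerivedCategory.singleFunctor _ 0).mapIso e3)).symm

/-- charts are `k`-pseudo-coherent closed immersions for `k ≥ 0` -/
theorem pushOM_chartImm_of_nonneg {U : X.Opens} (hU : IsAffineOpen U) {V : S.Opens} {n : ℕ}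
    (φ : MvPolynomial (Fin n) Γ(S, V) →+* Γ(X, U)) (hφ : Function.Surjective φ)
    [IsClosedImmersion (DerSch.chartImm U φ)] (k : ℤ) (hk : 0 ≤ k) :
    PushOM (DerSch.chartImm U φ) k :=
  ((pushOM_chartImm_iff hU φ hφ 0).2 (pchomM_zero_of_surjective φ hφ)).mono hk

/-- **relative and absolute pseudo-coherence agree in degrees above the cohomology** -/
theorem isPseudoCoherentRel_iff_isPC_of_bdd (f : X ⟶ S) [LocallyOfFiniteType f] (E : DCoh.D X)
    (b m : ℤ) (hb : ∀ j : ℤ, b < j → IsZero (DCoh.HD E j)) (hm : b ≤ m) :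
    DerSch.IsPseudoCoherentRel f m E ↔ DCoh.IsPseudoCoherentD m E := by
  have hb' : ∀ (U : X.Opens) (j : ℤ), b < j → IsZero (DCoh.HD ((DCoh.restrictD U.ι).obj E) j) :=
    fun U j hj => Groth.Agent.Lib.Helper5.PCTop.isZero_HD_restrictD E U j (hb j hj)
  rw [isPseudoCoherentRel_iff_cpAt]
  constructor
  · intro H
    apply isPC_local
    intro y
    obtain ⟨_, ⟨V, hV : IsAffineOpen V, rfl⟩, hyV, -⟩ :=
      S.isBasis_affineOpens.exists_subset_of_mem_open (Set.mem_univ (f y)) isOpen_univ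
    obtain ⟨_, ⟨U, hU : IsAffineOpen U, rfl⟩, hyU, hUV⟩ :=
      X.isBasis_affineOpens.exists_subset_of_mem_open (show y ∈ (f ⁻¹ᵁ V : X.Opens) from hyV)
        (f ⁻¹ᵁ V).2
    obtain ⟨n, φ, hφ⟩ := exists_isChart f ⟨U, hU⟩ ⟨V, hV⟩ hUV
    haveI := Groth.Agent.Lib.Helper5.RelPCQC.isClosedImmersion_chartImm U hU φ hφ.1
    have h1 := (chartPC_iff_isPC φ _ _).1 (chartPC_of_cpAt (H ⟨U, hU⟩ ⟨V, hV⟩ hUV) φ hφ)
    exact ⟨U, hyU, isPC_of_push_bdd (DerSch.chartImm U φ) _ m b (hb' U)
      (pushOM_chartImm_of_nonneg hU φ hφ.1 _ (by omega)) h1⟩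
  · intro hE U V hUV
    obtain ⟨n, φ, hφ⟩ := exists_isChart f U V hUV
    haveI := Groth.Agent.Lib.Helper5.RelPCQC.isClosedImmersion_chartImm (U : X.Opens) U.2 φ hφ.1
    refine ⟨n, φ, hφ, (chartPC_iff_isPC φ _ _).2 ?_⟩
    exact isPC_push_bdd (DerSch.chartImm (U : X.Opens) φ) _ m b (hb' U)
      (pushOM_chartImm_of_nonneg U.2 φ hφ.1 _ (by omega))
      (Groth.Agent.Lib.Helper5.IsoSq.isPC_restrictD (U : X.Opens).ι hE)

end Groth.Agent.Lib.Helper5.CPAtLib
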