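import Mathlib
import Groth.Prelude.Def_DCoh3
import Groth.Prelude.Def_DerSch2
import Groth.Prelude.Def_Flatn
import Groth.Agent.Lib.Helper5.RelPC.AffComm2
import Groth.Agent.Lib.Helper5.RelPC.RelAbsBdd
import Groth.Agent.Lib.Helper5.Perf.PCSingle
import Groth.Agent.Lib.Helper1.CohRestr
import Groth.Agent.Lib.Helper3.RelFPS2
import Groth.Agent.Lib.Helper5.RpushCl.RpushClassic
import Groth.Agent.Lib.Helper5.DRing.RelPC2

/-!
# Sections of a quasi-coherent module over an affine open and the restriction to its spectrum
(helper5)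
-/
set_option autoImplicit false
set_option linter.style.haveILetI false
universe u
open CategoryTheory CategoryTheory.Limits AlgebraicGeometry Opposite TopologicalSpace

attribute [local instance] HasDerivedCategory.standard

namespace Groth.Agent.Lib.Helper5.SingleMod

open Groth.Agent.Helper1 Groth.Agent.Helper1.QcCech Groth.Agent.Helper1.FinPush
  Groth.Agent.Lib.Helper5.AffComm Groth.Agent.Lib.Helper5.QC

variable {X : Scheme.{u}}

/-- sections over an affine open and global sections of the restriction to its spectrum -/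
noncomputable def secEquiv (M : X.Modules) {O : X.Opens} (hO : IsAffineOpen O) :
    Γ(M, O) ≃ₗ[Γ(X, O)] Γ(M.restrict hO.fromSpec, ⊤) :=
  have e0 := QcLoc.image_top hO
  { toFun := fun x => (show Γ(M.restrict hO.fromSpec, ⊤) from res M e0.le x)
    map_add' := fun x y => map_add (res M e0.le) _ _
    map_smul' := fun r x => by
      have h1 := QcLoc.smul_eq hO M ⊤ r (show Γ(M.restrict hO.fromSpec, ⊤) from res M e0.le x)
      refine Eq.trans ?_ h1.symm
      change res M e0.le (r • x) = resR (QcLoc.image_le hO ⊤) r • res M e0.le x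
      rw [res_smul]
    invFun := fun y => res M e0.ge (show Γ(M, hO.fromSpec ''ᵁ ⊤) from y)
    left_inv := fun x => by
      change res M e0.ge (res M e0.le x) = x
      rw [res_res, res_self]
    right_inv := fun y => by
      change res M e0.le (res M e0.ge _) = y
      rw [res_res, res_self] }

set_option backward.isDefEq.respectTransparency.types false in
/-- a quasi-coherent module restricted to the spectrum of an affine open is the module associated
to its sections -/
noncomputable def tildeSecIso (M : X.Modules) [M.IsQuasicoherent] {O : X.Opens}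
    (hO : IsAffineOpen O) :
    (tilde.functor Γ(X, O)).obj (ModuleCat.of Γ(X, O) Γ(M, O)) ≅ M.restrict hO.fromSpec :=
  haveI : (M.restrict hO.fromSpec).IsQuasicoherent := inferInstance
  haveI : IsIso (M.restrict hO.fromSpec).fromTildeΓ :=
    Scheme.Modules.isIso_fromTildeΓ_of_isQuasicoherent (M.restrict hO.fromSpec)
  let e := @asIso _ _ _ _ (M.restrict hO.fromSpec).fromTildeΓ this
  (tilde.functor Γ(X, O)).mapIso (secEquiv M hO).toModuleIso ≪≫ e

/-- the bridge: a quasi-coherent module in degree `0`, restricted to the spectrum of an affine open,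
is the object associated to its module of sections in degree `0` -/
theorem nonempty_tilde_inD (M : X.Modules) [M.IsQuasicoherent] {U : X.Opens}
    (hU : IsAffineOpen U) :
    Nonempty ((DCoh.tildeD Γ(X, U)).obj (Dual.inD Γ(X, U) Γ(M, U)) ≅
      resSpec (DCoh.inD X M) hU) :=
  ⟨((tilde.functor Γ(X, U)).mapDerivedCategorySingleFunctor 0).app
      (ModuleCat.of Γ(X, U) Γ(M, U)) ≪≫
    (DerivedCategory.singleFunctor _ 0).mapIso (tildeSecIso M hU) ≪≫
    (((Scheme.Modules.restrictFunctor hU.fromSpec).mapDerivedCategorySingleFunctor 0).app M).symm⟩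

variable {S : Scheme.{u}}

/-- the algebraic test for a quasi-coherent module in degree `0` -/
theorem relPCAt_inD_iff (f : X ⟶ S) (M : X.Modules) [M.IsQuasicoherent] (m : ℤ) {U : X.Opens}
    (hU : IsAffineOpen U) (V : S.Opens) (h : U ≤ f ⁻¹ᵁ V) :
    RelPCAt f (DCoh.inD X M) m hU V h ↔
      (letI := (f.appLE V U h).hom.toAlgebra
       DerCA.IsRelPseudoCoherentModule Γ(S, V) Γ(X, U) m Γ(M, U)) := by
  letI := (f.appLE V U h).hom.toAlgebra
  constructor
  · intro H
    exact H _ (nonempty_tilde_inD M hU)
  · intro H M' ⟨e'⟩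
    obtain ⟨e⟩ := nonempty_tilde_inD M hU
    obtain ⟨e2⟩ := nonempty_iso_of_tildeD Γ(X, U) (e ≪≫ e'.symm)
    exact relpc_of_iso e2 H

/-- relative `(-1)`-pseudo-coherence of a module over a finite type algebra is relative finite
presentation -/
theorem relpcModule_negOne_iff {R A : Type u} [CommRing R] [CommRing A] [Algebra R A]
    (N : Type u) [AddCommGroup N] [Module A N] :
    DerCA.IsRelPseudoCoherentModule R A (-1) N ↔ FlatCA.RelFinitePresentation R A N := by
  constructor
  · intro H
    obtain ⟨n, α, hα, -⟩ := id H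
    haveI : Algebra.FiniteType R A := Algebra.FiniteType.of_surjective α hα
    exact ⟨n, α, hα, (Groth.Agent.Helper5.PCHom.s7021 α hα N).2.1 H⟩
  · rintro ⟨n, α, hα, H⟩
    haveI : Algebra.FiniteType R A := Algebra.FiniteType.of_surjective α hα
    exact (Groth.Agent.Helper5.PCHom.s7021 α hα N).2.2 H

/-- **a quasi-coherent module in degree `0` is `(-1)`-pseudo-coherent relative to `f` iff it is
finitely presented relative to `f`** -/
theorem isPseudoCoherentRel_negOne_inD_iff (f : X ⟶ S) [LocallyOfFiniteType f] (M : X.Modules)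
    [M.IsQuasicoherent] :
    DerSch.IsPseudoCoherentRel f (-1) (DCoh.inD X M) ↔ Flatn.IsRelFP f M := by
  rw [isPseudoCoherentRel_iff_relPCAt f (DCoh.inD X M) (-1)
    (Groth.Agent.Lib.Helper5.RpushClassic.isQCohD_inD M),
    Groth.Agent.Helper3.RelFPS.S9742_main f M]
  refine forall₃_congr fun U V h => ?_
  rw [relPCAt_inD_iff f M (-1) U.2 (V : S.Opens) h]
  letI := (f.appLE (V : S.Opens) (U : X.Opens) h).hom.toAlgebra
  exact relpcModule_negOne_iff Γ(M, (U : X.Opens))

end Groth.Agent.Lib.Helper5.SingleMod
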