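import Mathlib
import Groth.Prelude.Def_DCoh3
import Groth.Prelude.Def_DerSch2
import Groth.Prelude.Def_Flatn
import Groth.Agent.Lib.Helper5.RelPC.SingleMod
import Groth.Agent.Lib.Helper5.RelPC.BCGeo
import Groth.Agent.Lib.Helper5.RelPC.FlatLfp
import Groth.Agent.Lib.Helper3.Brutal
import Groth.Agent.Lib.Lead.FO1

/-!
# Complexes whose terms are flat over the base and relatively finitely presented (helper5)
-/
set_option autoImplicit false
set_option linter.style.haveILetI false
universe u
open CategoryTheory CategoryTheory.Limits AlgebraicGeometry Opposite TopologicalSpace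

attribute [local instance] HasDerivedCategory.standard

namespace Groth.Agent.Lib.Helper5.FlatTerms

open Groth.Agent.Helper5.PCHom Groth.Agent.Helper5.PCRes Groth.Agent.Lib.Helper5.CPAtLib
  Groth.Agent.Helper3.PerfHom Groth.Agent.Lib.Helper5.AffComm Groth.Agent.Lib.Helper5.SingleMod

/-- a module over a finite type algebra, flat over the base and finitely presented over a polynomial
presentation, is relatively pseudo-coherent -/
theorem relpcModule_of_flat_fp {R A : Type u} [CommRing R] [CommRing A] [Algebra R A] {n : ℕ}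
    (α : MvPolynomial (Fin n) R →ₐ[R] A) (hα : Function.Surjective α)
    (N : Type u) [AddCommGroup N] [Module A N]
    (hfl : @Module.Flat R N _ _ (Module.compHom N (algebraMap R A)))
    (hfp : @Module.FinitePresentation (MvPolynomial (Fin n) R) N _ _
      (Module.compHom N α.toRingHom))
    (m : ℤ) : DerCA.IsRelPseudoCoherentModule R A m N := by
  unfold DerCA.IsRelPseudoCoherentModule
  rw [relpcModule_iff_via α hα m (ModuleCat.of A N)]
  letI mR : Module R N := Module.compHom N (algebraMap R A)
  letI mP : Module (MvPolynomial (Fin n) R) N := Module.compHom N α.toRingHom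
  haveI : IsScalarTower R (MvPolynomial (Fin n) R) N :=
    IsScalarTower.of_algebraMap_smul (fun r x => by
      change α (algebraMap R (MvPolynomial (Fin n) R) r) • x = algebraMap R A r • x
      rw [α.commutes])
  haveI : Module.Flat R N := hfl
  haveI : Module.FinitePresentation (MvPolynomial (Fin n) R) N := hfp
  obtain ⟨Res, hRes⟩ := Groth.Agent.Helper3.FinRes.S5929_main R (MvPolynomial (Fin n) R) N
  have h1 : DRing.IsPseudoCoherentModule' (MvPolynomial (Fin n) R) N := pc'_of_res N Res hRes
  exact (allPC_iff_pcModule' N).2 h1 m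

variable {X S : Scheme.{u}}

/-- **a quasi-coherent module, flat over the base and finitely presented relative to `f`, is
pseudo-coherent relative to `f`** -/
theorem isPseudoCoherentRel_inD_of_flat (f : X ⟶ S) [LocallyOfFiniteType f] (M : X.Modules)
    [M.IsQuasicoherent] (hfl : FlatMod.IsFlatOver f M) (hfp : Flatn.IsRelFP f M) (m : ℤ) :
    DerSch.IsPseudoCoherentRel f m (DCoh.inD X M) := by
  rw [isPseudoCoherentRel_iff_relPCAt f (DCoh.inD X M) m
    (Groth.Agent.Lib.Helper5.RpushClassic.isQCohD_inD M)]
  intro U V h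
  rw [relPCAt_inD_iff f M m U.2 (V : S.Opens) h]
  obtain ⟨n, α, hα, hfpα⟩ := (Groth.Agent.Helper3.RelFPS.S9742_main f M).1 hfp U V h
  have hflat := Groth.Agent.Lead.FO.flat_sectionsOver_of_isFlatOverAt f M U.2 V.2 h
    (fun z => hfl z.1)
  letI := (f.appLE (V : S.Opens) (U : X.Opens) h).hom.toAlgebra
  exact relpcModule_of_flat_fp α hα _ hflat hfpα m

open Groth.Agent.Lib.Helper5.BCGeo Groth.Agent.Lib.Helper5.PCBiprod ZeroObject

/-- an object whose cohomology vanishes in degrees `≥ m` is `m`-pseudo-coherent relative to `f` -/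
theorem isPseudoCoherentRel_of_isZero_HD (f : X ⟶ S) [LocallyOfFiniteType f] (E : DCoh.D X)
    (m : ℤ) (h : ∀ j : ℤ, m ≤ j → IsZero (DCoh.HD E j)) : DerSch.IsPseudoCoherentRel f m E :=
  (isPseudoCoherentRel_iff_isPC_of_bdd f E (m - 1) m (fun j hj => h j (by omega)) (by omega)).2
    (isPC_of_approx_self (approx_zero m E h))

/-- zero objects are pseudo-coherent relative to `f` -/
theorem isPseudoCoherentRel_of_isZero (f : X ⟶ S) [LocallyOfFiniteType f] (E : DCoh.D X)
    (hE : IsZero E) (m : ℤ) : DerSch.IsPseudoCoherentRel f m E :=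
  isPseudoCoherentRel_of_isZero_HD f E m (fun j _ => Functor.map_isZero _ hE)

/-- shifting by one -/
theorem isPseudoCoherentRel_shift_one_iff (f : X ⟶ S) [LocallyOfFiniteType f] (E : DCoh.D X)
    (m : ℤ) :
    DerSch.IsPseudoCoherentRel f m (E⟦(1 : ℤ)⟧) ↔ DerSch.IsPseudoCoherentRel f (m + 1) E := by
  have hT := Pretriangulated.rot_of_distTriang _ (Pretriangulated.contractible_distinguished E)
  have key := isPseudoCoherentRel_triangle f m _ hT
  have hz : IsZero (0 : DCoh.D X) := isZero_zero _
  constructor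
  · intro h
    exact key.2.2 (isPseudoCoherentRel_of_isZero f _ hz _) h
  · intro h
    exact key.1 h (isPseudoCoherentRel_of_isZero f _ hz _)

/-- moving a module from degree `i` to degree `i + 1` -/
theorem isPseudoCoherentRel_single_succ_iff (f : X ⟶ S) [LocallyOfFiniteType f] (M : X.Modules)
    (i m : ℤ) :
    DerSch.IsPseudoCoherentRel f (m + 1) ((DerivedCategory.singleFunctor X.Modules (i + 1)).obj M) ↔
      DerSch.IsPseudoCoherentRel f m ((DerivedCategory.singleFunctor X.Modules i).obj M) := by
  rw [← isPseudoCoherentRel_shift_one_iff]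
  have e : ((DerivedCategory.singleFunctor X.Modules (i + 1)).obj M)⟦(1 : ℤ)⟧ ≅
      (DerivedCategory.singleFunctor X.Modules i).obj M :=
    ((DerivedCategory.singleFunctors X.Modules).shiftIso 1 i (i + 1) (by omega)).app M
  exact ⟨isPseudoCoherentRel_of_iso f e m, isPseudoCoherentRel_of_iso f e.symm m⟩

/-- a module which is pseudo-coherent relative to `f` in degree `0` is so in every degree -/
theorem isPseudoCoherentRelAll_single (f : X ⟶ S) [LocallyOfFiniteType f] (M : X.Modules)
    (h : ∀ m : ℤ, DerSch.IsPseudoCoherentRel f m (DCoh.inD X M)) (i : ℤ) :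
    ∀ m : ℤ, DerSch.IsPseudoCoherentRel f m ((DerivedCategory.singleFunctor X.Modules i).obj M) := by
  induction i using Int.induction_on with
  | zero => exact h
  | succ i ih =>
    intro m
    have := (isPseudoCoherentRel_single_succ_iff f M (i : ℤ) (m - 1)).2 (ih (m - 1))
    rwa [show m - 1 + 1 = m by omega] at this
  | pred i ih =>
    intro m
    have := (isPseudoCoherentRel_single_succ_iff f M (-(i : ℤ) - 1) m).1
      (by rw [show -(i : ℤ) - 1 + 1 = -(i : ℤ) by omega]; exact ih (m + 1))
    exact this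

open Groth.Agent.Helper3.Brutal in
/-- **dévissage**: a bounded complex whose terms are pseudo-coherent relative to `f` is so -/
theorem isPseudoCoherentRelAll_of_terms_bdd (f : X ⟶ S) [LocallyOfFiniteType f]
    (E : CochainComplex X.Modules ℤ) (a b : ℤ) (hab : DCoh.VanishesOutside E a b)
    (h : ∀ (i m : ℤ), DerSch.IsPseudoCoherentRel f m (DCoh.inD X (E.X i))) :
    ∀ m : ℤ, DerSch.IsPseudoCoherentRel f m (DCoh.toD X E) := by
  refine devissage (C := X.Modules) (fun K => ∀ m : ℤ, DerSch.IsPseudoCoherentRel f m K)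
    (fun e hK m => isPseudoCoherentRel_of_iso f e m (hK m))
    (fun T hT h1 h3 m => (isPseudoCoherentRel_triangle f m T hT).2.1 (h1 m) (h3 m))
    (fun Z hZ m => isPseudoCoherentRel_of_isZero f Z hZ m)
    (b + 1 - a).toNat a E ?_ ?_
  · rintro i (hi | hi)
    · exact hab i (Or.inl hi)
    · exact hab i (Or.inr (by omega))
  · intro i _ _
    exact isPseudoCoherentRelAll_single f (E.X i) (h i) i

/-- cohomology vanishes where the term does -/
theorem isZero_HD_toD_of_isZero_X (E : CochainComplex X.Modules ℤ) (j : ℤ) (h : IsZero (E.X j)) :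
    IsZero (DCoh.HD (DCoh.toD X E) j) := by
  refine IsZero.of_iso ?_ ((DerivedCategory.homologyFunctorFactors X.Modules j).app E)
  exact (HomologicalComplex.exactAt_iff_isZero_homology _ _).1
    (HomologicalComplex.ExactAt.of_isZero h)

open Groth.Agent.Helper3.Brutal in
/-- **a bounded above complex whose terms are pseudo-coherent relative to `f` is so** -/
theorem isPseudoCoherentRelAll_of_terms_bddAbove (f : X ⟶ S) [LocallyOfFiniteType f]
    (E : CochainComplex X.Modules ℤ) (b : ℤ) (hb : ∀ i : ℤ, b < i → IsZero (E.X i))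
    (h : ∀ (i m : ℤ), DerSch.IsPseudoCoherentRel f m (DCoh.inD X (E.X i))) :
    ∀ m : ℤ, DerSch.IsPseudoCoherentRel f m (DCoh.toD X E) := by
  intro m
  have hT := DerivedCategory.triangleOfSES_distinguished (sc_shortExact E m)
  refine (isPseudoCoherentRel_triangle f m _ hT).2.1 ?_ ?_
  · change DerSch.IsPseudoCoherentRel f m (DCoh.toD X (sigmaGE E m))
    refine isPseudoCoherentRelAll_of_terms_bdd f (sigmaGE E m) m b ?_ ?_ m
    · rintro i (hi | hi)
      · exact isZero_sigmaGE_X E hi
      · by_cases hmi : m ≤ i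
        · have := isIso_ι_f E hmi
          exact (hb i hi).of_iso (asIso ((ι E m).f i))
        · exact isZero_sigmaGE_X E (by omega)
    · intro i m'
      by_cases hmi : m ≤ i
      · have := isIso_ι_f E hmi
        exact isPseudoCoherentRel_of_iso f
          ((DerivedCategory.singleFunctor X.Modules 0).mapIso (asIso ((ι E m).f i)).symm) m'
          (h i m')
      · exact isPseudoCoherentRel_of_isZero f _
          (Functor.map_isZero _ (isZero_sigmaGE_X E (by omega))) m'
  · change DerSch.IsPseudoCoherentRel f m (DCoh.toD X (sigmaLT E m))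
    exact isPseudoCoherentRel_of_isZero_HD f _ m
      (fun j hj => isZero_HD_toD_of_isZero_X _ j (isZero_sigmaLT_X E hj))

/-- a module in degree `0`, as a complex and as an object -/
noncomputable def toDSingleIso (M : X.Modules) :
    DCoh.toD X ((HomologicalComplex.single _ (ComplexShape.up ℤ) 0).obj M) ≅ DCoh.inD X M :=
  ((DerivedCategory.singleFunctorIsoCompQ X.Modules 0).app M).symm

/-- relative `(-1)`-pseudo-coherence of a module in degree `0` -/
theorem isPseudoCoherentRel_negOne_inD_iff' (f : X ⟶ S) [LocallyOfFiniteType f] (M : X.Modules) :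
    DerSch.IsPseudoCoherentRel f (-1) (DCoh.inD X M) ↔ (Coh.IsQCoh M ∧ Flatn.IsRelFP f M) := by
  constructor
  · intro H
    have hq : Coh.IsQCoh M := by
      have h0 := Groth.Agent.Lib.Helper5.RelPCQC.isQCoh_HD_of_isPseudoCoherentRel f (-1)
        (DCoh.inD X M) H 0 (by norm_num)
      exact (SheafOfModules.isQuasicoherent X.ringCatSheaf).prop_of_iso
        (Groth.Agent.Lib.Helper5.PCSingle.hdInDIso M) h0
    haveI : M.IsQuasicoherent := hq
    exact ⟨hq, (isPseudoCoherentRel_negOne_inD_iff f M).1 H⟩
  · rintro ⟨hq, H⟩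
    haveI : M.IsQuasicoherent := hq
    exact (isPseudoCoherentRel_negOne_inD_iff f M).2 H

/-- a module flat over the base and `(-1)`-pseudo-coherent relative to `f` is pseudo-coherent
relative to `f` -/
theorem isPseudoCoherentRelAll_inD_of_flat (f : X ⟶ S) [LocallyOfFiniteType f] (M : X.Modules)
    (hfl : FlatMod.IsFlatOver f M) (hfp : DerSch.IsPseudoCoherentRel f (-1) (DCoh.inD X M))
    (m : ℤ) : DerSch.IsPseudoCoherentRel f m (DCoh.inD X M) := by
  obtain ⟨hq, hrel⟩ := (isPseudoCoherentRel_negOne_inD_iff' f M).1 hfp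
  haveI : M.IsQuasicoherent := hq
  exact isPseudoCoherentRel_inD_of_flat f M hfl hrel m

/-- **S6215**, library form -/
theorem isPseudoCoherentRelAll_of_flat_terms (f : X ⟶ S) [LocallyOfFiniteType f]
    (E : CochainComplex X.Modules ℤ) (b : ℤ) (hb : ∀ i : ℤ, b < i → IsZero (E.X i))
    (hfl : ∀ i : ℤ, FlatMod.IsFlatOver f (E.X i))
    (hfp : ∀ i : ℤ, DerSch.IsPseudoCoherentRel f (-1)
      (DCoh.toD X ((HomologicalComplex.single _ (ComplexShape.up ℤ) 0).obj (E.X i)))) :
    DerSch.IsPseudoCoherentRelAll f (DCoh.toD X E) :=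
  isPseudoCoherentRelAll_of_terms_bddAbove f E b hb (fun i m =>
    isPseudoCoherentRelAll_inD_of_flat f (E.X i) (hfl i)
      (isPseudoCoherentRel_of_iso f (toDSingleIso (E.X i)) (-1) (hfp i)) m)

/-- the complex of stalks of a bounded complex with terms flat over the base -/
theorem hasTorAmplitude_of_flat_terms (f : X ⟶ S) (E : CochainComplex X.Modules ℤ) (a b : ℤ)
    (hab : DCoh.VanishesOutside E a b) (hfl : ∀ i : ℤ, FlatMod.IsFlatOver f (E.X i)) :
    DerSch.HasTorAmplitude f a b E := by
  intro x
  refine ⟨(DerSch.stalkCxOver f x).obj E, fun i hi => ?_, fun i => ?_, ⟨Iso.refl _⟩⟩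
  · exact Functor.map_isZero (DerSch.stalkOver f x) (hab i hi)
  · exact hfl i x

end Groth.Agent.Lib.Helper5.FlatTerms
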