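import Mathlib
import Groth.Prelude.Def_DCoh3
import Groth.Prelude.Def_DerSch2
import Groth.Agent.Lib.Helper5.RelPC.FlatTerms
import Groth.Agent.Lib.Helper5.TorAmp.Char

/-!
# Tor amplitude `[0, 0]` of a module in degree `0` is flatness over the base (helper5)
-/
set_option autoImplicit false
set_option linter.style.haveILetI false
universe u
open CategoryTheory CategoryTheory.Limits AlgebraicGeometry Opposite TopologicalSpace

attribute [local instance] HasDerivedCategory.standard

namespace Groth.Agent.Lib.Helper5.FlatSingle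

open Groth.Agent.Helper5.TorAmp

/-- a module whose image in the derived category has tor amplitude in `[0, 0]` is flat -/
theorem flat_of_hasTorAmplitudeIn_zero {R : Type u} [CommRing R] (N : ModuleCat.{u} R)
    (h : DRing.HasTorAmplitudeIn R 0 0
      ((DerivedCategory.singleFunctor (ModuleCat.{u} R) 0).obj N)) : Module.Flat R N := by
  obtain ⟨E, hE, hfl, ⟨e⟩⟩ := h
  obtain ⟨e1⟩ := Groth.Agent.Helper3.Brutal.exists_iso_single_X E 0
    (fun i hi => hE i (by omega))
  let I : (DerivedCategory.singleFunctor (ModuleCat.{u} R) 0).obj (E.X 0) ≅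
      (DerivedCategory.singleFunctor (ModuleCat.{u} R) 0).obj N :=
    (DerivedCategory.singleFunctorIsoCompQ (ModuleCat.{u} R) 0).app (E.X 0) ≪≫
      DerivedCategory.Q.mapIso e1.symm ≪≫ e
  let J : E.X 0 ≅ N :=
    ((DerivedCategory.singleFunctorCompHomologyFunctorIso (ModuleCat.{u} R) 0).app (E.X 0)).symm ≪≫
      (DerivedCategory.homologyFunctor (ModuleCat.{u} R) 0).mapIso I ≪≫
      (DerivedCategory.singleFunctorCompHomologyFunctorIso (ModuleCat.{u} R) 0).app N
  haveI : Module.Flat R (E.X 0) := hfl 0
  exact Module.Flat.of_linearEquiv J.symm.toLinearEquiv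

variable {X S : Scheme.{u}}

/-- tor amplitude `[0, 0]` of a module in degree `0` gives flatness over the base -/
theorem isFlatOver_of_hasTorAmplitude_single (f : X ⟶ S) (M : X.Modules)
    (h : DerSch.HasTorAmplitude f 0 0 ((HomologicalComplex.single _ (ComplexShape.up ℤ) 0).obj M)) :
    FlatMod.IsFlatOver f M := by
  intro x
  have e1 := (HomologicalComplex.singleMapHomologicalComplex (DerSch.stalkOver f x)
    (ComplexShape.up ℤ) 0).app M
  have h2 : DRing.HasTorAmplitudeIn (S.presheaf.stalk (f.base x)) 0 0
      ((DerivedCategory.singleFunctor _ 0).obj ((DerSch.stalkOver f x).obj M)) :=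
    hasTorAmplitudeIn_of_iso (DerivedCategory.Q.mapIso e1 ≪≫
      ((DerivedCategory.singleFunctorIsoCompQ _ 0).app _).symm) (h x)
  exact flat_of_hasTorAmplitudeIn_zero _ h2

/-- flatness over the base is invariant under isomorphism -/
theorem isFlatOver_of_iso (f : X ⟶ S) {M N : X.Modules} (e : M ≅ N)
    (h : FlatMod.IsFlatOver f M) : FlatMod.IsFlatOver f N := by
  intro x
  have h1 : Module.Flat (S.presheaf.stalk (f.base x)) ((DerSch.stalkOver f x).obj M) := h x
  have : Module.Flat (S.presheaf.stalk (f.base x)) ((DerSch.stalkOver f x).obj N) :=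
    Module.Flat.of_linearEquiv ((DerSch.stalkOver f x).mapIso e).symm.toLinearEquiv
  exact this

/-- zero modules are flat over the base -/
theorem isFlatOver_of_isZero (f : X ⟶ S) {M : X.Modules} (hM : IsZero M) :
    FlatMod.IsFlatOver f M := by
  intro x
  have h0 : IsZero ((DerSch.stalkOver f x).obj M) := Functor.map_isZero _ hM
  haveI := ModuleCat.subsingleton_of_isZero h0
  have : Module.Flat (S.presheaf.stalk (f.base x)) ((DerSch.stalkOver f x).obj M) :=
    inferInstance
  exact this

end Groth.Agent.Lib.Helper5.FlatSingle
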