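import Mathlib
import Groth.Agent.Lib.Helper5.RelPC.BCGeo

/-!
# fppf-local nature of relative pseudo-coherence on the base (helper5)
-/
set_option autoImplicit false
set_option linter.style.haveILetI false
universe u
open CategoryTheory CategoryTheory.Limits AlgebraicGeometry Opposite TopologicalSpace

attribute [local instance] HasDerivedCategory.standard

namespace Groth.Agent.Lib.Helper5.BCGeo

open Groth.Agent.Lib.Helper5.AffComm Groth.Agent.Lib.Helper5.CPAtLib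
  Groth.Agent.Lib.Helper5.LpullLib Groth.Agent.Lib.Helper5.QC Groth.Agent.Lib.Helper5.FpqcPC
  Groth.Agent.Lib.Helper5.StalkAdj

/-- a flat morphism mapping an affine open onto an affine open gives a faithfully flat ring map -/
theorem faithfullyFlat_appLE_of_surjOn {S' S : Scheme.{u}} (g : S' ⟶ S) [Flat g] {W : S.Opens}
    (hW : IsAffineOpen W) {V'' : S'.Opens} (hV'' : IsAffineOpen V'') (e : V'' ≤ g ⁻¹ᵁ W)
    (hsurj : ∀ p ∈ W, ∃ q ∈ V'', g q = p) : (g.appLE W V'' e).hom.FaithfullyFlat := by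
  rw [← flat_and_surjective_SpecMap_iff]
  refine ⟨Flat.SpecMap_iff.2 (Flat.flat_appLE g hW hV'' e), ⟨fun p => ?_⟩⟩
  have h1 := IsAffineOpen.SpecMap_appLE_fromSpec g hW hV'' e
  have hp : hW.fromSpec p ∈ W := by
    have : hW.fromSpec p ∈ Set.range hW.fromSpec := ⟨p, rfl⟩
    rwa [hW.range_fromSpec] at this
  obtain ⟨q, hq, hgq⟩ := hsurj _ hp
  have : q ∈ Set.range hV''.fromSpec := by
    rw [hV''.range_fromSpec]
    exact hq
  obtain ⟨q', rfl⟩ := this
  refine ⟨q', hW.fromSpec.isOpenEmbedding.injective ?_⟩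
  rw [← Scheme.Hom.comp_apply, h1, Scheme.Hom.comp_apply, hgq]

/-- **fppf descent of relative pseudo-coherence along a jointly surjective family** -/
theorem isPseudoCoherentRel_of_fppf_family {X S : Scheme.{u}} (f : X ⟶ S) [LocallyOfFiniteType f]
    {ι : Type u} (Si : ι → Scheme.{u}) (h : ∀ i, Si i ⟶ S) [∀ i, Flat (h i)]
    [∀ i, LocallyOfFinitePresentation (h i)]
    (hcov : ∀ s : S, ∃ (i : ι) (t : Si i), (h i).base t = s)
    [∀ i, DCoh.HasLpull (pullback.fst f (h i))] (m : ℤ) (E : DCoh.D X) (hE : DCoh.IsQCohD E)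
    (H : ∀ i, DerSch.IsPseudoCoherentRel (pullback.snd f (h i)) m
      ((DCoh.Lpull (pullback.fst f (h i))).obj E)) : DerSch.IsPseudoCoherentRel f m E := by
  apply isPseudoCoherentRel_of_pointwise
  intro x
  obtain ⟨i, t, ht⟩ := hcov (f x)
  obtain ⟨V, hV, hxV, -⟩ := Opens.isBasis_iff_nbhd.mp S.isBasis_affineOpens
    (Opens.mem_top (f x))
  have htV : t ∈ (h i) ⁻¹ᵁ V := by
    show (h i) t ∈ V
    rw [show (h i) t = f x from ht]
    exact hxV
  obtain ⟨V', hV', htV', eV'V⟩ := Opens.isBasis_iff_nbhd.mp (Si i).isBasis_affineOpens htV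
  have hopen : IsOpen ((h i) '' (V' : Set (Si i))) := (h i).isOpenMap _ V'.isOpen
  let O : S.Opens := ⟨(h i) '' (V' : Set (Si i)), hopen⟩
  have hsO : f x ∈ O := ⟨t, htV', ht⟩
  obtain ⟨r, hrO, hxr⟩ := hV.exists_basicOpen_le (V := O) ⟨f x, hsO⟩ hxV
  have hW : IsAffineOpen (S.basicOpen r) := hV.basicOpen r
  let r' : Γ(Si i, V') := ((h i).appLE V V' eV'V).hom r
  have hV'' : IsAffineOpen ((Si i).basicOpen r') := hV'.basicOpen r'
  have hV''eq : (Si i).basicOpen r' = V' ⊓ (h i) ⁻¹ᵁ (S.basicOpen r) :=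
    Scheme.basicOpen_appLE (h i) V' V eV'V r
  have eV''W : (Si i).basicOpen r' ≤ (h i) ⁻¹ᵁ (S.basicOpen r) := by
    rw [hV''eq]
    exact inf_le_right
  obtain ⟨U, hU, hxU, eUW⟩ := Opens.isBasis_iff_nbhd.mp X.isBasis_affineOpens
    (show x ∈ f ⁻¹ᵁ (S.basicOpen r) from hxr)
  have hc := IsPullback.of_hasPullback f (h i)
  obtain ⟨hU'', hpo⟩ := Groth.Agent.Helper3.RelFPS.affine_pushout_chart hc hW hU hV'' eUW eV''W
  have hE' : DCoh.IsQCohD ((DCoh.Lpull (pullback.fst f (h i))).obj E) := isQCohD_Lpull _ E hE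
  haveI : LocallyOfFiniteType (pullback.snd f (h i)) := MorphismProperty.of_isPullback hc inferInstance
  have H1 := relPCAt_of_isPseudoCoherentRel (pullback.snd f (h i)) _ m hE' (H i) ⟨_, hU''⟩
    ⟨_, hV''⟩ inf_le_right
  have hff : ((h i).appLE (S.basicOpen r) ((Si i).basicOpen r') eV''W).hom.FaithfullyFlat := by
    apply faithfullyFlat_appLE_of_surjOn (h i) hW hV'' eV''W
    intro p hp
    obtain ⟨q, hqV', rfl⟩ := hrO hp
    refine ⟨q, ?_, rfl⟩
    rw [hV''eq]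
    exact ⟨hqV', hp⟩
  have hft : (f.appLE (S.basicOpen r) U eUW).hom.FiniteType :=
    HasRingHomProperty.appLE @LocallyOfFiniteType f inferInstance ⟨_, hW⟩ ⟨U, hU⟩ eUW
  refine ⟨⟨U, hU⟩, ⟨_, hW⟩, eUW, hxU, ?_⟩
  rw [cpAt_iff_relPCAt f E m hE ⟨U, hU⟩ ⟨_, hW⟩ eUW]
  exact relPCAt_descent E m hU hU'' eUW eV''W inf_le_right inf_le_left hpo hff hft H1

end Groth.Agent.Lib.Helper5.BCGeo
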