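import Mathlib
import Groth.Agent.Lib.Helper5.FinPC.FinPush
import Groth.Agent.Lib.Helper5.RelPC.BCGeo
import Groth.Agent.S6984

/-!
# Relative pseudo-coherence and `Rπ_*` for a finite morphism (helper5)
-/
set_option autoImplicit false
set_option linter.style.haveILetI false
universe u
open CategoryTheory CategoryTheory.Limits AlgebraicGeometry Opposite TopologicalSpace

attribute [local instance] HasDerivedCategory.standard

namespace Groth.Agent.Lib.Helper5.FinPushRel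

open Groth.Agent.Lib.Helper5.PerfTri Groth.Agent.Lib.Helper5.PCApprox
  Groth.Agent.Lib.Helper5.PCBiprod Groth.Agent.Lib.Helper5.PCTri
  Groth.Agent.Lib.Helper5.IsoSq Groth.Agent.Lib.Helper5.RpushRes
  Groth.Agent.Helper3.KInjDer Groth.Agent.Lib.Helper5.QC Groth.Agent.Lib.Helper5.TildePC
  Groth.Agent.Lib.Helper5.PerfIff Groth.Agent.Helper1 Groth.Agent.Lib.Helper5.AffComm
  Groth.Agent.Lib.Helper5.CPAtLib Groth.Agent.Lib.Helper5.BCGeo

section affine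
variable {X Y : Scheme.{u}} (π : X ⟶ Y) [IsAffineHom π]

/-- the square of `isoSpec`s over an affine open and its preimage -/
theorem isoSpec_sq {W : Y.Opens} (hW : IsAffineOpen W) :
    (hW.preimage π).isoSpec.hom ≫ Spec.map (π.app W) = (π ∣_ W) ≫ hW.isoSpec.hom := by
  have h1 : Spec.map (π.app W) ≫ hW.isoSpec.inv = (hW.preimage π).isoSpec.inv ≫ (π ∣_ W) := by
    rw [← cancel_mono W.ι, Category.assoc, Category.assoc, morphismRestrict_ι]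
    have := IsAffineOpen.SpecMap_appLE_fromSpec π hW (hW.preimage π) le_rfl
    rw [Scheme.Hom.appLE_eq_app] at this
    exact this
  rw [← cancel_mono hW.isoSpec.inv, Category.assoc, h1, Iso.hom_inv_id_assoc, Category.assoc,
    Iso.hom_inv_id, Category.comp_id]

variable [DCoh.HasRpush π] (E : DCoh.D X)

/-- the restriction of `Rπ_* E` to an affine open, as a tilde of a restriction of scalars -/
theorem nonempty_tilde_rpush {W : Y.Opens} (hW : IsAffineOpen W) (M : Dual.D Γ(X, π ⁻¹ᵁ W))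
    (eM : (DCoh.tildeD Γ(X, π ⁻¹ᵁ W)).obj M ≅ resSpec E (hW.preimage π)) :
    Nonempty ((DCoh.tildeD Γ(Y, W)).obj ((DRing.restrictD (π.app W).hom).obj M) ≅
      resSpec ((DCoh.Rpush π).obj E) hW) := by
  haveI : IsAffine ((π ⁻¹ᵁ W : X.Opens) : Scheme.{u}) := hW.preimage π
  haveI : IsAffine (W : Scheme.{u}) := hW
  haveI : DCoh.HasRpush (π ∣_ W) := hasRightDerivedFunctor (DCoh.pushKh (π ∣_ W))
  haveI : DCoh.HasRpush (Spec.map (π.app W)) := hasRightDerivedFunctor (DCoh.pushKh _)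
  obtain ⟨e1⟩ := nonempty_restrictD_rpush_sq (hW.preimage π).isoSpec hW.isoSpec (π ∣_ W)
    (Spec.map (π.app W)) (isoSpec_sq π hW) ((DCoh.restrictD (π ⁻¹ᵁ W).ι).obj E)
  exact ⟨((tildeRpushIso (π.app W)).app M).symm ≪≫
    (DCoh.Rpush (Spec.map (π.app W))).mapIso
      (eM ≪≫ restrictDCompObjIso (hW.preimage π).isoSpec.inv (π ⁻¹ᵁ W).ι E) ≪≫ e1.symm ≪≫
    (DCoh.restrictD hW.isoSpec.inv).mapIso ((rpushRestrictIso π W).app E).symm ≪≫
    (restrictDCompObjIso hW.isoSpec.inv W.ι _).symm⟩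

end affine

section pair
variable {X Y S : Scheme.{u}} (π : X ⟶ Y) [IsFinite π] [DCoh.HasRpush π] (E : DCoh.D X)
  (q : Y ⟶ S) (m : ℤ)

/-- the algebraic tests for `E` over `π ≫ q` and for `Rπ_* E` over `q` agree -/
theorem relPCAt_rpush_iff [LocallyOfFiniteType q] [LocallyOfFiniteType (π ≫ q)]
    (hE : DCoh.IsQCohD E) {W : Y.Opens} (hW : IsAffineOpen W)
    {V : S.Opens} (hV : IsAffineOpen V) (hWV : W ≤ q ⁻¹ᵁ V) (hUV : π ⁻¹ᵁ W ≤ (π ≫ q) ⁻¹ᵁ V) :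
    RelPCAt (π ≫ q) E m (hW.preimage π) V hUV ↔ RelPCAt q ((DCoh.Rpush π).obj E) m hW V hWV := by
  letI i1 : Algebra Γ(S, V) Γ(Y, W) := (q.appLE V W hWV).hom.toAlgebra
  letI i2 : Algebra Γ(Y, W) Γ(X, π ⁻¹ᵁ W) := (π.app W).hom.toAlgebra
  letI i3 : Algebra Γ(S, V) Γ(X, π ⁻¹ᵁ W) := ((π ≫ q).appLE V (π ⁻¹ᵁ W) hUV).hom.toAlgebra
  haveI : IsScalarTower Γ(S, V) Γ(Y, W) Γ(X, π ⁻¹ᵁ W) := .of_algebraMap_eq (fun r => by
    have h1 := Scheme.Hom.appLE_comp_appLE π q V W (π ⁻¹ᵁ W) hWV le_rfl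
    rw [Scheme.Hom.appLE_eq_app] at h1
    exact (congrArg (fun k => k.hom r) h1).symm)
  haveI : Algebra.FiniteType Γ(S, V) Γ(Y, W) :=
    HasRingHomProperty.appLE @LocallyOfFiniteType q inferInstance ⟨V, hV⟩ ⟨W, hW⟩ hWV
  haveI : Algebra.FiniteType Γ(S, V) Γ(X, π ⁻¹ᵁ W) :=
    HasRingHomProperty.appLE @LocallyOfFiniteType (π ≫ q) inferInstance ⟨V, hV⟩
      ⟨π ⁻¹ᵁ W, hW.preimage π⟩ hUV
  haveI : Module.Finite Γ(Y, W) Γ(X, π ⁻¹ᵁ W) := IsFinite.finite_app π W hW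
  constructor
  · intro Hp M' ⟨eM'⟩
    obtain ⟨M, ⟨eM⟩⟩ := exists_tilde E hE (hW.preimage π)
    obtain ⟨e1⟩ := nonempty_tilde_rpush π E hW M eM
    obtain ⟨i⟩ := nonempty_iso_of_tildeD _ (e1 ≪≫ eM'.symm)
    exact relpc_of_iso i ((Groth.Agent.S6984.result (R := Γ(S, V)) (A := Γ(Y, W))
      (B := Γ(X, π ⁻¹ᵁ W)) M m).1.1 (Hp M ⟨eM⟩))
  · intro Hq M ⟨eM⟩
    obtain ⟨e1⟩ := nonempty_tilde_rpush π E hW M eM
    exact (Groth.Agent.S6984.result (R := Γ(S, V)) (A := Γ(Y, W))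
      (B := Γ(X, π ⁻¹ᵁ W)) M m).1.2 (Hq _ ⟨e1⟩)

/-- **S7210**: relative pseudo-coherence and `Rπ_*` for a finite morphism -/
theorem isPseudoCoherentRel_rpush_iff [LocallyOfFiniteType q] [LocallyOfFiniteType (π ≫ q)]
    (hE : DCoh.IsQCohD E) :
    DerSch.IsPseudoCoherentRel (π ≫ q) m E ↔
      DerSch.IsPseudoCoherentRel q m ((DCoh.Rpush π).obj E) := by
  have hE' : DCoh.IsQCohD ((DCoh.Rpush π).obj E) := isQCohD_rpush π E hE
  constructor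
  · intro h
    rw [isPseudoCoherentRel_iff_relPCAt q _ m hE']
    intro W V hWV
    have hUV : π ⁻¹ᵁ (W : Y.Opens) ≤ (π ≫ q) ⁻¹ᵁ (V : S.Opens) := fun x hx => hWV hx
    exact (relPCAt_rpush_iff π E q m hE W.2 V.2 hWV hUV).1
      (relPCAt_of_isPseudoCoherentRel (π ≫ q) E m hE h ⟨_, W.2.preimage π⟩ V hUV)
  · intro h
    apply isPseudoCoherentRel_of_pointwise
    intro x
    obtain ⟨V, hV, hxV, -⟩ := Opens.isBasis_iff_nbhd.mp S.isBasis_affineOpens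
      (Opens.mem_top (q (π x)))
    obtain ⟨W, hW, hxW, hWV⟩ := Opens.isBasis_iff_nbhd.mp Y.isBasis_affineOpens
      (show π x ∈ q ⁻¹ᵁ V from hxV)
    have hUV : π ⁻¹ᵁ W ≤ (π ≫ q) ⁻¹ᵁ V := fun x hx => hWV hx
    refine ⟨⟨_, hW.preimage π⟩, ⟨V, hV⟩, hUV, hxW, ?_⟩
    rw [cpAt_iff_relPCAt (π ≫ q) E m hE ⟨_, hW.preimage π⟩ ⟨V, hV⟩ hUV]
    exact (relPCAt_rpush_iff π E q m hE hW hV hWV hUV).2
      (relPCAt_of_isPseudoCoherentRel q _ m hE' h ⟨W, hW⟩ ⟨V, hV⟩ hWV)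

end pair

end Groth.Agent.Lib.Helper5.FinPushRel
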