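import Mathlib
import Groth.Agent.Lib.Helper5.RelPC.FinPushRel
import Groth.Agent.Lib.Helper5.RelPC.FlatLfp
import Groth.Agent.Lib.Helper5.RelPC.CPAt5

/-!
# Relative pseudo-coherence and direct image along a closed immersion (helper5)
-/
set_option autoImplicit false
set_option linter.style.haveILetI false
universe u
open CategoryTheory CategoryTheory.Limits AlgebraicGeometry Opposite TopologicalSpace

attribute [local instance] HasDerivedCategory.standard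

namespace Groth.Agent.Lib.Helper5.ClImmRel

open Groth.Agent.Lib.Helper5.CPAtLib Groth.Agent.Lib.Helper5.FinPush Groth.Agent.Lib.Helper5.CPMoves
  Groth.Agent.Lib.Helper5.RpushRes Groth.Agent.Lib.Helper5.FinPushRel

variable {X P S : Scheme.{u}} (i : X ⟶ P) [IsClosedImmersion i]

/-- the chart of `i ≫ g` induced by a chart of `g` -/
theorem chartImm_comp_closed {W : P.Opens} (hW : IsAffineOpen W) {R : Type u} [CommRing R] {n : ℕ}
    (ψ : MvPolynomial (Fin n) R →+* Γ(P, W)) :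
    DerSch.chartImm (i ⁻¹ᵁ W) ((i.app W).hom.comp ψ) = (i ∣_ W) ≫ DerSch.chartImm W ψ := by
  have h1 := isoSpec_sq i hW
  rw [IsAffineOpen.isoSpec_hom, IsAffineOpen.isoSpec_hom] at h1
  unfold DerSch.chartImm
  have h2 : CommRingCat.ofHom ((i.app W).hom.comp ψ) = CommRingCat.ofHom ψ ≫ i.app W := rfl
  rw [h2, Spec.map_comp, ← Category.assoc, h1, Category.assoc]

/-- the chart tests for `F` and for `i_* F` agree -/
theorem cp_pair_iff (F : CochainComplex X.Modules ℤ) {W : P.Opens} (hW : IsAffineOpen W)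
    {R : Type u} [CommRing R] {n : ℕ} (ψ : MvPolynomial (Fin n) R →+* Γ(P, W)) (m : ℤ) :
    CP m ((DCoh.restrictCx (i ⁻¹ᵁ W)).obj F) (DerSch.chartImm (i ⁻¹ᵁ W) ((i.app W).hom.comp ψ)) ↔
      CP m ((DCoh.restrictCx W).obj ((DerSch.pushCx i).obj F)) (DerSch.chartImm W ψ) := by
  rw [cp_congr_hom _ (chartImm_comp_closed i hW ψ)]
  refine isPC_iff_of_iso (DerivedCategory.Q.mapIso ?_)
  exact (NatIso.mapHomologicalComplex (Scheme.Modules.pushforwardComp (i ∣_ W)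
      (DerSch.chartImm W ψ)) (ComplexShape.up ℤ)).symm.app _ ≪≫
    (DerSch.pushCx (DerSch.chartImm W ψ)).mapIso
      ((NatIso.mapHomologicalComplex (pushRestrictIso i W) (ComplexShape.up ℤ)).app F).symm

variable (g : P ⟶ S) [LocallyOfFiniteType g]

omit [LocallyOfFiniteType g] in
/-- the chart of `i ≫ g` induced by a chart of `g` is a chart -/
theorem isChart_comp_closed {W : P.Opens} (hW : IsAffineOpen W) {V : S.Opens} (hWV : W ≤ g ⁻¹ᵁ V)
    (hUV : i ⁻¹ᵁ W ≤ (i ≫ g) ⁻¹ᵁ V) {n : ℕ} (ψ : MvPolynomial (Fin n) Γ(S, V) →+* Γ(P, W))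
    (hψ : DerSch.IsChart g W V hWV ψ) :
    DerSch.IsChart (i ≫ g) (i ⁻¹ᵁ W) V hUV ((i.app W).hom.comp ψ) := by
  refine ⟨(i.app_surjective W hW).comp hψ.1, ?_⟩
  rw [RingHom.comp_assoc, hψ.2]
  have h1 := Scheme.Hom.appLE_comp_appLE i g V W (i ⁻¹ᵁ W) hWV le_rfl
  rw [Scheme.Hom.appLE_eq_app] at h1
  exact congrArg (fun k => k.hom) h1

/-- **relative pseudo-coherence and direct image along a closed immersion** -/
theorem isPseudoCoherentRel_closed_comp_iff (m : ℤ) (F : CochainComplex X.Modules ℤ) :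
    DerSch.IsPseudoCoherentRel (i ≫ g) m (DCoh.toD X F) ↔
      DerSch.IsPseudoCoherentRel g m (DCoh.toD P ((DerSch.pushCx i).obj F)) := by
  constructor
  · intro hrel
    rw [isPseudoCoherentRel_iff_cpAt]
    intro W V hWV
    obtain ⟨n, ψ, hψ⟩ := exists_isChart g W V hWV
    have hUV : i ⁻¹ᵁ (W : P.Opens) ≤ (i ≫ g) ⁻¹ᵁ (V : S.Opens) := fun x hx => hWV hx
    have hφ := isChart_comp_closed i g W.2 hWV hUV ψ hψ
    have hU : IsAffineOpen (i ⁻¹ᵁ (W : P.Opens)) := W.2.preimage i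
    have H := cpAt_of_isPseudoCoherentRel (i ≫ g) (DCoh.toD X F) m hrel ⟨_, hU⟩ V hUV
    have h1 := chartPC_of_cpAt H _ hφ
    have h2 := (chartPC_iff_cp hU _ hφ.1 F m).1 h1
    have h3 := (cp_pair_iff i F W.2 ψ m).1 h2
    exact ⟨n, ψ, hψ, (chartPC_iff_cp W.2 ψ hψ.1 _ m).2 h3⟩
  · intro hrel
    apply isPseudoCoherentRel_of_pointwise
    intro x
    obtain ⟨V, hV, hxV, -⟩ := Opens.isBasis_iff_nbhd.mp S.isBasis_affineOpens
      (Opens.mem_top (g (i x)))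
    obtain ⟨W, hW, hxW, hWV⟩ := Opens.isBasis_iff_nbhd.mp P.isBasis_affineOpens
      (show i x ∈ g ⁻¹ᵁ V from hxV)
    have hUV : i ⁻¹ᵁ W ≤ (i ≫ g) ⁻¹ᵁ V := fun x hx => hWV hx
    have hU : IsAffineOpen (i ⁻¹ᵁ W) := hW.preimage i
    obtain ⟨n, ψ, hψ⟩ := exists_isChart g ⟨W, hW⟩ ⟨V, hV⟩ hWV
    have hφ := isChart_comp_closed i g hW hWV hUV ψ hψ
    have H := cpAt_of_isPseudoCoherentRel g _ m hrel ⟨W, hW⟩ ⟨V, hV⟩ hWV
    have h1 := chartPC_of_cpAt H ψ hψ
    have h2 := (chartPC_iff_cp hW ψ hψ.1 _ m).1 h1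
    have h3 := (cp_pair_iff i F hW ψ m).2 h2
    exact ⟨⟨_, hU⟩, ⟨V, hV⟩, hUV, hxW, ⟨n, _, hφ, (chartPC_iff_cp hU _ hφ.1 F m).2 h3⟩⟩

/-- over a pseudo-coherent base morphism: the absolute test on the direct image -/
theorem isPseudoCoherentRel_closed_comp_iff_isPC (hg : ∀ n : ℤ, DerSch.IsNPseudoCoherent g n)
    (m : ℤ) (F : CochainComplex X.Modules ℤ) :
    DerSch.IsPseudoCoherentRel (i ≫ g) m (DCoh.toD X F) ↔
      DCoh.IsPseudoCoherentD m (DCoh.toD P ((DerSch.pushCx i).obj F)) :=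
  (isPseudoCoherentRel_closed_comp_iff i g m F).trans (isPC_iff_rel_of_isNPC g hg m _).symm

end Groth.Agent.Lib.Helper5.ClImmRel
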