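import Mathlib
import Groth.Prelude.Def_DerCA
import Groth.Prelude.Def_MoreMor
import Groth.Agent.Lib.Helper5.DRing.RelPCTorBC
import Groth.Agent.Lib.Helper5.Gen.LTModel
import Groth.Agent.Lib.Helper3.PerfHom4

/-!
# Base change of pseudo-coherent ring maps between flat algebras (helper5)

`R₀ → R → A` with `R` and `A` flat over `R₀`; base change along an arbitrary `R₀ → R₀'`.
-/

set_option autoImplicit false
universe u
open CategoryTheory CategoryTheory.Limits DerivedCategory MonoidalCategory TensorProduct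
attribute [local instance] HasDerivedCategory.standard
attribute [local instance] MvPolynomial.algebraMvPolynomial

namespace Groth.Agent.Lib.Helper5.TorBCFlat

open Groth.Agent.Lib.Helper5.DTenLib _root_.Helper5.Gen Groth.Agent.Lib.Helper5.KProj
  Groth.Agent.Helper1.TorL Groth.Agent.Lib.Helper5.TBC Groth.Agent.Helper5.RelPCBC _root_.Helper5.Shriek
  Groth.Agent.Lib.Helper5.RelPCTorBC Groth.Agent.Helper5.PCHom Groth.Agent.Helper5.PCRes
  Groth.Agent.Helper3.PerfHom

section main

variable {R A R' A' : Type u} [CommRing R] [CommRing A]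
  [CommRing R'] [CommRing A']
  [Algebra R A] [Algebra R R'] [Algebra A A'] [Algebra R' A'] [Algebra R A']
  [IsScalarTower R A A'] [IsScalarTower R R' A'] [Algebra.IsPushout R A R' A']
  (R₀ R₀' : Type u) [CommRing R₀] [CommRing R₀']
  [Algebra R₀ R] [Algebra R₀ R₀'] [Algebra R₀' R'] [Algebra R₀ R'] [IsScalarTower R₀ R R']
  [IsScalarTower R₀ R₀' R'] [Algebra.IsPushout R₀ R R₀' R']
  [Algebra R₀ A] [IsScalarTower R₀ R A] [Module.Flat R₀ R] [Module.Flat R₀ A]

include R₀ R₀'

set_option maxHeartbeats 800000 in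
/-- base change of relative pseudo-coherence for a fixed presentation, when `R` and `A` are flat over
a ring `R₀` and the base change comes from `R₀ → R₀'` -/
theorem relpcVia_flatBC {n : ℕ} (α : MvPolynomial (Fin n) R →ₐ[R] A) (m : ℤ) (K : Dual.D A)
    (h : DerCA.IsRelPseudoCoherentVia α m K) :
    DerCA.IsRelPseudoCoherentVia (presBC R' A' α) m
      ((DRing.LBaseChange (algebraMap A A')).obj K) := by
  letI i1 : Algebra (MvPolynomial (Fin n) R) A := (α : MvPolynomial (Fin n) R →+* A).toAlgebra
  letI i2 : Algebra (MvPolynomial (Fin n) R') A' :=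
    (presBC R' A' α : MvPolynomial (Fin n) R' →+* A').toAlgebra
  letI i3 : Algebra (MvPolynomial (Fin n) R) A' :=
    ((algebraMap A A').comp (α : MvPolynomial (Fin n) R →+* A)).toAlgebra
  haveI t1 : IsScalarTower (MvPolynomial (Fin n) R) A A' := .of_algebraMap_eq (fun _ => rfl)
  haveI t2 : IsScalarTower (MvPolynomial (Fin n) R) (MvPolynomial (Fin n) R') A' :=
    .of_algebraMap_eq (fun x => (RingHom.congr_fun (presBC_comp_map (R' := R') (A' := A') α) x).symm)
  haveI t3 : IsScalarTower R (MvPolynomial (Fin n) R) A :=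
    .of_algebraMap_eq (fun r => (α.commutes r).symm)
  haveI t4 : IsScalarTower R' (MvPolynomial (Fin n) R') A' :=
    .of_algebraMap_eq (fun r => ((presBC R' A' α).commutes r).symm)
  haveI t5 : IsScalarTower R (MvPolynomial (Fin n) R') A' := .of_algebraMap_eq (fun r => by
    rw [IsScalarTower.algebraMap_apply R R' A', IsScalarTower.algebraMap_apply R R' (MvPolynomial (Fin n) R'),
      ← IsScalarTower.algebraMap_apply R' (MvPolynomial (Fin n) R') A'])
  haveI p1 : Algebra.IsPushout (MvPolynomial (Fin n) R) A (MvPolynomial (Fin n) R') A' :=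
    (Algebra.IsPushout.comp_iff R (MvPolynomial (Fin n) R) R' (MvPolynomial (Fin n) R')).1 inferInstance
  -- abbreviations
  let P := MvPolynomial (Fin n) R
  let P' := MvPolynomial (Fin n) R'
  -- the structures over `R₀`
  have e1 : ∀ r : R₀, algebraMap R₀ P' r = MvPolynomial.C (algebraMap R₀ R' r) := fun _ => rfl
  have e2 : ∀ r : R₀, algebraMap R₀ P r = MvPolynomial.C (algebraMap R₀ R r) := fun _ => rfl
  haveI s1 : IsScalarTower R₀ P P' := .of_algebraMap_eq (fun r => by
    rw [e1, e2, MvPolynomial.algebraMap_def, MvPolynomial.map_C,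
      ← IsScalarTower.algebraMap_apply R₀ R R'])
  haveI p0 : Algebra.IsPushout R₀ P R₀' P' :=
    (Algebra.IsPushout.comp_iff R₀ R R₀' (S' := R') (T := P) (T' := P')).2 inferInstance
  haveI f0 : Module.Flat R₀ P := Module.Flat.trans R₀ R P
  haveI s2 : IsScalarTower R₀ P A := .of_algebraMap_eq (fun r => by
    show algebraMap R₀ A r = α (algebraMap R₀ P r)
    rw [e2, ← MvPolynomial.algebraMap_eq, α.commutes, ← IsScalarTower.algebraMap_apply])
  have hsq : (algebraMap A A').comp (algebraMap P A) =
      (algebraMap P' A').comp (algebraMap P P') := by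
    refine RingHom.ext fun p => ?_
    show algebraMap A A' (algebraMap P A p) = algebraMap P' A' (algebraMap P P' p)
    rw [← IsScalarTower.algebraMap_apply P A A', ← IsScalarTower.algebraMap_apply P P' A']
  have hcomp : (algebraMap P P').comp (algebraMap R₀ P) =
      (algebraMap R₀' P').comp (algebraMap R₀ R₀') := by
    refine RingHom.ext fun r => ?_
    show algebraMap P P' (algebraMap R₀ P r) = algebraMap R₀' P' (algebraMap R₀ R₀' r)
    rw [← IsScalarTower.algebraMap_apply R₀ P P', ← IsScalarTower.algebraMap_apply R₀ R₀' P']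
  haveI fA : Module.Flat R₀ ((ModuleCat.restrictScalars.{u} (algebraMap R₀ P)).obj
      ((ModuleCat.restrictScalars.{u} (algebraMap P A)).obj (ModuleCat.of A A))) :=
    flat_restrictScalars₂ (R := R₀) (P := P) (A := A)
  have hA : TA (SR (algebraMap R₀ R₀')) ((ModuleCat.restrictScalars.{u} (algebraMap R₀ P)).obj
      ((ModuleCat.restrictScalars.{u} (algebraMap P A)).obj (ModuleCat.of A A))) :=
    TA.of_flat _ _
  have hcmp : IsIso (TrivBC.cmp (myAdj (algebraMap P P')) (myAdj (algebraMap A A')) hsq K) :=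
    isIso_cmp_myAdj_of_qi hsq (isCocart_of_isPushout P A P' A' hsq)
      (fun k G r hr hproj hGb =>
        quasiIso_bcCx_resolution_of_ta (algebraMap P A) hcomp
          (isCocart_of_isPushout R₀ P R₀' P' hcomp)
          (fun M hM => flat_restrictScalars M hM) hA k G r hr hproj hGb) K
  have h1 : DRing.IsPseudoCoherent P' m ((DRing.LBaseChange (algebraMap P P')).obj
      ((DRing.restrictD (algebraMap P A)).obj K)) :=
    isPseudoCoherent_LBaseChange (φ := algebraMap P P') _ m h
  exact Groth.Agent.S2087.pc_of_iso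
    (@asIso _ _ _ _ (TrivBC.cmp (myAdj (algebraMap P P')) (myAdj (algebraMap A A')) hsq K) hcmp) h1

/-- **base change of pseudo-coherent ring maps between `R₀`-flat algebras** -/
theorem pcHom_baseChange_of_flat (h : MoreMor.IsPseudoCoherentHom R A) :
    MoreMor.IsPseudoCoherentHom R' A' := by
  obtain ⟨n, α, hα, hpc⟩ := h
  obtain ⟨h1, -, -⟩ := presBC_main (R' := R') (A' := A') α hα
  have hP : PCHom α.toRingHom := (pcModule'_toAlgebra_iff α).1 hpc
  have hrel := (pchom_iff_relpc α).1 hP
  refine (pcHom_iff_of_presentation (presBC R' A' α) h1).2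
    ((pchom_iff_relpc (presBC R' A' α)).2 (fun m => ?_))
  have h2 := relpcVia_flatBC (R' := R') (A' := A') R₀ R₀' α m (Dual.inD A A) (hrel m)
  exact Groth.Agent.S2087.pc_of_iso
    ((DRing.restrictD ((presBC R' A' α : MvPolynomial (Fin n) R' →ₐ[R'] A') :
      MvPolynomial (Fin n) R' →+* A')).mapIso (lbcUnitIso (algebraMap A A'))) h2

end main

end Groth.Agent.Lib.Helper5.TorBCFlat
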