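import Mathlib
import Groth.Prelude.Def_MoreMor
import Groth.Prelude.Def_DerSch2
import Groth.Agent.Lib.Helper5.RelPC.TorBCFlat
import Groth.Agent.Lib.Helper5.RelPC.FlatLfp
import Groth.Agent.Lib.Helper5.FlatMor.PCMor
import Groth.Agent.Lib.Helper3.PCLoc6

/-!
# Products of pseudo-coherent morphisms (helper5)

* bridge between the chart form `DerSch.IsNPseudoCoherent` and `MoreMor.IsPseudoCoherentMor`;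
* `id × f₂` is pseudo-coherent when the factors of `f₂` are flat over the base;
* `f₁ × f₂` is pseudo-coherent.
-/
set_option autoImplicit false
set_option linter.style.haveILetI false
universe u
open CategoryTheory CategoryTheory.Limits AlgebraicGeometry Opposite TopologicalSpace

attribute [local instance] HasDerivedCategory.standard

namespace Groth.Agent.Lib.Helper5.ProdPC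

open Groth.Agent.Helper5.PCHom Groth.Agent.Helper5.PCRes Groth.Agent.Lib.Helper5.CPAtLib
  Groth.Agent.Helper3.PerfHom Groth.Agent.Helper3.PCLoc Groth.Agent.Lib.Helper5.TorBCFlat

section Bridge

variable {X S : Scheme.{u}}

/-- chart form ⟹ affine-local form -/
theorem pcMor_of_isNPC (f : X ⟶ S) [LocallyOfFiniteType f]
    (hf : ∀ n : ℤ, DerSch.IsNPseudoCoherent f n) : MoreMor.IsPseudoCoherentMor f := by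
  intro U V hU hV hUV
  obtain ⟨k, φ, hφ⟩ := exists_isChart f ⟨U, hU⟩ ⟨V, hV⟩ hUV
  have h : PCHom φ := pchom_of_isNPC f hf ⟨U, hU⟩ ⟨V, hV⟩ hUV φ hφ
  letI : Algebra Γ(S, V) Γ(X, U) := (f.appLE V U hUV).hom.toAlgebra
  let α : MvPolynomial (Fin k) Γ(S, V) →ₐ[Γ(S, V)] Γ(X, U) :=
    { toRingHom := φ
      commutes' := fun r => RingHom.congr_fun hφ.2 r }
  exact (pcHom_iff_of_presentation α hφ.1).2 h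

/-- affine-local form ⟹ chart form -/
theorem isNPC_of_pcMor (f : X ⟶ S) (hf : MoreMor.IsPseudoCoherentMor f) (n : ℤ) :
    DerSch.IsNPseudoCoherent f n := by
  haveI : LocallyOfFinitePresentation f := Groth.Agent.Helper5.PCMor.s7168 f hf
  haveI : LocallyOfFiniteType f := inferInstance
  apply isPseudoCoherentRel_of_cpAt
  intro U V h
  obtain ⟨k, φ, hφ⟩ := exists_isChart f U V h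
  refine ⟨k, φ, hφ, (chartPC_unit_iff U.2 φ hφ.1 n).2 ?_⟩
  letI : Algebra Γ(S, (V : S.Opens)) Γ(X, (U : X.Opens)) := (f.appLE V U h).hom.toAlgebra
  let α : MvPolynomial (Fin k) Γ(S, (V : S.Opens)) →ₐ[Γ(S, (V : S.Opens))] Γ(X, (U : X.Opens)) :=
    { toRingHom := φ
      commutes' := fun r => RingHom.congr_fun hφ.2 r }
  exact (pcHom_iff_of_presentation α hφ.1).1 (hf U V U.2 V.2 h) n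

end Bridge

section Chart

/-- affine charts of a pullback square, with prescribed opens downstairs -/
theorem affine_pushout_chart {X S X' S' : Scheme.{u}} {f : X ⟶ S} {f' : X' ⟶ S'}
    {g' : X' ⟶ X} {g : S' ⟶ S} (hc : IsPullback g' f' f g) {V : S.Opens} {U : X.Opens}
    {V' : S'.Opens} (hV : IsAffineOpen V) (hU : IsAffineOpen U) (hV' : IsAffineOpen V')
    (eUV : U ≤ f ⁻¹ᵁ V) (eV'V : V' ≤ g ⁻¹ᵁ V) :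
    IsAffineOpen (g' ⁻¹ᵁ U ⊓ f' ⁻¹ᵁ V') ∧
      IsPushout (f.appLE V U eUV) (g.appLE V V' eV'V)
        (g'.appLE U (g' ⁻¹ᵁ U ⊓ f' ⁻¹ᵁ V') inf_le_left)
        (f'.appLE V' (g' ⁻¹ᵁ U ⊓ f' ⁻¹ᵁ V') inf_le_right) := by
  have hUY : g' ⁻¹ᵁ U ⊓ f' ⁻¹ᵁ V' = g' ⁻¹ᵁ U ⊓ f' ⁻¹ᵁ V' := rfl
  haveI : IsAffine (V : Scheme.{u}) := hV
  haveI : IsAffine (U : Scheme.{u}) := hU
  haveI : IsAffine (V' : Scheme.{u}) := hV'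
  have hU' : IsAffineOpen (g' ⁻¹ᵁ U ⊓ f' ⁻¹ᵁ V') :=
    .of_isIso (Scheme.Hom.isPullback_resLE hc eV'V eUV hUY).isoPullback.hom
  haveI := isIso_pushoutSection_of_isAffineOpen hc eV'V eUV hUY hV hV' hU
  exact ⟨hU', (isIso_pushoutSection_iff hc eV'V eUV hUY).1 inferInstance⟩

end Chart

section Right

set_option maxHeartbeats 1600000 in
/-- `id × f₂` is pseudo-coherent when `f₂ : X₂ ⟶ Y₂` is and `X₂`, `Y₂` are flat over the base -/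
theorem pcMor_prod_right {S Y₁ Y₂ X₂ Y Z : Scheme.{u}} (q₁ : Y₁ ⟶ S) (q₂ : Y₂ ⟶ S) (f₂ : X₂ ⟶ Y₂)
    [Flat q₂] [Flat (f₂ ≫ q₂)]
    {pY₁ : Y ⟶ Y₁} {pY₂ : Y ⟶ Y₂} (hY : IsPullback pY₁ pY₂ q₁ q₂)
    {pZ₂ : Z ⟶ X₂} {v : Z ⟶ Y} (hv : IsPullback pZ₂ v f₂ pY₂)
    (hf₂ : MoreMor.IsPseudoCoherentMor f₂) : MoreMor.IsPseudoCoherentMor v := by
  rw [S7166_main]
  intro z
  obtain ⟨S₀, hS₀, hzS₀, -⟩ := TopologicalSpace.Opens.isBasis_iff_nbhd.mp S.isBasis_affineOpens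
    (TopologicalSpace.Opens.mem_top (q₂ (f₂ (pZ₂ z))))
  obtain ⟨V, hV, hzV, eVS⟩ := TopologicalSpace.Opens.isBasis_iff_nbhd.mp Y₂.isBasis_affineOpens
    (show f₂ (pZ₂ z) ∈ q₂ ⁻¹ᵁ S₀ from hzS₀)
  obtain ⟨U, hU, hzU, eUV⟩ := TopologicalSpace.Opens.isBasis_iff_nbhd.mp X₂.isBasis_affineOpens
    (show pZ₂ z ∈ f₂ ⁻¹ᵁ V from hzV)
  have hw2 : pY₂ (v z) = f₂ (pZ₂ z) := by
    have := congrArg (fun φ : Z ⟶ Y₂ => φ z) hv.w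
    simpa using this.symm
  have hw1 : q₁ (pY₁ (v z)) = q₂ (f₂ (pZ₂ z)) := by
    have := congrArg (fun φ : Y ⟶ S => φ (v z)) hY.w
    rw [← hw2]
    simpa using this
  obtain ⟨W₁, hW₁, hzW₁, eWS⟩ := TopologicalSpace.Opens.isBasis_iff_nbhd.mp Y₁.isBasis_affineOpens
    (show pY₁ (v z) ∈ q₁ ⁻¹ᵁ S₀ from (by
      show q₁ (pY₁ (v z)) ∈ S₀
      rw [hw1]
      exact hzS₀))
  obtain ⟨hV', hpo1⟩ := affine_pushout_chart hY hS₀ hW₁ hV eWS eVS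
  obtain ⟨hU', hpo2⟩ := affine_pushout_chart hv hV hU hV' eUV inf_le_right
  refine ⟨pZ₂ ⁻¹ᵁ U ⊓ v ⁻¹ᵁ (pY₁ ⁻¹ᵁ W₁ ⊓ pY₂ ⁻¹ᵁ V), pY₁ ⁻¹ᵁ W₁ ⊓ pY₂ ⁻¹ᵁ V, inf_le_right,
    hU', hV', ⟨hzU, ⟨hzW₁, ?_⟩⟩, ?_⟩
  · show pY₂ (v z) ∈ V
    rw [hw2]
    exact hzV
  · letI a1 : Algebra Γ(S, S₀) Γ(Y₂, V) := (q₂.appLE S₀ V eVS).hom.toAlgebra
    letI a2 : Algebra Γ(S, S₀) Γ(Y₁, W₁) := (q₁.appLE S₀ W₁ eWS).hom.toAlgebra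
    letI a3 : Algebra Γ(Y₁, W₁) Γ(Y, pY₁ ⁻¹ᵁ W₁ ⊓ pY₂ ⁻¹ᵁ V) :=
      (pY₁.appLE W₁ (pY₁ ⁻¹ᵁ W₁ ⊓ pY₂ ⁻¹ᵁ V) inf_le_left).hom.toAlgebra
    letI a4 : Algebra Γ(Y₂, V) Γ(Y, pY₁ ⁻¹ᵁ W₁ ⊓ pY₂ ⁻¹ᵁ V) :=
      (pY₂.appLE V (pY₁ ⁻¹ᵁ W₁ ⊓ pY₂ ⁻¹ᵁ V) inf_le_right).hom.toAlgebra
    letI a5 : Algebra Γ(S, S₀) Γ(Y, pY₁ ⁻¹ᵁ W₁ ⊓ pY₂ ⁻¹ᵁ V) :=
      ((pY₂.appLE V (pY₁ ⁻¹ᵁ W₁ ⊓ pY₂ ⁻¹ᵁ V) inf_le_right).hom.comp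
        (q₂.appLE S₀ V eVS).hom).toAlgebra
    haveI t1 : IsScalarTower Γ(S, S₀) Γ(Y₂, V) Γ(Y, pY₁ ⁻¹ᵁ W₁ ⊓ pY₂ ⁻¹ᵁ V) :=
      IsScalarTower.of_algebraMap_eq (fun _ => rfl)
    haveI t2 : IsScalarTower Γ(S, S₀) Γ(Y₁, W₁) Γ(Y, pY₁ ⁻¹ᵁ W₁ ⊓ pY₂ ⁻¹ᵁ V) :=
      IsScalarTower.of_algebraMap_eq (fun x => by
        have := congrArg (fun φ => φ.hom x) hpo1.w
        exact this.symm)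
    have hpoA1 : Algebra.IsPushout Γ(S, S₀) Γ(Y₁, W₁) Γ(Y₂, V) Γ(Y, pY₁ ⁻¹ᵁ W₁ ⊓ pY₂ ⁻¹ᵁ V) :=
      CommRingCat.isPushout_iff_isPushout.1 hpo1
    haveI hpoA1' : Algebra.IsPushout Γ(S, S₀) Γ(Y₂, V) Γ(Y₁, W₁) Γ(Y, pY₁ ⁻¹ᵁ W₁ ⊓ pY₂ ⁻¹ᵁ V) :=
      hpoA1.symm
    letI b1 : Algebra Γ(Y₂, V) Γ(X₂, U) := (f₂.appLE V U eUV).hom.toAlgebra
    letI b2 : Algebra Γ(X₂, U) Γ(Z, pZ₂ ⁻¹ᵁ U ⊓ v ⁻¹ᵁ (pY₁ ⁻¹ᵁ W₁ ⊓ pY₂ ⁻¹ᵁ V)) :=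
      (pZ₂.appLE U (pZ₂ ⁻¹ᵁ U ⊓ v ⁻¹ᵁ (pY₁ ⁻¹ᵁ W₁ ⊓ pY₂ ⁻¹ᵁ V)) inf_le_left).hom.toAlgebra
    letI b3 : Algebra Γ(Y, pY₁ ⁻¹ᵁ W₁ ⊓ pY₂ ⁻¹ᵁ V)
        Γ(Z, pZ₂ ⁻¹ᵁ U ⊓ v ⁻¹ᵁ (pY₁ ⁻¹ᵁ W₁ ⊓ pY₂ ⁻¹ᵁ V)) :=
      (v.appLE (pY₁ ⁻¹ᵁ W₁ ⊓ pY₂ ⁻¹ᵁ V) (pZ₂ ⁻¹ᵁ U ⊓ v ⁻¹ᵁ (pY₁ ⁻¹ᵁ W₁ ⊓ pY₂ ⁻¹ᵁ V))
        inf_le_right).hom.toAlgebra
    letI b4 : Algebra Γ(Y₂, V) Γ(Z, pZ₂ ⁻¹ᵁ U ⊓ v ⁻¹ᵁ (pY₁ ⁻¹ᵁ W₁ ⊓ pY₂ ⁻¹ᵁ V)) :=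
      ((v.appLE (pY₁ ⁻¹ᵁ W₁ ⊓ pY₂ ⁻¹ᵁ V) (pZ₂ ⁻¹ᵁ U ⊓ v ⁻¹ᵁ (pY₁ ⁻¹ᵁ W₁ ⊓ pY₂ ⁻¹ᵁ V))
        inf_le_right).hom.comp
        (pY₂.appLE V (pY₁ ⁻¹ᵁ W₁ ⊓ pY₂ ⁻¹ᵁ V) inf_le_right).hom).toAlgebra
    haveI u1 : IsScalarTower Γ(Y₂, V) Γ(Y, pY₁ ⁻¹ᵁ W₁ ⊓ pY₂ ⁻¹ᵁ V)
        Γ(Z, pZ₂ ⁻¹ᵁ U ⊓ v ⁻¹ᵁ (pY₁ ⁻¹ᵁ W₁ ⊓ pY₂ ⁻¹ᵁ V)) :=
      IsScalarTower.of_algebraMap_eq (fun _ => rfl)
    haveI u2 : IsScalarTower Γ(Y₂, V) Γ(X₂, U)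
        Γ(Z, pZ₂ ⁻¹ᵁ U ⊓ v ⁻¹ᵁ (pY₁ ⁻¹ᵁ W₁ ⊓ pY₂ ⁻¹ᵁ V)) :=
      IsScalarTower.of_algebraMap_eq (fun x => by
        have := congrArg (fun φ => φ.hom x) hpo2.w
        exact this.symm)
    haveI hpoA2 : Algebra.IsPushout Γ(Y₂, V) Γ(X₂, U) Γ(Y, pY₁ ⁻¹ᵁ W₁ ⊓ pY₂ ⁻¹ᵁ V)
        Γ(Z, pZ₂ ⁻¹ᵁ U ⊓ v ⁻¹ᵁ (pY₁ ⁻¹ᵁ W₁ ⊓ pY₂ ⁻¹ᵁ V)) :=
      CommRingCat.isPushout_iff_isPushout.1 hpo2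
    letI c1 : Algebra Γ(S, S₀) Γ(X₂, U) :=
      ((f₂.appLE V U eUV).hom.comp (q₂.appLE S₀ V eVS).hom).toAlgebra
    haveI w1 : IsScalarTower Γ(S, S₀) Γ(Y₂, V) Γ(X₂, U) :=
      IsScalarTower.of_algebraMap_eq (fun _ => rfl)
    haveI fl1 : Module.Flat Γ(S, S₀) Γ(Y₂, V) := Flat.flat_appLE q₂ hS₀ hV eVS
    haveI fl2 : Module.Flat Γ(S, S₀) Γ(X₂, U) := by
      have e := Scheme.Hom.appLE_comp_appLE f₂ q₂ S₀ V U eVS eUV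
      have hfl := Flat.flat_appLE (f₂ ≫ q₂) hS₀ hU
        (eUV.trans ((TopologicalSpace.Opens.map f₂.base).map (homOfLE eVS)).le)
      rw [← e] at hfl
      exact hfl
    exact pcHom_baseChange_of_flat Γ(S, S₀) Γ(Y₁, W₁) (hf₂ U V hU hV eUV)

end Right

section Main

/-- **the product of two pseudo-coherent morphisms is pseudo-coherent** (second factor flat) -/
theorem pcMor_prod {S X₁ Y₁ X₂ Y₂ X Y : Scheme.{u}} (f₁ : X₁ ⟶ Y₁) (q₁ : Y₁ ⟶ S)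
    (f₂ : X₂ ⟶ Y₂) (q₂ : Y₂ ⟶ S) [Flat q₂] [Flat (f₂ ≫ q₂)]
    (pX₁ : X ⟶ X₁) (pX₂ : X ⟶ X₂) (hX : IsPullback pX₁ pX₂ (f₁ ≫ q₁) (f₂ ≫ q₂))
    (pY₁ : Y ⟶ Y₁) (pY₂ : Y ⟶ Y₂) (hY : IsPullback pY₁ pY₂ q₁ q₂)
    (f : X ⟶ Y) (hf₁ : f ≫ pY₁ = pX₁ ≫ f₁) (hf₂ : f ≫ pY₂ = pX₂ ≫ f₂)
    (m₁ : MoreMor.IsPseudoCoherentMor f₁) (m₂ : MoreMor.IsPseudoCoherentMor f₂) :
    MoreMor.IsPseudoCoherentMor f := by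
  have hZ : IsPullback (pullback.fst q₁ (f₂ ≫ q₂)) (pullback.snd q₁ (f₂ ≫ q₂)) q₁ (f₂ ≫ q₂) :=
    IsPullback.of_hasPullback _ _
  let u : X ⟶ pullback q₁ (f₂ ≫ q₂) :=
    pullback.lift (pX₁ ≫ f₁) pX₂ (by rw [Category.assoc]; exact hX.w)
  have hu₁ : u ≫ pullback.fst q₁ (f₂ ≫ q₂) = pX₁ ≫ f₁ := pullback.lift_fst _ _ _
  have hu₂ : u ≫ pullback.snd q₁ (f₂ ≫ q₂) = pX₂ := pullback.lift_snd _ _ _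
  let v : pullback q₁ (f₂ ≫ q₂) ⟶ Y :=
    hY.lift (pullback.fst q₁ (f₂ ≫ q₂)) (pullback.snd q₁ (f₂ ≫ q₂) ≫ f₂)
      (by rw [Category.assoc]; exact hZ.w)
  have hv₁ : v ≫ pY₁ = pullback.fst q₁ (f₂ ≫ q₂) := hY.lift_fst _ _ _
  have hv₂ : v ≫ pY₂ = pullback.snd q₁ (f₂ ≫ q₂) ≫ f₂ := hY.lift_snd _ _ _
  have hfuv : f = u ≫ v := by
    apply hY.hom_ext
    · rw [hf₁, Category.assoc, hv₁, hu₁]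
    · rw [hf₂, Category.assoc, hv₂, ← Category.assoc, hu₂]
  have hsqu : IsPullback pX₁ u f₁ (pullback.fst q₁ (f₂ ≫ q₂)) :=
    IsPullback.of_bot (by rw [hu₂]; exact hX) hu₁.symm hZ
  haveI : Flat (pullback.fst q₁ (f₂ ≫ q₂)) :=
    MorphismProperty.pullback_fst (P := @Flat) q₁ (f₂ ≫ q₂) inferInstance
  have mu : MoreMor.IsPseudoCoherentMor u := S7167_main f₁ u pX₁ (pullback.fst q₁ (f₂ ≫ q₂)) hsqu m₁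
  have hsqv : IsPullback (pullback.snd q₁ (f₂ ≫ q₂)) v f₂ pY₂ :=
    IsPullback.of_bot (by rw [hv₁]; exact hZ.flip) hv₂.symm hY.flip
  have mv : MoreMor.IsPseudoCoherentMor v := pcMor_prod_right q₁ q₂ f₂ hY hsqv m₂
  rw [hfuv]
  exact S1504_main u v mu mv

/-- **S6260** -/
theorem isNPC_prod {S X₁ Y₁ X₂ Y₂ X Y : Scheme.{u}} (f₁ : X₁ ⟶ Y₁) (q₁ : Y₁ ⟶ S)
    (f₂ : X₂ ⟶ Y₂) (q₂ : Y₂ ⟶ S) [Flat q₂] [Flat (f₂ ≫ q₂)]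
    (pX₁ : X ⟶ X₁) (pX₂ : X ⟶ X₂) (hX : IsPullback pX₁ pX₂ (f₁ ≫ q₁) (f₂ ≫ q₂))
    (pY₁ : Y ⟶ Y₁) (pY₂ : Y ⟶ Y₂) (hY : IsPullback pY₁ pY₂ q₁ q₂)
    (f : X ⟶ Y) (hf₁ : f ≫ pY₁ = pX₁ ≫ f₁) (hf₂ : f ≫ pY₂ = pX₂ ≫ f₂)
    [LocallyOfFiniteType f₁] [LocallyOfFiniteType f₂]
    (h₁ : ∀ n : ℤ, DerSch.IsNPseudoCoherent f₁ n) (h₂ : ∀ n : ℤ, DerSch.IsNPseudoCoherent f₂ n)
    (n : ℤ) : DerSch.IsNPseudoCoherent f n :=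
  isNPC_of_pcMor f (pcMor_prod f₁ q₁ f₂ q₂ pX₁ pX₂ hX pY₁ pY₂ hY f hf₁ hf₂
    (pcMor_of_isNPC f₁ h₁) (pcMor_of_isNPC f₂ h₂)) n

end Main

end Groth.Agent.Lib.Helper5.ProdPC
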