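import Mathlib
import Groth.Prelude.Def_DerSch2
import Groth.Agent.Lib.Helper5.Perf.PCBiprod

/-!
# Relative pseudo-coherence (chart form): direct summands (helper5)
-/
set_option autoImplicit false
set_option linter.style.haveILetI false
set_option linter.unusedSectionVars false
set_option linter.unusedVariables false
universe u
open CategoryTheory CategoryTheory.Limits AlgebraicGeometry Opposite TopologicalSpace
attribute [local instance] HasDerivedCategory.standard

namespace Groth.Agent.Lib.Helper5.RelPC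

variable {X Y : Scheme.{u}}

/-- the functor "restrict to `U`, push forward along the chart, localize" -/
noncomputable abbrev chartFun (U : X.Opens) {R : Type u} [CommRing R] {n : ℕ}
    (φ : MvPolynomial (Fin n) R →+* Γ(X, U)) :
    CochainComplex X.Modules ℤ ⥤ DCoh.D (Spec (CommRingCat.of (MvPolynomial (Fin n) R))) :=
  DCoh.restrictCx U ⋙ DerSch.pushCx (DerSch.chartImm U φ) ⋙ DerivedCategory.Q

instance (U : X.Opens) {R : Type u} [CommRing R] {n : ℕ}
    (φ : MvPolynomial (Fin n) R →+* Γ(X, U)) : (chartFun U φ).Additive := by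
  dsimp only [chartFun]
  infer_instance

theorem chartPC_of_biprod {m : ℤ} {E K : DCoh.D X} [HasBinaryBiproduct E K]
    {U : X.Opens} {V : Y.Opens} {n : ℕ}
    (φ : MvPolynomial (Fin n) Γ(Y, V) →+* Γ(X, U))
    (h : DerSch.ChartPC m (E ⊞ K) U V φ) :
    DerSch.ChartPC m E U V φ ∧ DerSch.ChartPC m K U V φ := by
  have key : ∀ (G G' : CochainComplex X.Modules ℤ), Nonempty (DCoh.toD X G ≅ E) →
      Nonempty (DCoh.toD X G' ≅ K) →
      DCoh.IsPseudoCoherentD m ((chartFun U φ).obj G) ∧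
        DCoh.IsPseudoCoherentD m ((chartFun U φ).obj G') := by
    rintro G G' ⟨e⟩ ⟨e'⟩
    haveI : PreservesBinaryBiproducts (DerivedCategory.Q (C := X.Modules)) :=
      preservesBinaryBiproducts_of_preservesBiproducts _
    haveI : PreservesBinaryBiproducts (chartFun U φ) :=
      preservesBinaryBiproducts_of_preservesBiproducts _
    have e'' : DCoh.toD X (G ⊞ G') ≅ E ⊞ K :=
      (DerivedCategory.Q).mapBiprod G G' ≪≫ biprod.mapIso e e'
    have h1 := h (G ⊞ G') ⟨e''⟩
    exact Groth.Agent.Lib.Helper5.PCBiprod.isPC_of_isBilimit m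
      ((chartFun U φ).mapBinaryBicone (BinaryBiproduct.bicone G G'))
      (isBinaryBilimitOfPreserves _ (BinaryBiproduct.isBilimit G G')) h1
  constructor
  · intro G hG
    exact (key G (DerivedCategory.Q.objPreimage K) hG
      ⟨DerivedCategory.Q.objObjPreimageIso K⟩).1
  · intro G' hG'
    exact (key (DerivedCategory.Q.objPreimage E) G'
      ⟨DerivedCategory.Q.objObjPreimageIso E⟩ hG').2

theorem isPseudoCoherentRel_of_biprod (f : X ⟶ Y) (m : ℤ) (E K : DCoh.D X)
    [HasBinaryBiproduct E K] (h : DerSch.IsPseudoCoherentRel f m (E ⊞ K)) :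
    DerSch.IsPseudoCoherentRel f m E ∧ DerSch.IsPseudoCoherentRel f m K := by
  obtain ⟨hft, 𝒱, h𝒱, H⟩ := h
  constructor
  · refine ⟨hft, 𝒱, h𝒱, fun V hV => ?_⟩
    obtain ⟨𝒰, h𝒰, H'⟩ := H V hV
    refine ⟨𝒰, h𝒰, fun U hU hle => ?_⟩
    obtain ⟨n, φ, hφ, hpc⟩ := H' U hU hle
    exact ⟨n, φ, hφ, (chartPC_of_biprod φ hpc).1⟩
  · refine ⟨hft, 𝒱, h𝒱, fun V hV => ?_⟩
    obtain ⟨𝒰, h𝒰, H'⟩ := H V hV
    refine ⟨𝒰, h𝒰, fun U hU hle => ?_⟩
    obtain ⟨n, φ, hφ, hpc⟩ := H' U hU hle
    exact ⟨n, φ, hφ, (chartPC_of_biprod φ hpc).2⟩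

end Groth.Agent.Lib.Helper5.RelPC
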